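import Cfsg.Agent.Lib.Large.SzReal
import Cfsg.Agent.Lib.Suzuki.Basic
import Cfsg.Agent.Lib.GeomClasses.Symp
import Cfsg.Prelude.Def_GeometricClasses

/-!
Involutions of the four-dimensional symplectic group in characteristic two: transvections, their images under
the exceptional endomorphism `g ↦ g*`, and the remaining class, whose centralisers are `2`-groups.
-/

set_option autoImplicit false

open scoped MatrixGroups Matrix

namespace CfsgLib.Sp4Resid

open Matrix Cfsg.Lie CfsgLib.SuzukiGroup CfsgLib.Large.SzReal CfsgLib.GeomClasses CfsgLib.GeomClasses.Symp Module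

variable {F : Type*} [Field F] [CharP F 2]

scoped notation "Gl" => GL (Fin 4)
local notation "f4" => (altForm4 : (Fin 4 → F) → (Fin 4 → F) → F)
local notation "M4" => Matrix (Fin 4) (Fin 4) F

theorem isSymp : Cfsg.Geo.IsSymplecticForm f4 where
  bilinear :=
    { add_left := fun x y v => by simp [altForm4]; ring
      smul_left := fun c x v => by simp [altForm4]; ring
      add_right := fun v x y => by simp [altForm4]; ring
      smul_right := fun c v x => by simp [altForm4]; ring }
  skew := fun v w => by simp only [altForm4, CharTwo.neg_eq]; ring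
  alternating := fun v => by
    simp only [altForm4]
    linear_combination (v 0 * v 3 + v 1 * v 2) * (CharTwo.two_eq_zero (R := F))
  nondegenerate := fun v hv => by
    obtain ⟨u, hu⟩ := CfsgLib.Recog.SuzukiFixedPointFree.exists_pair hv
    have hu' : altForm4 u v ≠ 0 := by
      rw [CfsgLib.Recog.SuzukiFixedPointFree.altForm4_comm, hu]; exact one_ne_zero
    exact ⟨⟨u, by first | exact hu' | exact hu ▸ one_ne_zero⟩, ⟨u, by first | exact hu' | exact hu ▸ one_ne_zero⟩⟩

omit [CharP F 2] in
theorem mem_iff {g : GL (Fin 4) F} : g ∈ Sp4 F ↔ IsIsometry f4 g := Iff.rfl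

omit [CharP F 2] in
theorem f4_comm (u v : Fin 4 → F) : altForm4 u v = altForm4 v u := by simp [altForm4]; ring

theorem eq_zero_of_pair {v : Fin 4 → F} (h : ∀ y, altForm4 v y = 0) : v = 0 := by
  by_contra hv
  obtain ⟨⟨u, hu⟩, -⟩ := (isSymp (F := F)).nondegenerate v hv
  exact hu ((f4_comm _ _).trans (h u))

theorem formTv_mem (u : Fin 4 → F) (c : F) : formTv f4 u c ∈ Sp4 F := formTv_isometry isSymp u c

theorem formTv_coe (u : Fin 4 → F) (c : F) :
    (formTv f4 u c : M4) = 1 + Matrix.of fun i j => c * u i * u j.rev := by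
  refine Matrix.ext_of_mulVec_single fun r => ?_
  rw [formTv_mulVec isSymp, add_mulVec, one_mulVec]
  congr 1
  funext i
  fin_cases r <;> simp [mulVec, dotProduct, Fin.sum_univ_four, altForm4, Fin.rev, Pi.single_apply] <;> ring

/-! ### The endomorphism -/

theorem starUnit_mul {g : GL (Fin 4) F} (hg : g ∈ Sp4 F) :
    star4 (g : M4) * star4 ((g⁻¹ : GL (Fin 4) F) : M4) = 1 := by
  rw [← Suzuki.star4_mul hg (inv_mem hg), ← Units.val_mul, mul_inv_cancel, Units.val_one, Suzuki.star4_one]

/-- The exceptional endomorphism. -/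
noncomputable def starHom : ↥(Sp4 F) →* ↥(Sp4 F) where
  toFun g :=
    ⟨⟨star4 ((g : GL (Fin 4) F) : M4), star4 (((g : GL (Fin 4) F)⁻¹ : GL (Fin 4) F) : M4), starUnit_mul g.2,
      mul_eq_one_comm.1 (starUnit_mul g.2)⟩,
     (SuzukiGroup.mem_sp4_iff _).2 (colSymp_star4 ((SuzukiGroup.mem_sp4_iff _).1 g.2))⟩
  map_one' := Subtype.ext (Units.ext Suzuki.star4_one)
  map_mul' g h := Subtype.ext (Units.ext (Suzuki.star4_mul g.2 h.2))

theorem starHom_coe (g : ↥(Sp4 F)) :
    ((starHom g : GL (Fin 4) F) : M4) = star4 ((g : GL (Fin 4) F) : M4) := rfl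

theorem starHom_starHom (g : ↥(Sp4 F)) :
    ((starHom (starHom g) : GL (Fin 4) F) : M4) = ((g : GL (Fin 4) F) : M4).map (fun a => a ^ 2) :=
  star4_star4 ((SuzukiGroup.mem_sp4_iff _).1 g.2)

theorem starHom_injective : Function.Injective (starHom (F := F)) := by
  intro g h e
  have h1 := starHom_starHom g
  rw [e, starHom_starHom] at h1
  exact Subtype.ext (Units.ext (Matrix.ext fun i j =>
    CharTwo.sq_injective (congrFun (congrFun h1 i) j).symm))

/-! ### Involutions -/

/-- The two-dimensional root element. -/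
def aMat (u w : Fin 4 → F) : M4 :=
  1 + Matrix.of fun i j => u i * w j.rev + w i * u j.rev

omit [CharP F 2] in
theorem aMat_mulVec (u w x : Fin 4 → F) : aMat u w *ᵥ x = x + (altForm4 x w • u + altForm4 x u • w) := by
  rw [aMat, add_mulVec, one_mulVec]
  congr 1
  funext i
  simp [mulVec, dotProduct, Fin.sum_univ_four, altForm4, Fin.rev]
  ring

theorem star4_aMat {u w : Fin 4 → F} (h : altForm4 u w = 0) :
    star4 (aMat u w) = (formTv f4 (wedge u w) 1 : M4) := by
  apply Matrix.ext
  intro p r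
  rw [formTv_coe]
  simp only [altForm4] at h
  fin_cases p <;> fin_cases r <;>
    simp [star4, aMat, pairOf, wedge, Fin.rev, Matrix.one_apply] <;> grind

set_option maxRecDepth 4000 in
theorem star4_formTv_alt (u : Fin 4 → F) (x : Fin 4 → F) :
    altForm4 (star4 (formTv f4 u 1 : M4) *ᵥ x) x = 0 := by
  rw [formTv_coe]
  simp only [altForm4, star4, mulVec, dotProduct, Fin.sum_univ_four, Matrix.of_apply, pairOf,
    Matrix.cons_val_zero, Matrix.cons_val_one, Matrix.cons_val, Matrix.add_apply, Matrix.one_apply]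
  simp [Fin.rev]
  grind

/-- An involution whose deviation has rank two. -/
def IsTwo (g : GL (Fin 4) F) : Prop :=
  (g : M4) * g = 1 ∧ ∀ u : Fin 4 → F, ∃ z, ∀ c : F, (g : M4) *ᵥ z + z ≠ c • u

/-- An involution in the class with unipotent centraliser. -/
def IsC (g : GL (Fin 4) F) : Prop :=
  IsTwo g ∧ ∃ v, altForm4 ((g : M4) *ᵥ v) v ≠ 0

section invol

variable {g : GL (Fin 4) F} (hg : g ∈ Sp4 F) (h2 : (g : Matrix (Fin 4) (Fin 4) F) * g = 1)
include hg h2

theorem dev_adjoint (x y : Fin 4 → F) :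
    altForm4 ((g : M4) *ᵥ x + x) y = altForm4 x ((g : M4) *ᵥ y + y) := by
  rw [(isSymp (F := F)).bilinear.add_left, (isSymp (F := F)).bilinear.add_right]
  congr 1
  have h := hg x ((g : M4) *ᵥ y)
  simp only [Units.coeHom_apply] at h
  rw [mulVec_mulVec, h2, one_mulVec] at h
  exact h

omit hg in
theorem dev_dev (x : Fin 4 → F) : (g : M4) *ᵥ ((g : M4) *ᵥ x + x) + ((g : M4) *ᵥ x + x) = 0 := by
  rw [mulVec_add, mulVec_mulVec, h2, one_mulVec, add_comm x, CharTwo.add_self_eq_zero]

omit hg in
theorem fix_dev (x : Fin 4 → F) : (g : M4) *ᵥ ((g : M4) *ᵥ x + x) = (g : M4) *ᵥ x + x :=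
  CharTwo.add_eq_zero.1 (dev_dev h2 x)

theorem dev_isotropic (x y : Fin 4 → F) :
    altForm4 ((g : M4) *ᵥ x + x) ((g : M4) *ᵥ y + y) = 0 := by
  rw [dev_adjoint hg h2, dev_dev h2, Symp.zero_right isSymp]

end invol

end CfsgLib.Sp4Resid
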