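import Cfsg.Agent.Lib.Sp4Resid.Graph

/-!
The vectors of the transvections of a simple group without invariant isotropic subspace span the space and
are connected by non-orthogonality.
-/

set_option autoImplicit false

open scoped MatrixGroups Matrix

namespace CfsgLib.Sp4Resid

open Matrix Cfsg.Lie CfsgLib.GeomClasses CfsgLib.GeomClasses.Symp Module

variable {F : Type*} [Field F] [CharP F 2]

local notation "f4" => (altForm4 : (Fin 4 → F) → (Fin 4 → F) → F)
local notation "M4" => Matrix (Fin 4) (Fin 4) F

/-- No non-zero totally isotropic subspace is invariant. -/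
def NoIso (G : Subgroup (GL (Fin 4) F)) : Prop :=
  ∀ U : Submodule F (Fin 4 → F), (∀ u ∈ U, ∀ v ∈ U, altForm4 u v = 0) →
    (∀ g ∈ G, ∀ u ∈ U, (g : M4) *ᵥ u ∈ U) → U = ⊥

theorem NoIso.no_fixed {G : Subgroup (GL (Fin 4) F)} (h : NoIso G) {v : Fin 4 → F}
    (hv : ∀ g ∈ G, (g : M4) *ᵥ v = v) : v = 0 := by
  refine Submodule.span_singleton_eq_bot.1 (h (Submodule.span F {v}) (fun a ha b hb => ?_) fun g hg u hu => ?_)
  · obtain ⟨c, rfl⟩ := Submodule.mem_span_singleton.1 ha
    obtain ⟨d, rfl⟩ := Submodule.mem_span_singleton.1 hb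
    rw [Symp.smul_left isSymp, Symp.smul_right isSymp, (isSymp (F := F)).alternating, mul_zero, mul_zero]
  · obtain ⟨c, rfl⟩ := Submodule.mem_span_singleton.1 hu
    rw [mulVec_smul, hv g hg]
    exact Submodule.smul_mem _ _ (Submodule.mem_span_singleton_self v)

/-- The setting: a simple group of isometries with a transvection and no invariant isotropic subspace. -/
structure Setup (G : Subgroup (GL (Fin 4) F)) : Prop where
  le : G ≤ Sp4 F
  simple : IsSimpleGroup ↥G
  noIso : NoIso G
  nonempty : (cent G).Nonempty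

/-- Non-orthogonality inside the vectors of the group. -/
def Adj (G : Subgroup (GL (Fin 4) F)) (u w : Fin 4 → F) : Prop :=
  u ∈ cent G ∧ w ∈ cent G ∧ altForm4 u w ≠ 0

variable {G : Subgroup (GL (Fin 4) F)} (S : Setup G)
include S

theorem Setup.eq_top_of_stable (C : Set (Fin 4 → F)) (hne : ∃ u ∈ C, u ≠ 0) (hC : C ⊆ cent G)
    (hout : ∀ z ∈ cent G, z ∉ C → ∀ u ∈ C, altForm4 u z = 0) : Submodule.span F C = ⊤ := by
  haveI := S.simple
  set U := Submodule.span F C with hU
  have hgen := closure_cent_eq S.le S.nonempty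
  have hinv : ∀ g ∈ G, ∀ u ∈ U, (g : M4) *ᵥ u ∈ U := by
    intro g hg
    rw [← hgen] at hg
    induction hg using Subgroup.closure_induction with
    | mem g hg =>
      obtain ⟨z, hz, rfl⟩ := hg
      intro u hu
      rw [Tv_mulVec]
      by_cases hzC : z ∈ C
      · exact U.add_mem hu (U.smul_mem _ (Submodule.subset_span hzC))
      · have h0 : altForm4 u z = 0 := by
          induction hu using Submodule.span_induction with
          | mem x hx => exact hout z hz hzC x hx
          | zero => exact Symp.zero_left isSymp _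
          | add a b _ _ ha hb => rw [Symp.add_left isSymp, ha, hb, add_zero]
          | smul c a _ ha => rw [Symp.smul_left isSymp, ha, mul_zero]
        rw [h0, zero_smul, add_zero]
        exact hu
    | one => intro u hu; rwa [Units.val_one, one_mulVec]
    | mul a b _ _ ha hb => intro u hu; rw [gl_mul_mulVec]; exact ha _ (hb u hu)
    | inv a _ ha =>
      intro u hu
      have hle : U.map (Matrix.mulVecLin (a : M4)) ≤ U := by
        rintro _ ⟨v, hv, rfl⟩
        exact ha v hv
      have heq : U.map (Matrix.mulVecLin (a : M4)) = U := by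
        refine Submodule.eq_of_le_of_finrank_eq hle (LinearEquiv.finrank_eq ?_).symm
        refine Submodule.equivMapOfInjective _ (fun x y e => ?_) U
        have := congrArg (fun v => ((a⁻¹ : GL (Fin 4) F) : M4) *ᵥ v) e
        simpa [gl_inv_mulVec_mulVec] using this
      obtain ⟨v, hv, e⟩ := heq.ge hu
      rw [← e, Matrix.mulVecLin_apply, gl_inv_mulVec_mulVec]
      exact hv
  set B := Symp.bil (isSymp (F := F))
  have hiso : ∀ g ∈ G, ∀ u ∈ B.orthogonal U, (g : M4) *ᵥ u ∈ B.orthogonal U := by
    intro g hg u hu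
    rw [LinearMap.BilinForm.mem_orthogonal_iff] at hu ⊢
    intro y hy
    show altForm4 y ((g : M4) *ᵥ u) = 0
    have h1 : altForm4 (((g⁻¹ : GL (Fin 4) F) : M4) *ᵥ y) u = 0 := hu _ (hinv g⁻¹ (G.inv_mem hg) y hy)
    have h2 : altForm4 y ((g : M4) *ᵥ u) = altForm4 (((g⁻¹ : GL (Fin 4) F) : M4) *ᵥ y) u := by
      have := (S.le (G.inv_mem hg)) y ((g : M4) *ᵥ u)
      simp only [Units.coeHom_apply, gl_inv_mulVec_mulVec] at this
      exact this.symm
    rw [h2, h1]
  have hrad : U ⊓ B.orthogonal U = ⊥ := S.noIso _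
    (fun u hu v hv => LinearMap.BilinForm.mem_orthogonal_iff.1 hv.2 u hu.1)
    fun g hg u hu => ⟨hinv g hg u hu.1, hiso g hg u hu.2⟩
  by_contra htop
  obtain ⟨u₀, hu₀, hu₀0⟩ := hne
  -- the transvections act trivially on the orthogonal
  have hperp : B.orthogonal U ≠ ⊥ := by
    intro e
    apply htop
    have h := LinearMap.BilinForm.finrank_orthogonal (Symp.bil_nondegenerate (isSymp (F := F))) U
    rw [e, finrank_bot] at h
    have h2 := Submodule.finrank_le U
    exact Submodule.eq_top_of_finrank_eq (by omega)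
  by_cases hall : ∀ z ∈ cent G, z ∈ U
  · obtain ⟨r, hr, hr0⟩ := Submodule.exists_mem_ne_zero_of_ne_bot hperp
    refine hr0 (S.noIso.no_fixed fun g hg => ?_)
    rw [← hgen] at hg
    induction hg using Subgroup.closure_induction with
    | mem g hg =>
      obtain ⟨z, hz, rfl⟩ := hg
      have : altForm4 r z = 0 :=
        (f4_comm _ _).trans (LinearMap.BilinForm.mem_orthogonal_iff.1 hr z (hall z hz))
      rw [Tv_mulVec, this, zero_smul, add_zero]
    | one => rw [Units.val_one, one_mulVec]
    | mul a b _ _ ha hb => rw [gl_mul_mulVec, hb, ha]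
    | inv a _ ha =>
      have := congrArg (fun v => ((a⁻¹ : GL (Fin 4) F) : M4) *ᵥ v) ha
      simp only [gl_inv_mulVec_mulVec] at this
      exact this.symm
  · push Not at hall
    obtain ⟨z, hz, hzU⟩ := hall
    -- two commuting sets of transvections, both non-trivial, in a simple group
    set A := Subgroup.closure (Tv '' {v ∈ cent G | v ∈ U}) with hA
    have hAle : A ≤ G := (Subgroup.closure_le G).2 (by rintro _ ⟨v, hv, rfl⟩; exact hv.1.2)
    have hn : (A.subgroupOf G).Normal := by
      refine ⟨fun x hx g => ?_⟩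
      have hmap : A.map (MulAut.conj (g : GL (Fin 4) F)).toMonoidHom ≤ A := by
        rw [MonoidHom.map_closure, Subgroup.closure_le]
        rintro _ ⟨_, ⟨v, hv, rfl⟩, rfl⟩
        exact Subgroup.subset_closure
          ⟨_, ⟨cent_conj S.le g.2 hv.1, hinv g g.2 v hv.2⟩, (Tv_conj (S.le g.2) v).symm⟩
      exact hmap ⟨x, hx, rfl⟩
    have hu₀m : (⟨Tv u₀, (hC hu₀).2⟩ : ↥G) ∈ A.subgroupOf G :=
      Subgroup.subset_closure ⟨u₀, ⟨hC hu₀, Submodule.subset_span hu₀⟩, rfl⟩
    rcases hn.eq_bot_or_eq_top with h | h
    · rw [h, Subgroup.mem_bot] at hu₀m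
      exact hu₀0 (Tv_eq_one (congrArg Subtype.val hu₀m))
    · have hGA : G ≤ A := Subgroup.subgroupOf_eq_top.1 h
      have hzC : z ∉ C := fun e => hzU (Submodule.subset_span e)
      have hzperp : z ∈ B.orthogonal U := by
        rw [LinearMap.BilinForm.mem_orthogonal_iff]
        intro y hy
        show altForm4 y z = 0
        induction hy using Submodule.span_induction with
        | mem x hx => exact hout z hz hzC x hx
        | zero => exact Symp.zero_left isSymp _
        | add a b _ _ ha hb => rw [Symp.add_left isSymp, ha, hb, add_zero]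
        | smul c a _ ha => rw [Symp.smul_left isSymp, ha, mul_zero]
      refine hz.1 (S.noIso.no_fixed fun g hg => ?_)
      have hg' := hGA hg
      clear hg
      rw [hA] at hg'
      induction hg' using Subgroup.closure_induction with
      | mem g hg =>
        obtain ⟨v, hv, rfl⟩ := hg
        have : altForm4 z v = 0 :=
          (f4_comm _ _).trans (LinearMap.BilinForm.mem_orthogonal_iff.1 hzperp v hv.2)
        rw [Tv_mulVec, this, zero_smul, add_zero]
      | one => rw [Units.val_one, one_mulVec]
      | mul a b _ _ ha hb => rw [gl_mul_mulVec, hb, ha]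
      | inv a _ ha =>
        have := congrArg (fun v => ((a⁻¹ : GL (Fin 4) F) : M4) *ᵥ v) ha
        simp only [gl_inv_mulVec_mulVec] at this
        exact this.symm

theorem Setup.span_cent : Submodule.span F (cent G) = ⊤ := by
  obtain ⟨u, hu⟩ := S.nonempty
  exact S.eq_top_of_stable _ ⟨u, hu, hu.1⟩ subset_rfl fun z hz hz' => absurd hz hz'

theorem Setup.exists_adj {u : Fin 4 → F} (hu : u ∈ cent G) : ∃ w, Adj G u w := by
  by_contra h
  push Not at h
  refine hu.1 (eq_zero_of_pair fun y => ?_)
  have hy : y ∈ Submodule.span F (cent G) := S.span_cent ▸ Submodule.mem_top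
  induction hy using Submodule.span_induction with
  | mem x hx => by_contra hne; exact h x ⟨hu, hx, hne⟩
  | zero => exact Symp.zero_right isSymp _
  | add a b _ _ ha hb => rw [Symp.add_right isSymp, ha, hb, add_zero]
  | smul c a _ ha => rw [Symp.smul_right isSymp, ha, mul_zero]

theorem Setup.connected {u w : Fin 4 → F} (hu : u ∈ cent G) (hw : w ∈ cent G) :
    Relation.ReflTransGen (Adj G) u w := by
  by_contra h
  set C := {z ∈ cent G | Relation.ReflTransGen (Adj G) u z}
  have htop := S.eq_top_of_stable C ⟨u, ⟨hu, .refl⟩, hu.1⟩ (fun z hz => hz.1) fun z hz hz' x hx => by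
    by_contra hne
    exact hz' ⟨hz, hx.2.tail ⟨hx.1, hz, hne⟩⟩
  refine hw.1 (eq_zero_of_pair fun y => ?_)
  have hy : y ∈ Submodule.span F C := htop ▸ Submodule.mem_top
  induction hy using Submodule.span_induction with
  | mem x hx =>
    by_contra hne
    exact h (hx.2.tail ⟨hx.1, hw, fun e => hne ((f4_comm _ _).trans e)⟩)
  | zero => exact Symp.zero_right isSymp _
  | add a b _ _ ha hb => rw [Symp.add_right isSymp, ha, hb, add_zero]
  | smul c a _ ha => rw [Symp.smul_right isSymp, ha, mul_zero]

end CfsgLib.Sp4Resid
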