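import Cfsg.Agent.Lib.Sp4Resid.Even
import Cfsg.Agent.Lib.Maximal.CASimple

/-!
The core of a subgroup in the residual class, and the exclusion of `PSL₂(2^n)`.
-/

set_option autoImplicit false

open scoped MatrixGroups Matrix

namespace CfsgLib.Sp4Resid

open Matrix Cfsg.Lie CfsgLib.SuzukiGroup CfsgLib.Large.SzReal CfsgLib.GeomClasses CfsgLib.GeomClasses.Symp Module

variable {F : Type*} [Field F] [CharP F 2] [Fintype F]

local notation "M4" => Matrix (Fin 4) (Fin 4) F

/-- The properties of the core. -/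
structure Core (G : Subgroup (GL (Fin 4) F)) : Prop extends Resid G where
  four_le : 4 ≤ Fintype.card F
  scalar : ∀ M : M4, (∀ g ∈ G, M * (g : M4) = (g : M4) * M) → ∃ c : F, M = c • 1
  noQuad : ∀ Q : (Fin 4 → F) → F, Cfsg.Geo.IsNondegenerateQuadraticForm Q →
    ¬ ∀ g ∈ G, ∀ v, Q ((g : M4) *ᵥ v) = Q v

variable {G : Subgroup (GL (Fin 4) F)}

/-- The image of an involution is again in the unipotent-centraliser class. -/
theorem Resid.isC_star (R : Resid G) (h4 : 4 ≤ Fintype.card F) {g : GL (Fin 4) F} (hg : g ∈ G)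
    (h2 : (g : M4) * g = 1) (h1 : g ≠ 1) : IsC (starHom ⟨g, R.le hg⟩ : GL (Fin 4) F) := by
  have hsq : (⟨g, R.le hg⟩ : ↥(Sp4 F)) * ⟨g, R.le hg⟩ = 1 := Subtype.ext (Units.ext h2)
  have hs2 : ((starHom ⟨g, R.le hg⟩ : GL (Fin 4) F) : M4) * ((starHom ⟨g, R.le hg⟩ : GL (Fin 4) F) : M4) = 1 := by
    rw [← Units.val_mul, ← Subgroup.coe_mul, ← map_mul, hsq, map_one]
    rfl
  refine isC_of_noRoot (g := (starHom ⟨g, R.le hg⟩ : GL (Fin 4) F)) (starHom ⟨g, R.le hg⟩).2 hs2 ?_
    ⟨fun u hu e => ?_, fun u hu e => ?_⟩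
  · intro e
    refine h1 (congrArg Subtype.val (starHom_injective (a₁ := ⟨g, R.le hg⟩) (a₂ := 1) ?_) :)
    rw [map_one]
    exact Subtype.ext e
  · exact R.no_star_Tv h4 hg hu (congrArg Units.val e)
  · rw [← starHom_coe, starHom_starHom] at e
    set φ : F →+* F := (frobeniusEquiv F 2).symm.toRingHom
    have hv : (fun i => φ (u i)) ≠ 0 := fun e' => hu (funext fun i => φ.injective (by
      rw [Pi.zero_apply, map_zero]; exact congrFun e' i))
    refine R.no_Tv h4 hv ?_
    have hgT : g = Tv fun i => φ (u i) := by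
      refine Units.ext (Matrix.ext fun a b => ?_)
      have h := congrArg φ (congrFun (congrFun e a) b)
      rw [formTv_coe] at h
      simp only [Matrix.map_apply, Matrix.add_apply, Matrix.of_apply, Matrix.one_apply, one_mul, map_add,
        map_mul, apply_ite φ, map_one, map_zero] at h
      rw [Tv, formTv_coe]
      simp only [Matrix.add_apply, Matrix.of_apply, Matrix.one_apply, one_mul]
      rw [← h]
      exact ((frobeniusEquiv F 2).symm_apply_apply _).symm
    exact hgT ▸ hg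

omit [Fintype F] in
theorem starEquiv_coe (hG : G ≤ Sp4 F) (g : ↥G) :
    ((starEquiv hG g : ↥(starGroup G)) : GL (Fin 4) F) = starHom ⟨(g : GL (Fin 4) F), hG g.2⟩ := rfl

theorem Core.no_sl_two (C : Core G) {K : Type} [Field K] [Fintype K] [CharP K 2]
    (ψ : Matrix.SpecialLinearGroup (Fin 2) K ≃* ↥G) : False := by
  set gu : K → GL (Fin 4) F := fun a => (ψ (PlaneSub.up a) : GL (Fin 4) F)
  have hgu : ∀ a, gu a ∈ G := fun a => (ψ (PlaneSub.up a)).2
  have h2 : ∀ a, (gu a : M4) * gu a = 1 := fun a => by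
    rw [← Units.val_mul, ← Subgroup.coe_mul, ← map_mul, PlaneSub.up_sq, map_one]
    rfl
  have h1 : ∀ a, a ≠ 0 → gu a ≠ 1 := fun a ha e =>
    ha (PlaneSub.up_inj ((ψ.injective (Subtype.ext (e.trans (by rw [map_one]; rfl)))).trans PlaneSub.up_zero.symm))
  set s : K → GL (Fin 4) F := fun a => (starHom ⟨gu a, C.le (hgu a)⟩ : GL (Fin 4) F)
  have hdich : ∀ a b, a ≠ 0 → b ≠ 0 → kerv (gu a) = kerv (gu b) ∨ kerv (s a) = kerv (s b) := by
    intro a b ha hb
    by_cases h : kerv (gu a) = kerv (gu b)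
    · exact Or.inl h
    · refine Or.inr (fixed_dichotomy ⟨gu a, C.le (hgu a)⟩ ⟨gu b, C.le (hgu b)⟩
        (C.isC C.four_le (hgu a) (h2 a) (h1 a ha)) (C.isC C.four_le (hgu b) (h2 b) (h1 b hb))
        (C.isC_star C.four_le (hgu a) (h2 a) (h1 a ha)).1 (C.isC_star C.four_le (hgu b) (h2 b) (h1 b hb)).1
        (Subtype.ext ?_) h)
      show gu a * gu b = gu b * gu a
      simp only [gu]
      rw [← Subgroup.coe_mul, ← map_mul, PlaneSub.up_mul, add_comm, ← PlaneSub.up_mul, map_mul, Subgroup.coe_mul]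
  by_cases hall : ∀ a, a ≠ 0 → kerv (gu a) = kerv (gu 1)
  · obtain ⟨Y, hY, -, hns⟩ := exists_commutant C.le C.noIso ψ hall
    exact hns (C.scalar Y hY)
  · push Not at hall
    obtain ⟨c, hc0, hc⟩ := hall
    have hall' : ∀ a, a ≠ 0 → kerv (s a) = kerv (s 1) := by
      intro a ha
      have hc1 := (hdich c 1 hc0 one_ne_zero).resolve_left hc
      rcases hdich a 1 ha one_ne_zero with h | h
      · rcases hdich a c ha hc0 with h' | h'
        · exact absurd (h'.symm.trans h) hc
        · exact h'.trans hc1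
      · exact h
    obtain ⟨Y, hY, halt, hns⟩ := exists_commutant (starGroup_le G) C.noIso_star
      (ψ.trans (starEquiv C.le)) (fun a ha => by
        simp only [MulEquiv.trans_apply, starEquiv_coe]
        exact hall' a ha)
    obtain ⟨Q, hQ, hQG⟩ := exists_quad_of_commutant C.toResid hY halt hns
    exact C.noQuad Q hQ hQG

theorem Core.no_psl_even (C : Core G) {K : Type} [Field K] [Fintype K] {n : ℕ} (hn : 2 ≤ n)
    (hK : Fintype.card K = 2 ^ n) (ψ : ↥G ≃* ProjectiveSpecialLinearGroup (Fin 2) K) : False := by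
  haveI : Fact (Nat.Prime 2) := ⟨Nat.prime_two⟩
  haveI : CharP K 2 := charP_of_card_eq_prime_pow hK
  have hinj : Function.Injective
      (QuotientGroup.mk' (Subgroup.center (Matrix.SpecialLinearGroup (Fin 2) K))) := by
    rw [← MonoidHom.ker_eq_bot_iff, QuotientGroup.ker_mk', CfsgLib.CASimple.center_sl_eq_bot]
  exact C.no_sl_two ((MulEquiv.ofBijective _ ⟨hinj, QuotientGroup.mk'_surjective _⟩).trans ψ.symm)

end CfsgLib.Sp4Resid
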