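import Cfsg.Agent.Lib.Sp4Resid.RootFree

/-!
`SL₂(2^n)` is not the core of a maximal subgroup in the residual class of `Sp₄(2^m)`: the involutions of a
root group have a common fixed plane, for the group or for its image under the exceptional endomorphism, and
this yields a second invariant alternating form, so an invariant quadratic form.
-/

set_option autoImplicit false

open scoped MatrixGroups Matrix

namespace CfsgLib.Sp4Resid

open Matrix Cfsg.Lie CfsgLib.SuzukiGroup CfsgLib.Large.SzReal CfsgLib.GeomClasses CfsgLib.GeomClasses.Symp Module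

variable {F : Type*} [Field F] [CharP F 2] [Fintype F]

local notation "M4" => Matrix (Fin 4) (Fin 4) F
local notation "V4" => Fin 4 → F

omit [Fintype F] in
theorem v_add_self (x : V4) : x + x = 0 := funext fun _ => CharTwo.add_self_eq_zero _

omit [Fintype F] in
theorem v_add_cancel (x y : V4) : x + (x + y) = y := by rw [← add_assoc, v_add_self, zero_add]

omit [Fintype F] in
theorem v_eq_of_add {x y : V4} (h : x + y = 0) : x = y :=
  funext fun i => CharTwo.add_eq_zero.1 (congrFun h i)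

/-- The fixed vectors. -/
def kerv (g : GL (Fin 4) F) : Submodule F V4 where
  carrier := {x | (g : M4) *ᵥ x = x}
  zero_mem' := mulVec_zero _
  add_mem' {x y} hx hy := by
    simp only [Set.mem_ofPred_eq] at hx hy ⊢
    rw [mulVec_add, hx, hy]
  smul_mem' c x hx := by
    simp only [Set.mem_ofPred_eq] at hx ⊢
    rw [mulVec_smul, hx]

omit [CharP F 2] [Fintype F] in
theorem mem_kerv {g : GL (Fin 4) F} {x : V4} : x ∈ kerv g ↔ (g : M4) *ᵥ x = x := Iff.rfl

omit [Fintype F] in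
theorem dev_mem_kerv {g : GL (Fin 4) F} (h2 : (g : M4) * g = 1) (x : V4) : (g : M4) *ᵥ x + x ∈ kerv g :=
  fix_dev h2 x

omit [Fintype F] in
/-- An involution with deviation of rank two fixes exactly an isotropic plane. -/
theorem kerv_plane {g : GL (Fin 4) F} (hg : g ∈ Sp4 F) (hT : IsTwo g) :
    finrank F (kerv g) = 2 ∧ ∀ u ∈ kerv g, ∀ v ∈ kerv g, altForm4 u v = 0 := by
  obtain ⟨h2, hrk⟩ := hT
  set D : V4 →ₗ[F] V4 := Matrix.mulVecLin ((g : M4) + 1) with hDdef
  have hD : ∀ x, D x = (g : M4) *ᵥ x + x := fun x => by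
    rw [hDdef, Matrix.mulVecLin_apply, add_mulVec, one_mulVec]
  have hker : LinearMap.ker D = kerv g := by
    ext x
    rw [LinearMap.mem_ker, hD, mem_kerv]
    exact ⟨v_eq_of_add, fun e => by rw [e, v_add_self]⟩
  have hle : LinearMap.range D ≤ LinearMap.ker D := by
    rintro _ ⟨x, rfl⟩
    rw [hker, hD]
    exact dev_mem_kerv h2 x
  have h2r : 2 ≤ finrank F (LinearMap.range D) := by
    by_contra h
    obtain ⟨⟨u, _⟩, hu⟩ := finrank_le_one_iff.1 (show finrank F (LinearMap.range D) ≤ 1 by omega)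
    obtain ⟨z, hz⟩ := hrk u
    obtain ⟨c, hc⟩ := hu ⟨D z, LinearMap.mem_range_self _ _⟩
    exact hz c (by rw [← hD]; exact (congrArg Subtype.val hc).symm)
  have hsum := LinearMap.finrank_range_add_finrank_ker D
  rw [Module.finrank_pi, Fintype.card_fin] at hsum
  have hle' := Submodule.finrank_mono hle
  have heq : LinearMap.range D = kerv g := by
    rw [← hker]; exact Submodule.eq_of_le_of_finrank_le hle (by omega)
  refine ⟨by rw [← hker]; omega, fun u hu v hv => ?_⟩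
  rw [← heq] at hu hv
  obtain ⟨a, rfl⟩ := hu
  obtain ⟨b, rfl⟩ := hv
  rw [hD, hD]
  exact dev_isotropic hg h2 a b

/-- Commuting involutions of the unipotent-centraliser class have the same fixed plane, or their images do. -/
theorem fixed_dichotomy (g h : ↥(Sp4 F)) (hgC : IsC (g : GL (Fin 4) F)) (hhC : IsC (h : GL (Fin 4) F))
    (hsg : IsTwo (starHom g : GL (Fin 4) F)) (hsh : IsTwo (starHom h : GL (Fin 4) F)) (hc : g * h = h * g)
    (hne : kerv (g : GL (Fin 4) F) ≠ kerv (h : GL (Fin 4) F)) :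
    kerv (starHom g : GL (Fin 4) F) = kerv (starHom h : GL (Fin 4) F) := by
  obtain ⟨hg2, hgiso⟩ := kerv_plane g.2 hgC.1
  obtain ⟨hh2, hhiso⟩ := kerv_plane h.2 hhC.1
  have hgg := hgC.1.1
  have hhh := hhC.1.1
  have hcv : ∀ x : V4, ((g : GL (Fin 4) F) : M4) *ᵥ (((h : GL (Fin 4) F) : M4) *ᵥ x) =
      ((h : GL (Fin 4) F) : M4) *ᵥ (((g : GL (Fin 4) F) : M4) *ᵥ x) := fun x => by
    rw [← gl_mul_mulVec, ← gl_mul_mulVec, ← Subgroup.coe_mul, hc, Subgroup.coe_mul]
  obtain ⟨p, hpg, hph, hp0⟩ : ∃ p, p ∈ kerv (g : GL (Fin 4) F) ∧ p ∈ kerv (h : GL (Fin 4) F) ∧ p ≠ 0 := by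
    obtain ⟨x, hx, hx0⟩ := Submodule.exists_mem_ne_zero_of_ne_bot
      (p := kerv (g : GL (Fin 4) F)) (fun e => by rw [e, finrank_bot] at hg2; omega)
    by_cases hxh : x ∈ kerv (h : GL (Fin 4) F)
    · exact ⟨x, hx, hxh, hx0⟩
    · refine ⟨((h : GL (Fin 4) F) : M4) *ᵥ x + x, ?_, dev_mem_kerv hhh x, fun e => hxh (v_eq_of_add e)⟩
      rw [mem_kerv] at hx ⊢
      rw [mulVec_add, hcv, hx]
  obtain ⟨q, hqg, hqh⟩ : ∃ q, q ∈ kerv (g : GL (Fin 4) F) ∧ q ∉ kerv (h : GL (Fin 4) F) := by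
    by_contra hh'
    push Not at hh'
    exact hne (Submodule.eq_of_le_of_finrank_le hh' (by omega))
  obtain ⟨r₁, hr₁h, hr₁g⟩ : ∃ r, r ∈ kerv (h : GL (Fin 4) F) ∧ r ∉ kerv (g : GL (Fin 4) F) := by
    by_contra hh'
    push Not at hh'
    exact hne (Submodule.eq_of_le_of_finrank_le hh' (by omega)).symm
  have hliq : LinearIndependent F ![p, q] :=
    (LinearIndependent.pair_iff' hp0).2 fun a e => hqh (e ▸ Submodule.smul_mem _ a hph)
  have hspg : Submodule.span F (Set.range ![p, q]) = kerv (g : GL (Fin 4) F) := by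
    refine Submodule.eq_of_le_of_finrank_le (Submodule.span_le.2 ?_) ?_
    · rintro x ⟨i, rfl⟩; fin_cases i <;> simpa
    · rw [finrank_span_eq_card hliq, Fintype.card_fin, hg2]
  have hlir : LinearIndependent F ![p, r₁] :=
    (LinearIndependent.pair_iff' hp0).2 fun a e => hr₁g (e ▸ Submodule.smul_mem _ a hpg)
  have hsph : Submodule.span F (Set.range ![p, r₁]) = kerv (h : GL (Fin 4) F) := by
    refine Submodule.eq_of_le_of_finrank_le (Submodule.span_le.2 ?_) ?_
    · rintro x ⟨i, rfl⟩; fin_cases i <;> simpa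
    · rw [finrank_span_eq_card hlir, Fintype.card_fin, hh2]
  have hpq : altForm4 p q = 0 := hgiso p hpg q hqg
  have hpr : altForm4 p r₁ = 0 := hhiso p hph r₁ hr₁h
  have hqr : altForm4 q r₁ ≠ 0 := by
    intro e
    have hli : LinearIndependent F (Fin.snoc ![p, q] r₁ : Fin 3 → V4) :=
      linearIndependent_finSnoc.2 ⟨hliq, by rw [hspg]; exact hr₁g⟩
    have hsn : (Fin.snoc ![p, q] r₁ : Fin 3 → V4) = ![p, q, r₁] := by
      funext i; fin_cases i <;> rfl
    rw [hsn] at hli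
    have h3 := finrank_iso_le (F := F) (U := Submodule.span F (Set.range ![p, q, r₁])) (by
      intro u hu v hv
      obtain ⟨a, rfl⟩ := (Submodule.mem_span_range_iff_exists_fun F).1 hu
      obtain ⟨b, rfl⟩ := (Submodule.mem_span_range_iff_exists_fun F).1 hv
      simp only [Fin.sum_univ_three, Matrix.cons_val_zero, Matrix.cons_val_one, Matrix.cons_val,
        Symp.add_left isSymp, Symp.add_right isSymp, Symp.smul_left isSymp, Symp.smul_right isSymp,
        (isSymp (F := F)).alternating, hpq, hpr, e, (f4_comm q p).trans hpq, (f4_comm r₁ p).trans hpr,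
        (f4_comm r₁ q).trans e, mul_zero, add_zero])
    rw [finrank_span_eq_card hli, Fintype.card_fin] at h3
    omega
  obtain ⟨r, hr⟩ : ∃ r, r = (altForm4 q r₁)⁻¹ • r₁ := ⟨_, rfl⟩
  have hrh : r ∈ kerv (h : GL (Fin 4) F) := hr ▸ Submodule.smul_mem _ _ hr₁h
  have hpr' : altForm4 p r = 0 := by rw [hr, Symp.smul_right isSymp, hpr, mul_zero]
  have hqr' : altForm4 q r = 1 := by rw [hr, Symp.smul_right isSymp, inv_mul_cancel₀ hqr]
  obtain ⟨y, hy⟩ := exists_pairing hp0
  set p' := y + altForm4 y r • q + altForm4 y q • r with hp'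
  have k1 : altForm4 p p' = 1 := by
    rw [hp', Symp.add_right isSymp, Symp.add_right isSymp, Symp.smul_right isSymp, Symp.smul_right isSymp,
      hpq, hpr', f4_comm, hy, mul_zero, mul_zero, add_zero, add_zero]
  have k2 : altForm4 q p' = 0 := by
    rw [hp', Symp.add_right isSymp, Symp.add_right isSymp, Symp.smul_right isSymp, Symp.smul_right isSymp,
      (isSymp (F := F)).alternating, hqr', mul_zero, mul_one, add_zero, f4_comm q y]
    exact CharTwo.add_self_eq_zero _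
  have k3 : altForm4 r p' = 0 := by
    rw [hp', Symp.add_right isSymp, Symp.add_right isSymp, Symp.smul_right isSymp, Symp.smul_right isSymp,
      (isSymp (F := F)).alternating, (f4_comm r q).trans hqr', mul_zero, mul_one, add_zero, f4_comm r y]
    exact CharTwo.add_self_eq_zero _
  obtain ⟨B, hB, hBv⟩ := exists_frame hpq hpr' k1 hqr' k2 k3
  set Bs : ↥(Sp4 F) := ⟨B, hB⟩
  -- coordinates
  have hform : ∀ x : V4, altForm4 ((B : M4) *ᵥ x) p = x 3 ∧ altForm4 ((B : M4) *ᵥ x) q = x 2 ∧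
      altForm4 ((B : M4) *ᵥ x) r = x 1 := by
    intro x
    rw [hBv]
    simp only [Symp.add_left isSymp, Symp.smul_left isSymp, (isSymp (F := F)).alternating, hpq, hpr', hqr',
      (f4_comm q p).trans hpq, (f4_comm r p).trans hpr', (f4_comm r q).trans hqr', (f4_comm p' p).trans k1,
      (f4_comm p' q).trans k2, (f4_comm p' r).trans k3, mul_zero, mul_one, add_zero, zero_add]
    exact ⟨trivial, trivial, trivial⟩
  obtain ⟨A, hA⟩ : ∃ A, A = (((Bs⁻¹ * g * Bs : ↥(Sp4 F)) : GL (Fin 4) F) : M4) := ⟨_, rfl⟩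
  obtain ⟨C, hC⟩ : ∃ C, C = (((Bs⁻¹ * h * Bs : ↥(Sp4 F)) : GL (Fin 4) F) : M4) := ⟨_, rfl⟩
  have hact : ∀ (k : ↥(Sp4 F)) (x : V4), (B : M4) *ᵥ ((((Bs⁻¹ * k * Bs : ↥(Sp4 F)) : GL (Fin 4) F) : M4) *ᵥ x) =
      ((k : GL (Fin 4) F) : M4) *ᵥ ((B : M4) *ᵥ x) := by
    intro k x
    rw [← gl_mul_mulVec, ← gl_mul_mulVec]
    congr 2
    simp [Bs, mul_assoc]
  have hAdev : ∀ x, (A *ᵥ x + x) 3 = 0 ∧ (A *ᵥ x + x) 2 = 0 := by
    intro x
    have hm := dev_mem_kerv hgg ((B : M4) *ᵥ x)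
    rw [← hact g x, ← hA, ← mulVec_add] at hm
    exact ⟨(hform _).1.symm.trans (hgiso _ hm p hpg), (hform _).2.1.symm.trans (hgiso _ hm q hqg)⟩
  have hCdev : ∀ x, (C *ᵥ x + x) 3 = 0 ∧ (C *ᵥ x + x) 1 = 0 := by
    intro x
    have hm := dev_mem_kerv hhh ((B : M4) *ᵥ x)
    rw [← hact h x, ← hC, ← mulVec_add] at hm
    exact ⟨(hform _).1.symm.trans (hhiso _ hm p hph), (hform _).2.2.symm.trans (hhiso _ hm r hrh)⟩
  have hinj : ∀ x y : V4, (B : M4) *ᵥ x = (B : M4) *ᵥ y → x = y := fun x y e => by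
    have := congrArg (fun v => ((B⁻¹ : GL (Fin 4) F) : M4) *ᵥ v) e
    simpa [gl_inv_mulVec_mulVec] using this
  have hp_eq : (B : M4) *ᵥ Pi.single 0 1 = p := by rw [hBv]; simp
  have hq_eq : (B : M4) *ᵥ Pi.single 1 1 = q := by rw [hBv]; simp
  have hr_eq : (B : M4) *ᵥ Pi.single 2 1 = r := by rw [hBv]; simp
  have hA0 : A *ᵥ Pi.single 0 1 = Pi.single 0 1 := hinj _ _ (by rw [hA, hact, hp_eq]; exact hpg)
  have hA1 : A *ᵥ Pi.single 1 1 = Pi.single 1 1 := hinj _ _ (by rw [hA, hact, hq_eq]; exact hqg)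
  have hC0 : C *ᵥ Pi.single 0 1 = Pi.single 0 1 := hinj _ _ (by rw [hC, hact, hp_eq]; exact hph)
  have hC2 : C *ᵥ Pi.single 2 1 = Pi.single 2 1 := hinj _ _ (by rw [hC, hact, hr_eq]; exact hrh)
  have colA : ∀ i, A i 0 = (Pi.single 0 1 : V4) i ∧ A i 1 = (Pi.single 1 1 : V4) i := fun i => by
    refine ⟨?_, ?_⟩
    · simpa [mulVec_single_one] using congrFun hA0 i
    · simpa [mulVec_single_one] using congrFun hA1 i
  have colC : ∀ i, C i 0 = (Pi.single 0 1 : V4) i ∧ C i 2 = (Pi.single 2 1 : V4) i := fun i => by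
    refine ⟨?_, ?_⟩
    · simpa [mulVec_single_one] using congrFun hC0 i
    · simpa [mulVec_single_one] using congrFun hC2 i
  have devA : ∀ j, A 3 j = (1 : M4) 3 j ∧ A 2 j = (1 : M4) 2 j := fun j => by
    obtain ⟨e3, e2⟩ := hAdev (Pi.single j 1)
    simp only [mulVec_single_one, Pi.add_apply, Matrix.col_apply] at e3 e2
    exact ⟨by rw [CharTwo.add_eq_zero.1 e3, Matrix.one_apply, Pi.single_apply],
      by rw [CharTwo.add_eq_zero.1 e2, Matrix.one_apply, Pi.single_apply]⟩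
  have devC : ∀ j, C 3 j = (1 : M4) 3 j ∧ C 1 j = (1 : M4) 1 j := fun j => by
    obtain ⟨e3, e1⟩ := hCdev (Pi.single j 1)
    simp only [mulVec_single_one, Pi.add_apply, Matrix.col_apply] at e3 e1
    exact ⟨by rw [CharTwo.add_eq_zero.1 e3, Matrix.one_apply, Pi.single_apply],
      by rw [CharTwo.add_eq_zero.1 e1, Matrix.one_apply, Pi.single_apply]⟩
  have hAshape : A = !![1, 0, A 0 2, A 0 3; 0, 1, A 1 2, A 1 3; 0, 0, 1, 0; 0, 0, 0, 1] := by
    ext i j
    fin_cases i <;> fin_cases j <;> simp [(colA 0).1, (colA 0).2, (colA 1).1, (colA 1).2, (devA _).1, (devA _).2]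
  have hCshape : C = !![1, C 0 1, 0, C 0 3; 0, 1, 0, 0; 0, C 2 1, 1, C 2 3; 0, 0, 0, 1] := by
    ext i j
    fin_cases i <;> fin_cases j <;> simp [(colC 0).1, (colC 0).2, (colC 2).1, (colC 2).2, (devC _).1, (devC _).2]
  obtain ⟨a, b, c, d, hA'⟩ : ∃ a b c d : F, A = !![1, 0, a, b; 0, 1, c, d; 0, 0, 1, 0; 0, 0, 0, 1] :=
    ⟨_, _, _, _, hAshape⟩
  obtain ⟨a', b', c', d', hC'⟩ : ∃ a b c d : F, C = !![1, a, 0, b; 0, 1, 0, 0; 0, c, 1, d; 0, 0, 0, 1] :=
    ⟨_, _, _, _, hCshape⟩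
  have hAC : A * C = C * A := by
    rw [hA, hC, ← Units.val_mul, ← Units.val_mul, ← Subgroup.coe_mul, ← Subgroup.coe_mul]
    congr 2
    rw [show Bs⁻¹ * g * Bs * (Bs⁻¹ * h * Bs) = Bs⁻¹ * (g * h) * Bs by group, hc]
    group
  have hda : d = a := by
    have h23 := (SuzukiGroup.mem_sp4_iff _).1 (Bs⁻¹ * g * Bs).2 2 3
    rw [← hA, hA'] at h23
    simp [altForm4] at h23
    exact (CharTwo.add_eq_zero.1 h23).symm
  have e01 := congrFun (congrFun hAC 0) 1
  have e11 := congrFun (congrFun hAC 1) 1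
  have e02 := congrFun (congrFun hAC 0) 2
  simp [hA', hC', SpecialLinearGroup.coe_mul, Matrix.mul_apply, Fin.sum_univ_four] at e01 e11 e02
  have notline : ∀ (k : ↥(Sp4 F)) (u : V4), IsTwo (k : GL (Fin 4) F) →
      (∀ x, ∃ s : F, (((Bs⁻¹ * k * Bs : ↥(Sp4 F)) : GL (Fin 4) F) : M4) *ᵥ x + x = s • u) → False := by
    intro k u hk hline
    obtain ⟨z, hz⟩ := hk.2 ((B : M4) *ᵥ u)
    obtain ⟨s, hs⟩ := hline (((B⁻¹ : GL (Fin 4) F) : M4) *ᵥ z)
    refine hz s ?_
    have e := congrArg (fun v => (B : M4) *ᵥ v) hs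
    simp only [mulVec_add, mulVec_smul, hact, gl_mulVec_inv_mulVec] at e
    exact e
  have hc0 : c = 0 := by
    by_contra hc0
    refine notline h (Pi.single 0 1) hhC.1 fun x => ⟨b' * x 3, ?_⟩
    have ha' : a' = 0 := e02.resolve_right hc0
    have hc' : c' = 0 := e11.resolve_left hc0
    have h23 := (SuzukiGroup.mem_sp4_iff _).1 (Bs⁻¹ * h * Bs).2 1 3
    rw [← hC, hC'] at h23
    simp [altForm4, ha'] at h23
    rw [← hC, hC', ha', hc', h23]
    funext i
    fin_cases i <;> simp [mulVec, dotProduct, Fin.sum_univ_four, CharTwo.add_self_eq_zero, add_right_comm]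
  have ha : a ≠ 0 := by
    intro ha
    refine notline g (Pi.single 0 1) hgC.1 fun x => ⟨b * x 3, ?_⟩
    rw [← hA, hA', ha, hc0, hda, ha]
    funext i
    fin_cases i <;> simp [mulVec, dotProduct, Fin.sum_univ_four, CharTwo.add_self_eq_zero, add_right_comm]
  have hc'0 : c' = 0 := e01.resolve_left ha
  -- the images
  set P0 : V4 := ((starHom Bs : GL (Fin 4) F) : M4) *ᵥ Pi.single 0 1
  set P1 : V4 := ((starHom Bs : GL (Fin 4) F) : M4) *ᵥ Pi.single 1 1
  have hli : LinearIndependent F ![P0, P1] := by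
    have hinjs : ∀ x : V4, ((starHom Bs : GL (Fin 4) F) : M4) *ᵥ x = 0 → x = 0 := fun x e => by
      have := congrArg (fun v => (((starHom Bs : GL (Fin 4) F)⁻¹ : GL (Fin 4) F) : M4) *ᵥ v) e
      simpa [gl_inv_mulVec_mulVec] using this
    rw [LinearIndependent.pair_iff]
    intro s t e
    have e' := hinjs (s • Pi.single 0 1 + t • Pi.single 1 1) (by rw [mulVec_add, mulVec_smul, mulVec_smul]; exact e)
    exact ⟨by simpa using congrFun e' 0, by simpa using congrFun e' 1⟩
  have hfix : ∀ (k : ↥(Sp4 F)) (i : Fin 4),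
      star4 ((((Bs⁻¹ * k * Bs : ↥(Sp4 F))) : GL (Fin 4) F) : M4) *ᵥ Pi.single i 1 = Pi.single i 1 →
      ((starHom Bs : GL (Fin 4) F) : M4) *ᵥ Pi.single i 1 ∈ kerv (starHom k : GL (Fin 4) F) := by
    intro k i e
    rw [← starHom_coe, map_mul, map_mul, map_inv, Subgroup.coe_mul, Subgroup.coe_mul, Subgroup.coe_inv,
      gl_mul_mulVec, gl_mul_mulVec] at e
    rw [mem_kerv]
    have := congrArg (fun v => ((starHom Bs : GL (Fin 4) F) : M4) *ᵥ v) e
    simp only [gl_mulVec_inv_mulVec] at this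
    exact this
  have key : ∀ k : ↥(Sp4 F), IsTwo (starHom k : GL (Fin 4) F) →
      star4 ((((Bs⁻¹ * k * Bs : ↥(Sp4 F))) : GL (Fin 4) F) : M4) *ᵥ Pi.single 0 1 = Pi.single 0 1 →
      star4 ((((Bs⁻¹ * k * Bs : ↥(Sp4 F))) : GL (Fin 4) F) : M4) *ᵥ Pi.single 1 1 = Pi.single 1 1 →
      Submodule.span F (Set.range ![P0, P1]) = kerv (starHom k : GL (Fin 4) F) := by
    intro k hk e0 e1
    refine Submodule.eq_of_le_of_finrank_le (Submodule.span_le.2 ?_) ?_
    · rintro x ⟨i, rfl⟩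
      fin_cases i
      · exact hfix k 0 e0
      · exact hfix k 1 e1
    · rw [finrank_span_eq_card hli, Fintype.card_fin]
      exact (kerv_plane (starHom k).2 hk).1.le
  rw [← key g hsg ?_ ?_, ← key h hsh ?_ ?_]
  · rw [← hC, hC', hc'0, mulVec_single_one]
    funext i; fin_cases i <;> simp [star4, pairOf]
  · rw [← hC, hC', hc'0, mulVec_single_one]
    funext i; fin_cases i <;> simp [star4, pairOf]
  · rw [← hA, hA', hc0, mulVec_single_one]
    funext i; fin_cases i <;> simp [star4, pairOf]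
  · rw [← hA, hA', hc0, mulVec_single_one]
    funext i; fin_cases i <;> simp [star4, pairOf]

/-! ### A second invariant alternating form -/

section commutant

variable {K : Type*} [Field K] [CharP K 2] [Fintype K]

local notation "SK" => Matrix.SpecialLinearGroup (Fin 2) K

/-- The standard reflection. -/
def swp : Matrix.SpecialLinearGroup (Fin 2) K :=
  ⟨!![0, 1; 1, 0], by simp [det_fin_two_of, CharTwo.neg_eq]⟩

/-- A diagonal element. -/
def dia (x : Kˣ) : Matrix.SpecialLinearGroup (Fin 2) K :=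
  ⟨!![(x : K), 0; 0, (x⁻¹ : Kˣ)], by simp [det_fin_two_of]⟩

omit [Fintype K] in
theorem swp_coe : ((swp : SK) : Matrix (Fin 2) (Fin 2) K) = !![0, 1; 1, 0] := rfl

omit [CharP K 2] [Fintype K] in
theorem dia_coe (x : Kˣ) : ((dia x : SK) : Matrix (Fin 2) (Fin 2) K) = !![(x : K), 0; 0, (x⁻¹ : Kˣ)] := rfl

omit [Fintype K] in
theorem swp_sq : swp * swp = (1 : SK) := by
  ext i j
  fin_cases i <;> fin_cases j <;> simp [swp_coe, SpecialLinearGroup.coe_mul, Matrix.mul_apply, Fin.sum_univ_two]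

omit [Fintype K] in
theorem up_swp_up : PlaneSub.up (1 : K) * swp * PlaneSub.up 1 = swp * PlaneSub.up 1 * swp := by
  ext i j
  fin_cases i <;> fin_cases j <;>
    simp [swp_coe, PlaneSub.up_coe, SpecialLinearGroup.coe_mul, Matrix.mul_apply, Fin.sum_univ_two, CharTwo.add_self_eq_zero]

omit [Fintype K] in
theorem dia_up (x : Kˣ) (a : K) : dia x * PlaneSub.up a = PlaneSub.up ((x : K) * x * a) * dia x := by
  ext i j
  fin_cases i <;> fin_cases j <;> simp [dia_coe, PlaneSub.up_coe, SpecialLinearGroup.coe_mul, Matrix.mul_apply, Fin.sum_univ_two]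
  field_simp

omit [CharP K 2] [Fintype K] in
theorem dia_mul (x y : Kˣ) : dia x * dia y = dia (x * y) := by
  ext i j
  fin_cases i <;> fin_cases j <;> simp [dia_coe, SpecialLinearGroup.coe_mul, Matrix.mul_apply, Fin.sum_univ_two, mul_comm]

omit [Fintype K] in
theorem swp_dia (x : Kˣ) : dia x * swp * dia x = (swp : SK) := by
  ext i j
  fin_cases i <;> fin_cases j <;> simp [dia_coe, swp_coe, SpecialLinearGroup.coe_mul, Matrix.mul_apply, Fin.sum_univ_two]

/-- The group is generated by the upper unipotent elements and the reflection. -/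
theorem closure_up_swp :
    Subgroup.closure ({swp} ∪ Set.range (PlaneSub.up (F := K))) = ⊤ := by
  rw [eq_top_iff]
  intro M _
  set S := Subgroup.closure ({swp} ∪ Set.range (PlaneSub.up (F := K)))
  have hu : ∀ a, PlaneSub.up a ∈ S := fun a => Subgroup.subset_closure (Or.inr ⟨a, rfl⟩)
  have hw : (swp : SK) ∈ S := Subgroup.subset_closure (Or.inl rfl)
  have hl : ∀ a, (PlaneSub.lo a : SK) ∈ S := fun a => by
    have e : (PlaneSub.lo a : SK) = swp * PlaneSub.up a * swp := by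
      ext i j
      fin_cases i <;> fin_cases j <;> simp [swp_coe, PlaneSub.up_coe, PlaneSub.lo_coe, SpecialLinearGroup.coe_mul, Matrix.mul_apply, Fin.sum_univ_two]
    rw [e]; exact S.mul_mem (S.mul_mem hw (hu a)) hw
  have hne : ∀ N : SK, N 1 0 ≠ 0 → N ∈ S := by
    intro N hN
    have hdet := N.2
    rw [det_fin_two] at hdet
    have e : N = PlaneSub.up ((N 0 0 - 1) / N 1 0) * PlaneSub.lo (N 1 0) *
        PlaneSub.up ((N 1 1 - 1) / N 1 0) := by
      ext i j
      fin_cases i <;> fin_cases j <;>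
        simp [PlaneSub.up_coe, PlaneSub.lo_coe, SpecialLinearGroup.coe_mul, Matrix.mul_apply, Fin.sum_univ_two] <;> field_simp <;> grind
    rw [e]; exact S.mul_mem (S.mul_mem (hu _) (hl _)) (hu _)
  by_cases h : M 1 0 = 0
  · have h11 : M 1 1 ≠ 0 := fun e => by
      have hdet := M.2
      rw [det_fin_two] at hdet
      change M 0 0 * M 1 1 - M 0 1 * M 1 0 = 1 at hdet
      rw [h, e, mul_zero, mul_zero, sub_zero] at hdet
      exact zero_ne_one hdet
    have e : M = M * PlaneSub.lo 1 * (PlaneSub.lo 1)⁻¹ := (mul_inv_cancel_right _ _).symm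
    rw [e]
    refine S.mul_mem (hne _ ?_) (S.inv_mem (hl 1))
    simpa [PlaneSub.lo_coe, SpecialLinearGroup.coe_mul, Matrix.mul_apply, Fin.sum_univ_two, h] using h11
  · exact hne M h

variable {H : Subgroup (GL (Fin 4) F)}

/-- A second invariant alternating form of a copy of `SL₂` whose root involutions have one fixed plane. -/
theorem exists_commutant (hH : H ≤ Sp4 F) (hno : NoIso H) (ψ : SK ≃* ↥H)
    (hsame : ∀ a : K, a ≠ 0 → kerv (ψ (PlaneSub.up a) : GL (Fin 4) F) = kerv (ψ (PlaneSub.up 1) : GL (Fin 4) F)) :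
    ∃ Y : M4, (∀ g ∈ H, Y * (g : M4) = (g : M4) * Y) ∧ (∀ v, altForm4 (Y *ᵥ v) v = 0) ∧
      ¬ ∃ c : F, Y = c • 1 := by
  obtain ⟨U, hU⟩ : ∃ U : K → M4, ∀ a, U a = ((ψ (PlaneSub.up a) : GL (Fin 4) F) : M4) := ⟨_, fun _ => rfl⟩
  obtain ⟨w, hw⟩ : ∃ w, w = ((ψ swp : GL (Fin 4) F) : M4) := ⟨_, rfl⟩
  obtain ⟨t, ht⟩ : ∃ t : Kˣ → M4, ∀ x, t x = ((ψ (dia x) : GL (Fin 4) F) : M4) := ⟨_, fun _ => rfl⟩
  have coeψ : ∀ M N : SK, ((ψ (M * N) : GL (Fin 4) F) : M4) =
      ((ψ M : GL (Fin 4) F) : M4) * ((ψ N : GL (Fin 4) F) : M4) := fun M N => by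
    rw [map_mul, Subgroup.coe_mul, Units.val_mul]
  have one' : ((ψ 1 : GL (Fin 4) F) : M4) = 1 := by rw [map_one, OneMemClass.coe_one, Units.val_one]
  have ww : ∀ x, w *ᵥ (w *ᵥ x) = x := fun x => by
    rw [mulVec_mulVec, hw, ← coeψ, swp_sq, one', one_mulVec]
  have UU : ∀ a b x, U a *ᵥ (U b *ᵥ x) = U (a + b) *ᵥ x := fun a b x => by
    rw [mulVec_mulVec, hU, hU, hU, ← coeψ, PlaneSub.up_mul]
  have U0 : ∀ x, U 0 *ᵥ x = x := fun x => by rw [hU, PlaneSub.up_zero, one', one_mulVec]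
  have rel : ∀ x, U 1 *ᵥ (w *ᵥ (U 1 *ᵥ x)) = w *ᵥ (U 1 *ᵥ (w *ᵥ x)) := fun x => by
    simp only [mulVec_mulVec, hU, hw, ← mul_assoc, ← coeψ, up_swp_up]
  have tU : ∀ x a v, t x *ᵥ (U a *ᵥ v) = U ((x : K) * x * a) *ᵥ (t x *ᵥ v) := fun x a v => by
    rw [mulVec_mulVec, mulVec_mulVec, ht, hU, hU, ← coeψ, ← coeψ, dia_up]
  have tw : ∀ x v, t x *ᵥ (w *ᵥ (t x *ᵥ v)) = w *ᵥ v := fun x v => by
    simp only [mulVec_mulVec, ht, hw, ← mul_assoc, ← coeψ, swp_dia]
  have ttv : ∀ x y v, t x *ᵥ (t y *ᵥ v) = t (x * y) *ᵥ v := fun x y v => by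
    rw [mulVec_mulVec, ht, ht, ht, ← coeψ, dia_mul]
  have hwF : ∀ x y, altForm4 (w *ᵥ x) (w *ᵥ y) = altForm4 x y := fun x y => by
    rw [hw]; exact isometry_iff _ _ _ (hH (ψ swp).2)
  have hUinv : ∀ a, ((ψ (PlaneSub.up a) : GL (Fin 4) F) : M4) * ((ψ (PlaneSub.up a) : GL (Fin 4) F) : M4) = 1 :=
    fun a => by rw [← coeψ, PlaneSub.up_sq, one']
  set W : Submodule F V4 := kerv (ψ (PlaneSub.up 1) : GL (Fin 4) F) with hW
  have memW : ∀ {x}, x ∈ W ↔ U 1 *ᵥ x = x := fun {x} => by rw [hU]; exact Iff.rfl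
  have fixW : ∀ a, ∀ x ∈ W, U a *ᵥ x = x := by
    intro a x hx
    rcases eq_or_ne a 0 with rfl | ha
    · exact U0 x
    · rw [hU]
      have : x ∈ kerv (ψ (PlaneSub.up a) : GL (Fin 4) F) := by rw [hsame a ha]; exact hx
      exact this
  set D : K → V4 → V4 := fun a v => U a *ᵥ v + v with hDdef
  have devW : ∀ a v, D a v ∈ W := by
    intro a v
    rcases eq_or_ne a 0 with rfl | ha
    · simp only [hDdef, U0, v_add_self]; exact W.zero_mem
    · show D a v ∈ W
      rw [← hsame a ha]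
      simp only [hDdef, hU]
      exact dev_mem_kerv (hUinv a) v
  -- everything fixed by the root group and moved into it by the reflection is trivial
  have hfixgen : ∀ v, (∀ a, U a *ᵥ v = v) → w *ᵥ v = v → v = 0 := by
    intro v hUv hwv
    refine hno.no_fixed fun g hg => ?_
    obtain ⟨M, hM⟩ := ψ.surjective ⟨g, hg⟩
    have key : ((ψ M : GL (Fin 4) F) : M4) *ᵥ v = v := by
      have hMc : M ∈ Subgroup.closure ({swp} ∪ Set.range (PlaneSub.up (F := K))) := by
        rw [closure_up_swp]; trivial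
      clear hM
      induction hMc using Subgroup.closure_induction with
      | mem N hN =>
        rcases hN with rfl | ⟨a, rfl⟩
        · rw [← hw, hwv]
        · rw [← hU, hUv]
      | one => rw [one', one_mulVec]
      | mul A B _ _ hA hB => rw [coeψ, ← mulVec_mulVec, hB, hA]
      | inv A _ hA =>
        have h' := congrArg (fun v => ((ψ A⁻¹ : GL (Fin 4) F) : M4) *ᵥ v) hA
        simp only [mulVec_mulVec, ← coeψ, inv_mul_cancel, one', one_mulVec] at h'
        exact h'.symm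
    rw [hM] at key
    exact key
  have hsep : ∀ x ∈ W, w *ᵥ x ∈ W → x = 0 := by
    intro x hx hwx
    have hxw : x = w *ᵥ x := v_eq_of_add (hfixgen _ (fun a => by rw [mulVec_add, fixW a x hx, fixW a _ hwx])
      (by rw [mulVec_add, ww, add_comm]))
    exact hfixgen x (fun a => fixW a x hx) hxw.symm
  set X : K → V4 → V4 := fun a v => D a (w *ᵥ v) with hXdef
  have X1 : ∀ x ∈ W, X 1 x = x := by
    intro x hx
    have e := rel x
    rw [fixW 1 x hx] at e
    have e1 : U 1 *ᵥ (w *ᵥ x) = X 1 x + w *ᵥ x := by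
      simp only [hXdef, hDdef]
      rw [add_assoc, v_add_self, add_zero]
    rw [e1, mulVec_add, ww] at e
    refine v_eq_of_add (hsep _ (W.add_mem (devW _ _) hx) ?_)
    have e2 : w *ᵥ (X 1 x + x) = X 1 x + x := by
      have e3 : w *ᵥ X 1 x = X 1 x + w *ᵥ x + x := by rw [e, add_assoc, v_add_self, add_zero]
      rw [mulVec_add, e3, add_right_comm _ x, add_assoc (X 1 x), v_add_self, add_zero]
    rw [e2]
    exact W.add_mem (devW _ _) hx
  have hiso : ∀ x ∈ W, ∀ y ∈ W, altForm4 x y = 0 := by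
    intro x hx y hy
    rw [← X1 x hx, ← X1 y hy]
    simp only [hXdef, hDdef, hU]
    exact dev_isotropic (hH (ψ (PlaneSub.up 1)).2) (hUinv 1) _ _
  have hsplit : ∀ v, v + w *ᵥ D 1 v ∈ W := by
    intro v
    rw [memW]
    refine v_eq_of_add ?_
    have h1 : D 1 (w *ᵥ D 1 v) = D 1 v := X1 _ (devW 1 v)
    simp only [hDdef] at h1 ⊢
    rw [mulVec_add (U 1)]
    calc U 1 *ᵥ v + U 1 *ᵥ (w *ᵥ (U 1 *ᵥ v + v)) + (v + w *ᵥ (U 1 *ᵥ v + v)) =
        (U 1 *ᵥ v + v) + (U 1 *ᵥ (w *ᵥ (U 1 *ᵥ v + v)) + w *ᵥ (U 1 *ᵥ v + v)) := by abel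
      _ = 0 := by rw [h1, v_add_self]
  -- the torus
  have tW : ∀ x : Kˣ, ∀ v ∈ W, t x *ᵥ v ∈ W := by
    intro x v hv
    rw [memW]
    have e := tU x ((x : K) * x)⁻¹ v
    rw [fixW _ v hv, mul_inv_cancel₀ (mul_ne_zero x.ne_zero x.ne_zero)] at e
    exact e.symm
  have tX : ∀ (x : Kˣ) a, ∀ v ∈ W, X ((x : K) * x * a) v = t x *ᵥ X a (t x *ᵥ v) := by
    intro x a v _
    simp only [hXdef, hDdef]
    rw [mulVec_add (t x), tU, tw]
  have Xsq : ∀ x : Kˣ, ∀ v ∈ W, X ((x : K) * x) v = t (x * x) *ᵥ v := by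
    intro x v hv
    have e := tX x 1 v hv
    rw [mul_one, X1 _ (tW x v hv), ttv] at e
    exact e
  have Xzero : ∀ v, X 0 v = 0 := fun v => by simp only [hXdef, hDdef, U0, v_add_self]
  have Xeq : ∀ c : K, c ≠ 0 → ∃ z : Kˣ, ∀ v ∈ W, X c v = t z *ᵥ v := by
    intro c hc
    obtain ⟨s, hs⟩ := sqrt_exists c
    have hs0 : s ≠ 0 := fun e => hc (by rw [← hs, e, mul_zero])
    exact ⟨Units.mk0 s hs0 * Units.mk0 s hs0, fun v hv => by
      rw [← Xsq _ v hv]; simp [hs]⟩
  have Xcomm : ∀ a c, ∀ v ∈ W, X a (X c v) = X c (X a v) := by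
    intro a c v hv
    rcases eq_or_ne a 0 with rfl | ha
    · rw [Xzero, Xzero]; simp [hXdef, hDdef, mulVec_zero]
    rcases eq_or_ne c 0 with rfl | hc
    · rw [Xzero, Xzero]; simp [hXdef, hDdef, mulVec_zero]
    obtain ⟨z, hz⟩ := Xeq a ha
    obtain ⟨z', hz'⟩ := Xeq c hc
    rw [hz' v hv, hz _ (tW _ v hv), hz v hv, hz' _ (tW _ v hv), ttv, ttv, mul_comm]
  have Xsymm : ∀ c, ∀ x ∈ W, ∀ y ∈ W, altForm4 (X c x) (w *ᵥ y) = altForm4 (X c y) (w *ᵥ x) := by
    intro c x _ y _
    simp only [hXdef, hDdef, hU]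
    rw [dev_adjoint (hH (ψ (PlaneSub.up c)).2) (hUinv c), f4_comm]
  -- the endomorphism
  set Y : K → M4 := fun c => (U c + 1) * w * (1 + w * (U 1 + 1)) + w * ((U c + 1) * w * (U 1 + 1)) with hYdef
  have hY : ∀ c v, Y c *ᵥ v = X c (v + w *ᵥ D 1 v) + w *ᵥ X c (D 1 v) := by
    intro c v
    simp only [hYdef, hXdef, hDdef]
    simp only [← mulVec_mulVec, add_mulVec, one_mulVec, mulVec_add]
    abel
  have hD1 : ∀ x ∈ W, ∀ y ∈ W, D 1 (x + w *ᵥ y) = y := by
    intro x hx y hy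
    have : D 1 (w *ᵥ y) = y := X1 y hy
    simp only [hDdef] at this ⊢
    rw [mulVec_add, fixW 1 x hx, add_add_add_comm, v_add_self, zero_add, this]
  have hYW : ∀ c, ∀ x ∈ W, ∀ y ∈ W, Y c *ᵥ (x + w *ᵥ y) = X c x + w *ᵥ X c y := by
    intro c x hx y hy
    rw [hY, hD1 x hx y hy, add_assoc x, v_add_self, add_zero]
  have hdecomp : ∀ v, ∃ x ∈ W, ∃ y ∈ W, v = x + w *ᵥ y :=
    fun v => ⟨_, hsplit v, _, devW 1 v, by rw [add_assoc, v_add_self, add_zero]⟩
  have Xadd : ∀ c x y, X c (x + y) = X c x + X c y := fun c x y => by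
    simp only [hXdef, hDdef, mulVec_add]; abel
  have hYU : ∀ c a v, Y c *ᵥ (U a *ᵥ v) = U a *ᵥ (Y c *ᵥ v) := by
    intro c a v
    obtain ⟨x, hx, y, hy, rfl⟩ := hdecomp v
    have e : ∀ x ∈ W, ∀ y, U a *ᵥ (x + w *ᵥ y) = (x + X a y) + w *ᵥ y := by
      intro x hx y
      simp only [hXdef, hDdef]
      rw [mulVec_add, fixW a x hx, add_assoc x, add_assoc (U a *ᵥ _), v_add_self, add_zero]
    rw [e x hx y, hYW c _ (W.add_mem hx (devW _ _)) y hy, hYW c x hx y hy, e _ (devW _ _) (X c y), Xadd,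
      Xcomm a c y hy]
  have hYw : ∀ c v, Y c *ᵥ (w *ᵥ v) = w *ᵥ (Y c *ᵥ v) := by
    intro c v
    obtain ⟨x, hx, y, hy, rfl⟩ := hdecomp v
    rw [show w *ᵥ (x + w *ᵥ y) = y + w *ᵥ x by rw [mulVec_add, ww, add_comm], hYW c y hy x hx,
      hYW c x hx y hy, mulVec_add w (X c x), ww (X c y), add_comm]
  have hYg : ∀ c, ∀ g ∈ H, Y c * (g : M4) = (g : M4) * Y c := by
    intro c g hg
    obtain ⟨M, hM⟩ := ψ.surjective ⟨g, hg⟩
    have key : Y c * ((ψ M : GL (Fin 4) F) : M4) = ((ψ M : GL (Fin 4) F) : M4) * Y c := by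
      have hMc : M ∈ Subgroup.closure ({swp} ∪ Set.range (PlaneSub.up (F := K))) := by
        rw [closure_up_swp]; trivial
      clear hM
      induction hMc using Subgroup.closure_induction with
      | mem N hN =>
        refine Matrix.ext_of_mulVec_single fun i => ?_
        rcases hN with rfl | ⟨a, rfl⟩
        · rw [← hw, ← mulVec_mulVec, ← mulVec_mulVec, hYw]
        · rw [← hU, ← mulVec_mulVec, ← mulVec_mulVec, hYU]
      | one => rw [one', mul_one, one_mul]
      | mul A B _ _ hA hB => rw [coeψ, ← mul_assoc, hA, mul_assoc, hB, ← mul_assoc]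
      | inv A _ hA =>
        have e1 : ((ψ A⁻¹ : GL (Fin 4) F) : M4) * ((ψ A : GL (Fin 4) F) : M4) = 1 := by
          rw [← coeψ, inv_mul_cancel, one']
        have e2 : ((ψ A : GL (Fin 4) F) : M4) * ((ψ A⁻¹ : GL (Fin 4) F) : M4) = 1 := by
          rw [← coeψ, mul_inv_cancel, one']
        calc Y c * ((ψ A⁻¹ : GL (Fin 4) F) : M4) =
            ((ψ A⁻¹ : GL (Fin 4) F) : M4) * (((ψ A : GL (Fin 4) F) : M4) * Y c) *
              ((ψ A⁻¹ : GL (Fin 4) F) : M4) := by rw [← mul_assoc, e1, one_mul]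
          _ = ((ψ A⁻¹ : GL (Fin 4) F) : M4) * Y c := by rw [← hA, mul_assoc, mul_assoc, e2, mul_one]
    rw [hM] at key
    exact key
  have hwsymm : ∀ x y, altForm4 x (w *ᵥ y) = altForm4 y (w *ᵥ x) := fun x y => by
    rw [← hwF, ww, f4_comm]
  have hYalt : ∀ c v, altForm4 (Y c *ᵥ v) v = 0 := by
    intro c v
    obtain ⟨x, hx, y, hy, rfl⟩ := hdecomp v
    rw [hYW c x hx y hy, Symp.add_left isSymp, Symp.add_right isSymp, Symp.add_right isSymp,
      hiso _ (devW _ _) x hx, hwF, hiso _ (devW _ _) y hy, f4_comm (w *ᵥ X c y) x, hwsymm x,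
      Xsymm c x hx y hy, zero_add, add_zero]
    exact CharTwo.add_self_eq_zero _
  by_cases hsc : ∀ c, ∃ k : F, ∀ x ∈ W, X c x = k • x
  swap
  · push Not at hsc
    obtain ⟨c, hc⟩ := hsc
    refine ⟨Y c, hYg c, hYalt c, fun ⟨k, hk⟩ => ?_⟩
    obtain ⟨x, hx, hne⟩ := hc k
    apply hne
    have e := hYW c x hx 0 W.zero_mem
    rw [hk, mulVec_zero, add_zero, smul_mulVec, one_mulVec] at e
    rw [e]
    simp [hXdef, hDdef, mulVec_zero]
  exfalso
  -- all scalar: an invariant isotropic plane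
  let q : V4 → F := fun x => altForm4 x (w *ᵥ x)
  have hqa : ∀ x y, q (x + y) = q x + q y := fun x y => by
    simp only [q, mulVec_add, Symp.add_left isSymp, Symp.add_right isSymp]
    rw [hwsymm y x]
    linear_combination (altForm4 x (w *ᵥ y)) * (CharTwo.two_eq_zero (R := F))
  have hqs : ∀ (k : F) x, q (k • x) = k * k * q x := fun k x => by
    simp only [q, mulVec_smul, Symp.smul_left isSymp, Symp.smul_right isSymp]; ring
  have h2W : 2 ≤ finrank F W := by
    let Φ : W × W →ₗ[F] V4 := (W.subtype.comp (LinearMap.fst F W W)) +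
      ((Matrix.mulVecLin w).comp (W.subtype.comp (LinearMap.snd F W W)))
    have hΦ : Function.Surjective Φ := fun v => by
      obtain ⟨x, hx, y, hy, rfl⟩ := hdecomp v
      exact ⟨(⟨x, hx⟩, ⟨y, hy⟩), rfl⟩
    have h := LinearMap.finrank_le_finrank_of_surjective (f := Φ) hΦ
    rw [Module.finrank_pi, Fintype.card_fin, Module.finrank_prod] at h
    omega
  obtain ⟨x, hx, hx0, hqx⟩ : ∃ x ∈ W, x ≠ 0 ∧ q x = 0 := by
    obtain ⟨x₁, hx₁, hx₁0⟩ := Submodule.exists_mem_ne_zero_of_ne_bot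
      (p := W) (fun e => by rw [e, finrank_bot] at h2W; omega)
    obtain ⟨x₂, hx₂, hx₂'⟩ : ∃ x₂ ∈ W, x₂ ∉ Submodule.span F {x₁} := by
      by_contra h
      push Not at h
      have := (Submodule.finrank_mono h).trans (finrank_span_singleton hx₁0).le
      omega
    by_cases hq1 : q x₁ = 0
    · exact ⟨x₁, hx₁, hx₁0, hq1⟩
    obtain ⟨k, hk⟩ := sqrt_exists (q x₂ / q x₁)
    refine ⟨k • x₁ + x₂, W.add_mem (W.smul_mem _ hx₁) hx₂, fun e => hx₂' ?_, ?_⟩
    · rw [← v_eq_of_add e]; exact Submodule.smul_mem _ _ (Submodule.mem_span_singleton_self _)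
    · rw [hqa, hqs, hk, div_mul_cancel₀ _ hq1]
      exact CharTwo.add_self_eq_zero _
  set P := Submodule.span F (Set.range ![x, w *ᵥ x])
  have memP : ∀ {v}, v ∈ P ↔ ∃ s r : F, v = s • x + r • (w *ᵥ x) := fun {v} => by
    rw [Submodule.mem_span_range_iff_exists_fun]
    constructor
    · rintro ⟨c, rfl⟩; exact ⟨c 0, c 1, by simp [Fin.sum_univ_two]⟩
    · rintro ⟨s, r, rfl⟩; exact ⟨![s, r], by simp [Fin.sum_univ_two]⟩
  have hPx : x ∈ P := memP.2 ⟨1, 0, by simp⟩
  refine hx0 ((Submodule.mem_bot F).1 (hno P ?_ ?_ ▸ hPx))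
  · intro u hu v hv
    obtain ⟨s, r, rfl⟩ := memP.1 hu
    obtain ⟨s', r', rfl⟩ := memP.1 hv
    simp only [Symp.add_left isSymp, Symp.add_right isSymp, Symp.smul_left isSymp, Symp.smul_right isSymp,
      (isSymp (F := F)).alternating, show altForm4 x (w *ᵥ x) = 0 from hqx,
      (f4_comm (w *ᵥ x) x).trans hqx, mul_zero, add_zero]
  · intro g hg
    obtain ⟨M, hM⟩ := ψ.surjective ⟨g, hg⟩
    have key : ∀ v ∈ P, ((ψ M : GL (Fin 4) F) : M4) *ᵥ v ∈ P := by
      have hMc : M ∈ Subgroup.closure ({swp} ∪ Set.range (PlaneSub.up (F := K))) := by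
        rw [closure_up_swp]; trivial
      clear hM
      induction hMc using Subgroup.closure_induction with
      | mem N hN =>
        intro v hv
        obtain ⟨s, r, rfl⟩ := memP.1 hv
        rcases hN with rfl | ⟨a, rfl⟩
        · rw [← hw, mulVec_add, mulVec_smul, mulVec_smul, ww, add_comm]
          exact memP.2 ⟨r, s, rfl⟩
        · obtain ⟨k, hk⟩ := hsc a
          have e : U a *ᵥ (w *ᵥ x) = k • x + w *ᵥ x := by
            rw [← hk x hx]
            simp only [hXdef, hDdef]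
            rw [add_assoc, v_add_self, add_zero]
          rw [← hU, mulVec_add, mulVec_smul, mulVec_smul, fixW a x hx, e]
          exact memP.2 ⟨s + r * k, r, by module⟩
      | one => intro v hv; rwa [one', one_mulVec]
      | mul A B _ _ hA hB => intro v hv; rw [coeψ, ← mulVec_mulVec]; exact hA _ (hB v hv)
      | inv A _ hA =>
        intro v hv
        have hle : P.map (Matrix.mulVecLin ((ψ A : GL (Fin 4) F) : M4)) ≤ P := by
          rintro _ ⟨u, hu, rfl⟩
          exact hA u hu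
        have hi : Function.Injective (Matrix.mulVecLin ((ψ A : GL (Fin 4) F) : M4)) := fun u u' e => by
          have e' := congrArg (fun v => ((ψ A⁻¹ : GL (Fin 4) F) : M4) *ᵥ v) e
          simpa [mulVec_mulVec, ← coeψ, one'] using e'
        have heq := Submodule.eq_of_le_of_finrank_eq hle
          (Submodule.equivMapOfInjective _ hi P).finrank_eq.symm
        obtain ⟨u, hu, rfl⟩ := heq.ge hv
        rw [Matrix.mulVecLin_apply, mulVec_mulVec, ← coeψ, inv_mul_cancel, one', one_mulVec]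
        exact hu
    rw [hM] at key
    exact key

end commutant

/-! ### The quadratic form of a second alternating form -/

omit [Fintype F] in
theorem minor_quad {g : GL (Fin 4) F} (hg : g ∈ Sp4 F) (y : V4) :
    let z := ∑ r : Fin 4, y r * ((g : M4) 0 (pairOf r).1 * (g : M4) 3 (pairOf r).2 -
      (g : M4) 3 (pairOf r).1 * (g : M4) 0 (pairOf r).2)
    (star4 (g : M4) *ᵥ y) 0 * (star4 (g : M4) *ᵥ y) 3 + (star4 (g : M4) *ᵥ y) 1 * (star4 (g : M4) *ᵥ y) 2 =
      y 0 * y 3 + y 1 * y 2 + z * z := by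
  intro z
  have hs := colSymp_star4 ((SuzukiGroup.mem_sp4_iff _).1 hg)
  obtain ⟨A, hA⟩ : ∃ A, A = star4 (g : M4) := ⟨_, rfl⟩
  rw [← hA] at hs ⊢
  obtain ⟨m, hm⟩ : ∃ m : Fin 4 → F, m = fun r => (g : M4) 0 (pairOf r).1 * (g : M4) 3 (pairOf r).2 -
      (g : M4) 3 (pairOf r).1 * (g : M4) 0 (pairOf r).2 := ⟨_, rfl⟩
  have hcol : ∀ r, A 0 r * A 3 r + A 1 r * A 2 r = m r * m r := by
    intro r
    have h03 := Suzuki.sp4_cols hg (pairOf r).1 (pairOf r).2
    rw [hA, hm]
    simp only [star4, Matrix.of_apply]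
    fin_cases r <;> simp [pairOf, Suzuki.szJ] at h03 ⊢ <;> grind
  have hz : z = ∑ r, y r * m r := by rw [hm]
  rw [hz]
  have h01 := hs 0 1
  have h02 := hs 0 2
  have h03 := hs 0 3
  have h12 := hs 1 2
  have h13 := hs 1 3
  have h23 := hs 2 3
  simp [altForm4] at h01 h02 h03 h12 h13 h23
  simp only [mulVec, dotProduct, Fin.sum_univ_four]
  have c0 := hcol 0
  have c1 := hcol 1
  have c2 := hcol 2
  have c3 := hcol 3
  grind

/-- A second alternating form invariant under the image gives a quadratic form invariant under the group. -/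
theorem exists_quad_of_commutant {G : Subgroup (GL (Fin 4) F)} (R : Resid G) {Y : M4}
    (hY : ∀ g ∈ starGroup G, Y * (g : M4) = (g : M4) * Y) (halt : ∀ v, altForm4 (Y *ᵥ v) v = 0)
    (hns : ¬ ∃ c : F, Y = c • 1) :
    ∃ Q : V4 → F, Cfsg.Geo.IsNondegenerateQuadraticForm Q ∧ ∀ g ∈ G, ∀ v, Q ((g : M4) *ᵥ v) = Q v := by
  set β : V4 → V4 → F := fun u v => altForm4 (Y *ᵥ u) v with hβ
  have βcomm : ∀ u v, β u v = β v u := fun u v => by
    have h := halt (u + v)
    simp only [hβ, mulVec_add, Symp.add_left isSymp, Symp.add_right isSymp, halt, zero_add, add_zero] at h ⊢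
    exact CharTwo.add_eq_zero.1 h
  have βinv : ∀ g ∈ starGroup G, ∀ u v, β ((g : M4) *ᵥ u) ((g : M4) *ᵥ v) = β u v := by
    intro g hg u v
    simp only [hβ]
    rw [mulVec_mulVec, hY g hg, ← mulVec_mulVec, isometry_iff _ _ _ (starGroup_le G hg)]
  set l : V4 → F := fun y => ∑ r : Fin 4, y r * β (Pi.single (pairOf r).1 1) (Pi.single (pairOf r).2 1)
  set t : F := β (Pi.single 0 1) (Pi.single 3 1) + β (Pi.single 1 1) (Pi.single 2 1)
  have hl : ∀ g ∈ starGroup G, ∀ y, l y = l (star4 (g : M4) *ᵥ y) + t * ∑ r : Fin 4, y r *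
      ((g : M4) 0 (pairOf r).1 * (g : M4) 3 (pairOf r).2 - (g : M4) 3 (pairOf r).1 * (g : M4) 0 (pairOf r).2) := by
    intro g hg y
    have key : ∀ r, β (Pi.single (pairOf r).1 1) (Pi.single (pairOf r).2 1) =
        ∑ p : Fin 4, star4 (g : M4) p r * β (Pi.single (pairOf p).1 1) (Pi.single (pairOf p).2 1) +
          t * ((g : M4) 0 (pairOf r).1 * (g : M4) 3 (pairOf r).2 -
            (g : M4) 3 (pairOf r).1 * (g : M4) 0 (pairOf r).2) := by
      intro r
      conv_lhs => rw [← βinv g hg]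
      have hb : ∀ u v : V4, β u v = ∑ i : Fin 4, ∑ j : Fin 4, u i * v j * β (Pi.single i 1) (Pi.single j 1) := by
        intro u v
        conv_lhs => rw [show u = ∑ i, u i • (Pi.single i 1 : V4) from (pi_eq_sum_univ' u),
          show v = ∑ j, v j • (Pi.single j 1 : V4) from (pi_eq_sum_univ' v)]
        simp only [hβ, Fin.sum_univ_four, mulVec_add, mulVec_smul, Symp.add_left isSymp, Symp.add_right isSymp,
          Symp.smul_left isSymp, Symp.smul_right isSymp]
        ring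
      have hdiag : ∀ i, β (Pi.single i 1) (Pi.single i 1) = 0 := fun i => halt _
      rw [hb]
      have h03 := Suzuki.sp4_cols (starGroup_le G hg) (pairOf r).1 (pairOf r).2
      have s10 := βcomm (Pi.single 1 1) (Pi.single 0 1)
      have s20 := βcomm (Pi.single 2 1) (Pi.single 0 1)
      have s30 := βcomm (Pi.single 3 1) (Pi.single 0 1)
      have s21 := βcomm (Pi.single 2 1) (Pi.single 1 1)
      have s31 := βcomm (Pi.single 3 1) (Pi.single 1 1)
      have s32 := βcomm (Pi.single 3 1) (Pi.single 2 1)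
      simp only [Fin.sum_univ_four, mulVec_single_one, Matrix.col_apply, hdiag, s10, s20, s30, s21, s31, s32, t,
        star4, Matrix.of_apply]
      fin_cases r <;> simp [pairOf, Suzuki.szJ] at h03 ⊢ <;> grind
    show (∑ r : Fin 4, y r * β (Pi.single (pairOf r).1 1) (Pi.single (pairOf r).2 1)) =
      (∑ p : Fin 4, (∑ r : Fin 4, star4 (g : M4) p r * y r) * β (Pi.single (pairOf p).1 1) (Pi.single (pairOf p).2 1)) + _
    rw [Finset.sum_congr rfl (fun r _ => by rw [key r])]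
    simp only [Fin.sum_univ_four]
    ring
  have ladd : ∀ x y, l (x + y) = l x + l y := fun x y => by
    simp only [l, Pi.add_apply, add_mul, Finset.sum_add_distrib]
  have lsmul : ∀ (c : F) x, l (c • x) = c * l x := fun c x => by
    simp only [l, Pi.smul_apply, smul_eq_mul, Finset.mul_sum, mul_assoc]
  have hsq : ∀ y : V4, ∃ x : V4, (fun i => x i ^ 2) = y := fun y => by
    choose x hx using fun i => sqrt_exists (y i)
    exact ⟨x, funext fun i => by rw [sq]; exact hx i⟩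
  have hfrob : ∀ g (hg : g ∈ G) (x : V4), (fun i => ((g : M4) *ᵥ x) i ^ 2) =
      star4 (((starHom ⟨g, R.le hg⟩ : GL (Fin 4) F)) : M4) *ᵥ (fun i => x i ^ 2) := by
    intro g hg x
    rw [← starHom_coe, starHom_starHom]
    funext i
    simp only [mulVec, dotProduct, Matrix.map_apply]
    rw [sum_pow_char]
    simp [mul_pow]
  by_cases ht : t = 0
  · exfalso
    have hzero : ∀ y, l y = 0 := by
      let W : Submodule F V4 :=
        { carrier := {x | l (fun i => x i ^ 2) = 0}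
          zero_mem' := by
            show l (fun i => (0 : V4) i ^ 2) = 0
            simp [l]
          add_mem' := fun {x y} hx hy => by
            show l (fun i => (x + y) i ^ 2) = 0
            rw [show (fun i => (x + y) i ^ 2) = (fun i => x i ^ 2) + (fun i => y i ^ 2) from
              funext fun i => CharTwo.add_sq (x i) (y i), ladd, hx, hy, add_zero]
          smul_mem' := fun c x hx => by
            show l (fun i => (c • x) i ^ 2) = 0
            rw [show (fun i => (c • x) i ^ 2) = (c ^ 2) • (fun i => x i ^ 2) from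
              funext fun i => mul_pow c (x i) 2, lsmul, hx, mul_zero] }
      rcases R.irr W (fun g hg x hx => by
        show l (fun i => ((g : M4) *ᵥ x) i ^ 2) = 0
        have h := hl _ (mem_starGroup R.le hg) (fun i => x i ^ 2)
        rw [ht, zero_mul, add_zero] at h
        rw [hfrob g hg x, ← h]
        exact hx) with h | h
      · exfalso
        let L : V4 →ₗ[F] F := ⟨⟨l, ladd⟩, lsmul⟩
        have hr := LinearMap.finrank_range_add_finrank_ker L
        have hr1 := Submodule.finrank_le (LinearMap.range L)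
        rw [Module.finrank_self] at hr1
        rw [Module.finrank_pi, Fintype.card_fin] at hr
        obtain ⟨y, hy, hy0⟩ := Submodule.exists_mem_ne_zero_of_ne_bot
          (p := LinearMap.ker L) (fun e => by rw [e, finrank_bot] at hr; omega)
        obtain ⟨x, rfl⟩ := hsq y
        have hxW : x ∈ W := hy
        rw [h, Submodule.mem_bot] at hxW
        exact hy0 (by rw [hxW]; funext i; simp)
      · intro y
        obtain ⟨x, rfl⟩ := hsq y
        exact (h ▸ Submodule.mem_top : x ∈ W)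
    apply hns
    refine ⟨β (Pi.single 0 1) (Pi.single 3 1), Matrix.ext fun i j => ?_⟩
    have e : ∀ i j, Y i j = β (Pi.single j 1) (Pi.single i.rev 1) := fun i j => by
      simp only [hβ, mulVec_single_one, altForm4, Matrix.col_apply]
      fin_cases i <;> simp [Fin.rev]
    have z0 := hzero (Pi.single 0 1)
    have z1 := hzero (Pi.single 1 1)
    have z2 := hzero (Pi.single 2 1)
    have z3 := hzero (Pi.single 3 1)
    simp [l, Fin.sum_univ_four, pairOf] at z0 z1 z2 z3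
    have t' : β (Pi.single 1 1) (Pi.single 2 1) = β (Pi.single 0 1) (Pi.single 3 1) :=
      (CharTwo.add_eq_zero.1 ht).symm
    have hd : ∀ i, β (Pi.single i 1) (Pi.single i 1) = 0 := fun i => halt _
    rw [e]
    fin_cases i <;> fin_cases j <;>
      simp [Fin.rev, Matrix.smul_apply, z0, z1, z2, z3, t', hd, βcomm (Pi.single 1 1) (Pi.single 0 1),
        βcomm (Pi.single 2 1) (Pi.single 0 1), βcomm (Pi.single 3 1) (Pi.single 0 1),
        βcomm (Pi.single 2 1) (Pi.single 1 1), βcomm (Pi.single 3 1) (Pi.single 1 1),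
        βcomm (Pi.single 3 1) (Pi.single 2 1)]
  -- the form
  set Q₁ : V4 → F := fun y => y 0 * y 3 + y 1 * y 2 + (l y / t) * (l y / t) with hQ₁
  have hQinv : ∀ g ∈ starGroup G, ∀ y, Q₁ (star4 (g : M4) *ᵥ y) = Q₁ y := by
    intro g hg y
    have hm := minor_quad (starGroup_le G hg) y
    simp only [hQ₁, hm, hl g hg y]
    generalize (∑ r : Fin 4, y r * ((g : M4) 0 (pairOf r).1 * (g : M4) 3 (pairOf r).2 -
      (g : M4) 3 (pairOf r).1 * (g : M4) 0 (pairOf r).2)) = z
    field_simp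
    grind
  set φ : F →+* F := (frobeniusEquiv F 2).symm.toRingHom with hφ
  have hφsq : ∀ a : F, φ a ^ 2 = a := fun a => (frobeniusEquiv F 2).apply_symm_apply a
  have hφsq' : ∀ a : F, φ (a ^ 2) = a := fun a => (frobeniusEquiv F 2).symm_apply_apply a
  set Q : V4 → F := fun x => φ (Q₁ fun i => x i ^ 2) with hQ
  have hpol : QuadraticMap.polar Q = altForm4 := by
    funext u v
    simp only [QuadraticMap.polar, hQ]
    rw [show (fun i => (u + v) i ^ 2) = (fun i => u i ^ 2) + (fun i => v i ^ 2) from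
      funext fun i => CharTwo.add_sq (u i) (v i), ← map_sub, ← map_sub]
    have e : Q₁ ((fun i => u i ^ 2) + fun i => v i ^ 2) - Q₁ (fun i => u i ^ 2) - Q₁ (fun i => v i ^ 2) =
        altForm4 u v ^ 2 := by
      simp only [hQ₁, ladd, Pi.add_apply, altForm4]
      field_simp
      grind
    rw [e, hφsq']
  refine ⟨Q, ⟨fun c x => ?_, hpol ▸ (isSymp (F := F)).bilinear, hpol ▸ (isSymp (F := F)).nondegenerate⟩, ?_⟩
  · simp only [hQ]
    rw [show (fun i => (c • x) i ^ 2) = (c ^ 2) • (fun i => x i ^ 2) from funext fun i => mul_pow c (x i) 2]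
    have e : ∀ (k : F) (y : V4), Q₁ (k • y) = k ^ 2 * Q₁ y := fun k y => by
      simp only [hQ₁, lsmul, Pi.smul_apply, smul_eq_mul]
      ring
    rw [e, map_mul, map_pow φ (c ^ 2), hφsq']
  · intro g hg x
    simp only [hQ]
    rw [hfrob g hg x, hQinv _ (mem_starGroup R.le hg)]

end CfsgLib.Sp4Resid
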