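import Cfsg.Agent.Lib.Sp4Resid.Basic

/-!
The transvections of a subgroup of `Sp₄` in characteristic two are indexed by vectors; two of them with
non-orthogonal vectors are conjugate in the group they generate.
-/

set_option autoImplicit false

open scoped MatrixGroups Matrix

namespace CfsgLib.Sp4Resid

open Matrix Cfsg.Lie CfsgLib.GeomClasses CfsgLib.GeomClasses.Symp Module

variable {F : Type*} [Field F] [CharP F 2]

local notation "f4" => (altForm4 : (Fin 4 → F) → (Fin 4 → F) → F)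
local notation "M4" => Matrix (Fin 4) (Fin 4) F

/-- The transvection of a vector. -/
noncomputable def Tv (u : Fin 4 → F) : GL (Fin 4) F := formTv f4 u 1

theorem Tv_mulVec (u x : Fin 4 → F) : (Tv u : M4) *ᵥ x = x + altForm4 x u • u := by
  rw [Tv, formTv_mulVec isSymp, one_mul]

theorem Tv_mem (u : Fin 4 → F) : Tv u ∈ Sp4 F := formTv_mem u 1

theorem Tv_smul_mulVec (c : F) (u x : Fin 4 → F) :
    (Tv (c • u) : M4) *ᵥ x = x + (c * c * altForm4 x u) • u := by
  rw [Tv_mulVec, Symp.smul_right isSymp, smul_smul]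
  congr 2
  ring

theorem Tv_self (u : Fin 4 → F) : (Tv u : M4) *ᵥ u = u := by
  rw [Tv_mulVec, (isSymp (F := F)).alternating, zero_smul, add_zero]

theorem Tv_line (a b : F) (u : Fin 4 → F) : Tv (a • u) * Tv (b • u) = Tv ((a + b) • u) := by
  refine gl_ext fun x => ?_
  rw [gl_mul_mulVec, Tv_smul_mulVec, Tv_smul_mulVec, Tv_smul_mulVec, Symp.add_left isSymp,
    Symp.smul_left isSymp, (isSymp (F := F)).alternating, mul_zero, add_zero, add_assoc, ← add_smul]
  congr 2
  linear_combination (-(a * b * altForm4 x u)) * (CharTwo.two_eq_zero (R := F))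

theorem Tv_zero : Tv (0 : Fin 4 → F) = 1 := gl_ext fun x => by
  rw [Tv_mulVec, smul_zero, add_zero, Units.val_one, one_mulVec]

theorem Tv_mul_self (u : Fin 4 → F) : Tv u * Tv u = 1 := by
  have h := Tv_line (1 : F) 1 u
  rwa [one_smul, CharTwo.add_self_eq_zero, zero_smul, Tv_zero] at h

theorem Tv_inv (u : Fin 4 → F) : (Tv u)⁻¹ = Tv u := inv_eq_of_mul_eq_one_right (Tv_mul_self u)

theorem Tv_conj {g : GL (Fin 4) F} (hg : g ∈ Sp4 F) (u : Fin 4 → F) :
    g * Tv u * g⁻¹ = Tv ((g : M4) *ᵥ u) := conj_formTv isSymp hg u 1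

theorem exists_pairing {u : Fin 4 → F} (hu : u ≠ 0) : ∃ y, altForm4 y u = 1 := by
  obtain ⟨y, hy⟩ : ∃ y, altForm4 u y ≠ 0 := by
    by_contra h
    push Not at h
    exact hu (eq_zero_of_pair h)
  exact ⟨(altForm4 u y)⁻¹ • y, by rw [Symp.smul_left isSymp, f4_comm y u, inv_mul_cancel₀ hy]⟩

theorem Tv_inj {u v : Fin 4 → F} (hu : u ≠ 0) (h : Tv u = Tv v) : u = v := by
  obtain ⟨y, hy⟩ := exists_pairing hu
  have e := congrArg (fun g : GL (Fin 4) F => (g : M4) *ᵥ y) h
  simp only [Tv_mulVec, hy, one_smul, add_right_inj] at e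
  have e2 := congrArg (altForm4 y) e
  rw [hy, Symp.smul_right isSymp] at e2
  have h1 : altForm4 y v ^ 2 = 1 ^ 2 := by rw [one_pow, sq]; exact e2.symm
  rwa [CharTwo.sq_injective h1, one_smul] at e

theorem Tv_eq_one {u : Fin 4 → F} (h : Tv u = 1) : u = 0 := by
  by_contra hu
  exact hu (Tv_inj hu (h.trans Tv_zero.symm))

theorem Tv_commute {u w : Fin 4 → F} (h : altForm4 u w = 0) : Commute (Tv u) (Tv w) := by
  have h' : altForm4 w u = 0 := (f4_comm _ _).trans h
  refine gl_ext fun x => ?_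
  simp only [gl_mul_mulVec, Tv_mulVec, Symp.add_left isSymp, Symp.smul_left isSymp, h, h', mul_zero, add_zero]
  exact add_right_comm _ _ _

/-- The elements fixing the vectors orthogonal to two given ones. -/
def fixPerp (u w : Fin 4 → F) : Subgroup (GL (Fin 4) F) where
  carrier := {g | ∀ r, altForm4 r u = 0 → altForm4 r w = 0 → (g : M4) *ᵥ r = r}
  one_mem' := fun r _ _ => by rw [Units.val_one, one_mulVec]
  mul_mem' := fun {g h} hg hh r h1 h2 => by rw [gl_mul_mulVec, hh r h1 h2, hg r h1 h2]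
  inv_mem' := fun {g} hg r h1 h2 => by
    have e := congrArg (fun v => ((g⁻¹ : GL (Fin 4) F) : M4) *ᵥ v) (hg r h1 h2)
    simp only [gl_inv_mulVec_mulVec] at e
    exact e.symm

theorem Tv_mem_fixPerp (u w : Fin 4 → F) (a b : F) : Tv (a • u + b • w) ∈ fixPerp u w := fun r h1 h2 => by
  rw [Tv_mulVec, Symp.add_right isSymp, Symp.smul_right isSymp, Symp.smul_right isSymp, h1, h2, mul_zero,
    mul_zero, add_zero, zero_smul, add_zero]

theorem eq_one_of_fix {u w : Fin 4 → F} (h : altForm4 u w ≠ 0) {g : GL (Fin 4) F} (hu : (g : M4) *ᵥ u = u)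
    (hw : (g : M4) *ᵥ w = w) (hp : g ∈ fixPerp u w) : g = 1 := by
  refine gl_ext fun v => ?_
  set a := altForm4 v w / altForm4 u w
  set b := altForm4 v u / altForm4 u w
  have h1 : altForm4 (v + a • u + b • w) u = 0 := by
    rw [Symp.add_left isSymp, Symp.add_left isSymp, Symp.smul_left isSymp, Symp.smul_left isSymp,
      (isSymp (F := F)).alternating, mul_zero, add_zero, f4_comm w u, div_mul_cancel₀ _ h,
      CharTwo.add_self_eq_zero]
  have h2 : altForm4 (v + a • u + b • w) w = 0 := by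
    rw [Symp.add_left isSymp, Symp.add_left isSymp, Symp.smul_left isSymp, Symp.smul_left isSymp,
      (isSymp (F := F)).alternating, mul_zero, add_zero, div_mul_cancel₀ _ h, CharTwo.add_self_eq_zero]
  have e := hp _ h1 h2
  rw [mulVec_add, mulVec_add, mulVec_smul, mulVec_smul, hu, hw] at e
  rw [Units.val_one, one_mulVec]
  exact add_right_cancel (add_right_cancel e)

variable [Finite F]

theorem exists_conj {u w : Fin 4 → F} (h : altForm4 u w ≠ 0) :
    ∃ g ∈ Subgroup.closure {Tv u, Tv w}, (g : M4) *ᵥ u = w := by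
  have hu0 : u ≠ 0 := fun e => h (by rw [e, Symp.zero_left isSymp])
  have hw0 : w ≠ 0 := fun e => h (by rw [e, Symp.zero_right isSymp])
  set K := Subgroup.closure {Tv u, Tv w} with hK
  set a := Tv u with hadef
  set b := Tv w with hbdef
  set x := a * b with hx
  have ha2 : a * a = 1 := Tv_mul_self u
  have hai : a⁻¹ = a := Tv_inv u
  have hbi : b⁻¹ = b := Tv_inv w
  have haK : a ∈ K := Subgroup.subset_closure (by simp [hadef, hbdef])
  have hbK : b ∈ K := Subgroup.subset_closure (by simp [hadef, hbdef])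
  have hxK : x ∈ K := K.mul_mem haK hbK
  have hKle : K ≤ Sp4 F ⊓ fixPerp u w := by
    rw [hK, Subgroup.closure_le]
    rintro g (rfl | rfl)
    · exact ⟨Tv_mem u, by simpa using Tv_mem_fixPerp u w 1 0⟩
    · exact ⟨Tv_mem w, by simpa using Tv_mem_fixPerp u w 0 1⟩
  have hax : ∀ n : ℕ, a * x ^ n * a⁻¹ = (x ^ n)⁻¹ := by
    intro n
    rw [← conj_pow, ← inv_pow]
    congr 1
    rw [hx, _root_.mul_inv_rev, hai, hbi]
    calc a * (a * b) * a = (a * a) * (b * a) := by group
      _ = b * a := by rw [ha2, one_mul]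
  have hk : Odd (orderOf x) := by
    by_contra hk
    rw [Nat.not_odd_iff_even] at hk
    obtain ⟨m, hm⟩ := hk
    have hpos : 0 < orderOf x := orderOf_pos x
    set z := x ^ m with hz
    have hzK : z ∈ K := pow_mem hxK m
    have hzz : z⁻¹ = z := inv_eq_of_mul_eq_one_right (by rw [hz, ← pow_add, ← hm, pow_orderOf_eq_one])
    have hz1 : z ≠ 1 := fun e => by
      have := orderOf_le_of_pow_eq_one (by omega) e
      omega
    have hza : Commute z a := by
      have e := hax m
      rw [← hz, hzz, mul_inv_eq_iff_eq_mul] at e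
      exact e.symm
    have hzb : Commute z b := by
      have hzx : Commute z x := Commute.pow_left (Commute.refl x) m
      have e : b = a * x := by rw [hx, ← mul_assoc, Tv_mul_self, one_mul]
      rw [e]
      exact hza.mul_right hzx
    refine hz1 (eq_one_of_fix h ?_ ?_ (hKle hzK).2)
    · refine (Tv_inj hu0 ?_).symm
      rw [← Tv_conj (hKle hzK).1, hza.eq, mul_inv_cancel_right]
    · refine (Tv_inj hw0 ?_).symm
      rw [← Tv_conj (hKle hzK).1, hzb.eq, mul_inv_cancel_right]
  obtain ⟨j, hj⟩ := hk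
  refine ⟨x ^ j, pow_mem hxK j, (Tv_inj hw0 ?_).symm⟩
  rw [← Tv_conj (hKle (pow_mem hxK j)).1]
  have h2 : x ^ (j + j) * x = 1 := by
    rw [← pow_succ, show j + j + 1 = orderOf x by omega, pow_orderOf_eq_one]
  calc b = x⁻¹ * a := by rw [hx, _root_.mul_inv_rev, inv_mul_cancel_right, hbi]
    _ = x ^ (j + j) * a := by rw [eq_inv_of_mul_eq_one_left h2]
    _ = x ^ j * (x ^ j * a) := by rw [pow_add, mul_assoc]
    _ = x ^ j * (a * (x ^ j)⁻¹) := by
        rw [← hax j]
        congr 1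
        rw [← mul_assoc, ← mul_assoc, ha2, one_mul, hai]
    _ = x ^ j * a * (x ^ j)⁻¹ := by rw [mul_assoc]

/-! ### The vectors of the transvections in a group -/

/-- The vectors whose transvections lie in the group. -/
def cent (G : Subgroup (GL (Fin 4) F)) : Set (Fin 4 → F) := {u | u ≠ 0 ∧ Tv u ∈ G}

variable {G : Subgroup (GL (Fin 4) F)} (hG : G ≤ Sp4 F)
include hG

omit [Finite F] in
theorem cent_conj {g : GL (Fin 4) F} (hg : g ∈ G) {u : Fin 4 → F} (hu : u ∈ cent G) :
    (g : M4) *ᵥ u ∈ cent G := by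
  refine ⟨fun e => hu.1 ?_, ?_⟩
  · have := congrArg (fun v => ((g⁻¹ : GL (Fin 4) F) : M4) *ᵥ v) e
    simpa [gl_inv_mulVec_mulVec] using this
  · rw [← Tv_conj (hG hg)]
    exact G.mul_mem (G.mul_mem hg hu.2) (G.inv_mem hg)

omit hG in
theorem cent_exists_conj {u w : Fin 4 → F} (hu : u ∈ cent G) (hw : w ∈ cent G) (h : altForm4 u w ≠ 0) :
    ∃ g ∈ G, (g : M4) *ᵥ u = w ∧ g ∈ fixPerp u w := by
  obtain ⟨g, hg, e⟩ := exists_conj h
  refine ⟨g, ?_, e, ?_⟩
  · refine (Subgroup.closure_le G).2 ?_ hg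
    rintro y (rfl | rfl)
    exacts [hu.2, hw.2]
  · refine (Subgroup.closure_le (fixPerp u w)).2 ?_ hg
    rintro y (rfl | rfl)
    · simpa using Tv_mem_fixPerp u w 1 0
    · simpa using Tv_mem_fixPerp u w 0 1

omit [Finite F] hG in
/-- A simple group is generated by the transvections in it, if it has one. -/
theorem closure_cent_eq [IsSimpleGroup ↥G] (hG' : G ≤ Sp4 F) (hne : (cent G).Nonempty) :
    Subgroup.closure (Tv '' cent G) = G := by
  set N := Subgroup.closure (Tv '' cent G)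
  have hle : N ≤ G := (Subgroup.closure_le G).2 (by rintro _ ⟨u, hu, rfl⟩; exact hu.2)
  have hn : (N.subgroupOf G).Normal := by
    refine ⟨fun x hx g => ?_⟩
    have hmap : N.map (MulAut.conj (g : GL (Fin 4) F)).toMonoidHom ≤ N := by
      rw [MonoidHom.map_closure, Subgroup.closure_le]
      rintro _ ⟨_, ⟨u, hu, rfl⟩, rfl⟩
      exact Subgroup.subset_closure ⟨_, cent_conj hG' g.2 hu, (Tv_conj (hG' g.2) u).symm⟩
    exact hmap ⟨x, hx, rfl⟩
  rcases hn.eq_bot_or_eq_top with h | h
  · obtain ⟨u, hu⟩ := hne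
    have : (⟨Tv u, hu.2⟩ : ↥G) ∈ N.subgroupOf G := Subgroup.subset_closure ⟨u, hu, rfl⟩
    rw [h, Subgroup.mem_bot] at this
    exact absurd (Tv_eq_one (congrArg Subtype.val this)) hu.1
  · exact le_antisymm hle (Subgroup.subgroupOf_eq_top.1 h)

end CfsgLib.Sp4Resid
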