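import Cfsg.Agent.Lib.Sp4Resid.Basic

/-!
The three classes of involutions, and the centraliser in the class without a transvection on either side.
-/

set_option autoImplicit false

open scoped MatrixGroups Matrix

namespace CfsgLib.Sp4Resid

open Matrix Cfsg.Lie CfsgLib.SuzukiGroup CfsgLib.Large.SzReal CfsgLib.GeomClasses CfsgLib.GeomClasses.Symp Module

variable {F : Type*} [Field F] [CharP F 2]

local notation "f4" => (altForm4 : (Fin 4 → F) → (Fin 4 → F) → F)
local notation "M4" => Matrix (Fin 4) (Fin 4) F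

/-- A group without transvections on either side. -/
def NoRoot (g : GL (Fin 4) F) : Prop :=
  (∀ u : Fin 4 → F, u ≠ 0 → g ≠ formTv f4 u 1) ∧
    ∀ u : Fin 4 → F, u ≠ 0 → star4 (g : M4) ≠ (formTv f4 u 1 : M4)

theorem sqrt_exists [Finite F] (a : F) : ∃ b : F, b * b = a := by
  obtain ⟨b, hb⟩ := FiniteField.isSquare_of_char_two (F := F) (ringChar.eq F 2) a
  exact ⟨b, hb.symm⟩

section invol

variable [Finite F] {g : GL (Fin 4) F} (hg : g ∈ Sp4 F) (h2 : (g : Matrix (Fin 4) (Fin 4) F) * g = 1)
include hg h2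

theorem isC_of_noRoot (h1 : g ≠ 1) (hn : NoRoot g) : IsC g := by
  obtain ⟨x₀, hx₀⟩ : ∃ x, (g : M4) *ᵥ x + x ≠ 0 := by
    by_contra h
    push Not at h
    exact h1 (gl_ext fun x => by rw [CharTwo.add_eq_zero.1 (h x), Units.val_one, one_mulVec])
  have hcol : ∀ u : Fin 4 → F, (∀ z, ∃ c : F, (g : M4) *ᵥ z + z = c • u) →
      ∀ v, altForm4 u v ≠ 0 → False := by
    intro u hu v hv
    obtain ⟨c₀, hc₀⟩ := hu v
    have hz : ∀ z, ((g : M4) *ᵥ z + z) = ((c₀ / altForm4 u v) * altForm4 z u) • u := by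
      intro z
      obtain ⟨c, hc⟩ := hu z
      have e := dev_adjoint hg h2 z v
      rw [hc, hc₀, Symp.smul_left isSymp, Symp.smul_right isSymp] at e
      rw [hc]
      congr 1
      field_simp
      linear_combination e
    obtain ⟨b, hb⟩ := sqrt_exists (c₀ / altForm4 u v)
    have hgT : g = formTv f4 (b • u) 1 := gl_ext fun z => by
      rw [formTv_smul isSymp, formTv_mulVec isSymp, mul_one, hb]
      rw [← hz z, add_left_comm, CharTwo.add_self_eq_zero, add_zero]
    refine hn.1 _ (fun e0 => ?_) hgT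
    apply hx₀
    rw [hgT, e0, formTv_mulVec isSymp, smul_zero, add_zero, CharTwo.add_self_eq_zero]
  have htwo : IsTwo g := by
    refine ⟨h2, fun u => ?_⟩
    by_contra h
    push Not at h
    by_cases hu : u = 0
    · obtain ⟨c, hc⟩ := h x₀
      rw [hu, smul_zero] at hc
      exact hx₀ hc
    · obtain ⟨⟨v, hv⟩, -⟩ := (isSymp (F := F)).nondegenerate u hu
      exact hcol u h v (by first | exact hv | exact fun e => hv ((f4_comm _ _).trans e))
  refine ⟨htwo, ?_⟩
  by_contra h
  push Not at h
  have hdiag : ∀ x, altForm4 ((g : M4) *ᵥ x + x) x = 0 := fun x => by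
    rw [Symp.add_left isSymp, h x, (isSymp (F := F)).alternating, add_zero]
  obtain ⟨y₁, hy₁⟩ : ∃ y, altForm4 ((g : M4) *ᵥ x₀ + x₀) y ≠ 0 := by
    by_contra h'
    push Not at h'
    exact hx₀ (eq_zero_of_pair h')
  set a := altForm4 ((g : M4) *ᵥ x₀ + x₀) y₁ with ha
  set y₀ := a⁻¹ • y₁ with hy₀
  set u := (g : M4) *ᵥ x₀ + x₀ with hu
  set w := (g : M4) *ᵥ y₀ + y₀ with hw
  have huy : altForm4 u y₀ = 1 := by rw [hy₀, Symp.smul_right isSymp, ← ha, inv_mul_cancel₀ hy₁]
  have huw : altForm4 u w = 0 := dev_isotropic hg h2 x₀ y₀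
  have hux : altForm4 u x₀ = 0 := hdiag x₀
  have hwy : altForm4 w y₀ = 0 := hdiag y₀
  have hwx : altForm4 w x₀ = 1 := by
    rw [hw, dev_adjoint hg h2, f4_comm, huy]
  obtain ⟨z₂, hz₂⟩ := htwo.2 0
  -- the deviation lies in the span of `u` and `w`
  have hz : ∀ z, (g : M4) *ᵥ z + z = altForm4 z w • u + altForm4 z u • w := by
    intro z
    obtain ⟨n, hn'⟩ : ∃ n, n = (g : M4) *ᵥ z + z := ⟨_, rfl⟩
    rw [← hn']
    set d := n + (altForm4 z w • u + altForm4 z u • w) with hd
    have hdx : altForm4 d x₀ = 0 := by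
      rw [hd, Symp.add_left isSymp, Symp.add_left isSymp, Symp.smul_left isSymp, Symp.smul_left isSymp, hux,
        hwx, hn', dev_adjoint hg h2, ← hu, mul_zero, zero_add, mul_one, CharTwo.add_self_eq_zero]
    have hdy : altForm4 d y₀ = 0 := by
      rw [hd, Symp.add_left isSymp, Symp.add_left isSymp, Symp.smul_left isSymp, Symp.smul_left isSymp, huy,
        hwy, hn', dev_adjoint hg h2, ← hw, mul_zero, add_zero, mul_one, CharTwo.add_self_eq_zero]
    have hfix : ∀ y, altForm4 ((g : M4) *ᵥ y + y) d = 0 := fun y => by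
      obtain ⟨m, hm⟩ : ∃ m, m = (g : M4) *ᵥ y + y := ⟨_, rfl⟩
      have i1 : altForm4 m n = 0 := by rw [hm, hn', dev_isotropic hg h2]
      have i2 : altForm4 m u = 0 := by rw [hm, hu, dev_isotropic hg h2]
      have i3 : altForm4 m w = 0 := by rw [hm, hw, dev_isotropic hg h2]
      rw [← hm, hd, Symp.add_right isSymp, Symp.add_right isSymp, Symp.smul_right isSymp, Symp.smul_right isSymp,
        i1, i2, i3]
      ring
    by_contra hne
    have hd0 : d ≠ 0 := fun e => hne (CharTwo.add_eq_zero.1 e)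
    have hdu : altForm4 u d = 0 := hfix x₀
    have hdw : altForm4 w d = 0 := hfix y₀
    have hli : LinearIndependent F ![u, w, d] := by
      rw [Fintype.linearIndependent_iff]
      intro c hc
      simp only [Fin.sum_univ_three, Matrix.cons_val_zero, Matrix.cons_val_one, Matrix.cons_val] at hc
      have e1 := congrArg (fun v => altForm4 v x₀) hc
      have e2 := congrArg (fun v => altForm4 v y₀) hc
      simp only [Symp.add_left isSymp, Symp.smul_left isSymp, Symp.zero_left isSymp, hux, hwx, hdx, huy, hwy,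
        hdy, mul_zero, mul_one, zero_add, add_zero] at e1 e2
      rw [e1, e2, zero_smul, zero_smul, zero_add, zero_add] at hc
      intro i
      fin_cases i
      · exact e2
      · exact e1
      · exact (smul_eq_zero.1 hc).resolve_right hd0
    have hsub : Submodule.span F (Set.range ![u, w, d]) ≤
        (Symp.bil (isSymp (F := F))).orthogonal (Submodule.span F (Set.range ![u, w, d])) := by
      rw [Submodule.span_le]
      rintro x ⟨i, rfl⟩
      rw [SetLike.mem_coe, LinearMap.BilinForm.mem_orthogonal_iff]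
      intro y hy
      show altForm4 y (![u, w, d] i) = 0
      induction hy using Submodule.span_induction with
      | mem y hy =>
        obtain ⟨j, rfl⟩ := hy
        have hwu : altForm4 w u = 0 := (f4_comm _ _).trans huw
        have hdu' : altForm4 d u = 0 := (f4_comm _ _).trans hdu
        have hdw' : altForm4 d w = 0 := (f4_comm _ _).trans hdw
        fin_cases i <;> fin_cases j <;>
          simp [huw, hwu, hdu, hdu', hdw, hdw', (isSymp (F := F)).alternating]
      | zero => exact Symp.zero_left isSymp _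
      | add a b _ _ ha hb => rw [Symp.add_left isSymp, ha, hb, add_zero]
      | smul c a _ ha => rw [Symp.smul_left isSymp, ha, mul_zero]
    have h3 := Submodule.finrank_mono hsub
    rw [LinearMap.BilinForm.finrank_orthogonal (Symp.bil_nondegenerate isSymp), finrank_span_eq_card hli] at h3
    simp [Module.finrank_pi] at h3
  have hga : (g : M4) = aMat u w := Matrix.ext_of_mulVec_single fun r => by
    rw [aMat_mulVec, ← hz, add_left_comm, CharTwo.add_self_eq_zero, add_zero]
  refine hn.2 _ ?_ (by rw [hga, star4_aMat huw])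
  intro e
  have h4 := wedge_eq_zero huw e
  have h5 : ∀ i, altForm4 u y₀ * w i = altForm4 w y₀ * u i := fun i => by
    simp only [altForm4]
    linear_combination (y₀ 3) * h4 0 i + (y₀ 2) * h4 1 i + (y₀ 1) * h4 2 i + (y₀ 0) * h4 3 i
  have hw0 : w = 0 := funext fun i => by
    have := h5 i
    rwa [huy, hwy, one_mul, zero_mul] at this
  rw [hw0, Symp.zero_left isSymp] at hwx
  exact zero_ne_one hwx

end invol

/-- Elements commuting with an involution of the remaining class have order dividing four. -/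
theorem pow_four_of_commute [Finite F] {g h : GL (Fin 4) F} (hg : g ∈ Sp4 F) (hh : h ∈ Sp4 F) (hC : IsC g)
    (hcomm : Commute h g) : h ^ 4 = 1 := by
  obtain ⟨⟨h2, hrk⟩, v₁, hv₁⟩ := hC
  set D : (Fin 4 → F) →ₗ[F] (Fin 4 → F) := Matrix.mulVecLin ((g : M4) + 1) with hDdef
  have hD : ∀ x, D x = (g : M4) *ᵥ x + x := fun x => by
    rw [hDdef, Matrix.mulVecLin_apply, add_mulVec, one_mulVec]
  set φ : (Fin 4 → F) → F := fun x => altForm4 (D x) x with hφdef
  have hsym : ∀ x y, altForm4 (D x) y = altForm4 (D y) x := fun x y => by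
    rw [hD, hD]; exact (dev_adjoint hg h2 x y).trans (f4_comm _ _)
  have hφadd : ∀ x y, φ (x + y) = φ x + φ y := fun x y => by
    simp only [hφdef]
    rw [map_add, Symp.add_left isSymp, Symp.add_right isSymp, Symp.add_right isSymp, hsym y x]
    linear_combination (altForm4 (D x) y) * (CharTwo.two_eq_zero (R := F))
  have hφsmul : ∀ (c : F) x, φ (c • x) = c * c * φ x := fun c x => by
    simp only [hφdef]
    rw [map_smul, Symp.smul_left isSymp, Symp.smul_right isSymp]
    ring
  have hv : φ v₁ ≠ 0 := by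
    simp only [hφdef, hD, Symp.add_left isSymp, (isSymp (F := F)).alternating, add_zero]
    exact hv₁
  have hcm : ∀ x, D ((h : M4) *ᵥ x) = (h : M4) *ᵥ D x := fun x => by
    rw [hD, hD, mulVec_add, mulVec_mulVec, mulVec_mulVec, ← Units.val_mul, ← Units.val_mul, hcomm.eq]
  have hB : ∀ x y, altForm4 (D ((h : M4) *ᵥ x)) ((h : M4) *ᵥ y) = altForm4 (D x) y := fun x y => by
    rw [hcm]; exact hh _ _
  -- a vector in the kernel of the diagonal functional outside the kernel of the deviation
  obtain ⟨z, hz⟩ := hrk (D v₁)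
  obtain ⟨r, hr⟩ := sqrt_exists (φ z / φ v₁)
  set u := z + r • v₁ with hu
  have hφu : φ u = 0 := by
    rw [hu, hφadd, hφsmul, hr, div_mul_cancel₀ _ hv, CharTwo.add_self_eq_zero]
  have hDu : D u ≠ 0 := fun e => hz r (by
    rw [hu, map_add, map_smul] at e
    rw [← hD]
    exact CharTwo.add_eq_zero.1 e)
  set β := altForm4 (D u) v₁ with hβdef
  have hindep : LinearIndependent F ![D u, D v₁] := by
    rw [linearIndependent_fin2]
    refine ⟨fun e => hv (by simp only [hφdef]; rw [show D v₁ = 0 from e, Symp.zero_left isSymp]), fun a e => ?_⟩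
    simp only [Matrix.cons_val_zero, Matrix.cons_val_one, Matrix.cons_val_fin_one] at e
    refine hz (a + r) ?_
    rw [← hD, add_smul, e, hu, map_add, map_smul, add_assoc, CharTwo.add_self_eq_zero, add_zero]
  have hk : LinearMap.range D ≤ LinearMap.ker D := by
    rintro _ ⟨y, rfl⟩
    rw [LinearMap.mem_ker, hD, hD, dev_dev h2]
  have hred : ∀ x, ∃ a b : F, D x = a • D u + b • D v₁ ∧ b * b * φ v₁ = φ x := by
    intro x
    have hsp : D x ∈ Submodule.span F (Set.range ![D u, D v₁]) := by
      by_contra hno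
      have hli := linearIndependent_finSnoc.2 ⟨hindep, hno⟩
      have hle : Submodule.span F (Set.range (Fin.snoc ![D u, D v₁] (D x))) ≤ LinearMap.range D := by
        rw [Submodule.span_le]
        rintro y ⟨i, rfl⟩
        fin_cases i <;> exact ⟨_, rfl⟩
      have h3 := Submodule.finrank_mono hle
      rw [finrank_span_eq_card hli] at h3
      have h4 := Submodule.finrank_mono hk
      have h5 := LinearMap.finrank_range_add_finrank_ker D
      rw [Module.finrank_pi, Fintype.card_fin] at h5
      simp at h3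
      omega
    obtain ⟨c, hc⟩ := (Submodule.mem_span_range_iff_exists_fun F).1 hsp
    simp only [Fin.sum_univ_two, Matrix.cons_val_zero, Matrix.cons_val_one, Matrix.cons_val_fin_one] at hc
    refine ⟨c 0, c 1, hc.symm, ?_⟩
    have hk : D (x + (c 0 • u + c 1 • v₁)) = 0 := by
      rw [map_add, map_add, map_smul, map_smul, hc, CharTwo.add_self_eq_zero]
    have : φ (x + (c 0 • u + c 1 • v₁)) = 0 := by
      simp only [hφdef]; rw [hk, Symp.zero_left isSymp]
    rw [hφadd, hφadd, hφsmul, hφsmul, hφu, mul_zero, zero_add] at this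
    exact (CharTwo.add_eq_zero.1 this).symm
  -- the action on the image
  obtain ⟨a₁, b₁, e₁, q₁⟩ := hred ((h : M4) *ᵥ u)
  obtain ⟨a₂, b₂, e₂, q₂⟩ := hred ((h : M4) *ᵥ v₁)
  have hφh : ∀ x, φ ((h : M4) *ᵥ x) = φ x := fun x => hB x x
  rw [hφh, hφu] at q₁
  rw [hφh] at q₂
  have hb₁ : b₁ = 0 := by
    rcases mul_eq_zero.1 q₁ with h' | h'
    · exact mul_self_eq_zero.1 h'
    · exact absurd h' hv
  have hb₂ : b₂ = 1 := by
    have h' : b₂ * b₂ = 1 := mul_right_cancel₀ hv (by rw [q₂, one_mul])
    exact CharTwo.sq_injective (show b₂ ^ 2 = 1 ^ 2 by rw [pow_two, h', one_pow])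
  rw [hb₁, zero_smul, add_zero] at e₁
  rw [hb₂, one_smul] at e₂
  have hβ : β ≠ 0 := by
    intro hβ0
    refine hDu (eq_zero_of_pair fun y => ?_)
    obtain ⟨a, b, e, -⟩ := hred y
    rw [hsym, e, Symp.add_left isSymp, Symp.smul_left isSymp, Symp.smul_left isSymp, hsym v₁,
      ← hβdef, hβ0, show altForm4 (D u) u = 0 from hφu, mul_zero, mul_zero, add_zero]
  have ha₁ : a₁ = 1 := by
    have hh' := hB u v₁
    rw [e₁, ← hβdef, Symp.smul_left isSymp, hsym] at hh'
    have e3 : altForm4 (D ((h : M4) *ᵥ v₁)) u = β := by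
      rw [e₂, Symp.add_left isSymp, Symp.smul_left isSymp, show altForm4 (D u) u = 0 from hφu, mul_zero,
        zero_add, hsym]
    rw [e3] at hh'
    exact mul_right_cancel₀ hβ (by rw [hh', one_mul])
  rw [ha₁, one_smul] at e₁
  set E : M4 := (h : M4) + 1 with hE
  have hEv : ∀ x, E *ᵥ x = (h : M4) *ᵥ x + x := fun x => by rw [hE, add_mulVec, one_mulVec]
  have hED : ∀ x, D (E *ᵥ x) = E *ᵥ D x := fun x => by rw [hEv, map_add, hcm, hEv]
  have hEu : D (E *ᵥ u) = 0 := by rw [hEv, map_add, e₁, CharTwo.add_self_eq_zero]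
  have hEv₁ : D (E *ᵥ v₁) = a₂ • D u := by
    rw [hEv, map_add, e₂, add_assoc, CharTwo.add_self_eq_zero, add_zero]
  have hEE : ∀ x, D (E *ᵥ (E *ᵥ x)) = 0 := by
    intro x
    obtain ⟨a, b, e, -⟩ := hred x
    rw [hED, hED, e, mulVec_add, mulVec_smul, mulVec_smul, ← hED, ← hED, hEu, hEv₁, smul_zero, zero_add,
      mulVec_smul, mulVec_smul, ← hED, hEu, smul_zero, smul_zero]
  have hkerim : ∀ x, D x = 0 → ∃ y, D y = x := by
    intro x hx
    have h5 := LinearMap.finrank_range_add_finrank_ker D
    rw [Module.finrank_pi, Fintype.card_fin] at h5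
    have hle : Submodule.span F (Set.range ![D u, D v₁]) ≤ LinearMap.range D := by
      rw [Submodule.span_le]
      rintro y ⟨i, rfl⟩
      fin_cases i <;> exact ⟨_, rfl⟩
    have h6 := Submodule.finrank_mono hle
    rw [finrank_span_eq_card hindep, Fintype.card_fin] at h6
    have h7 : LinearMap.range D = LinearMap.ker D := Submodule.eq_of_le_of_finrank_le hk (by omega)
    exact LinearMap.mem_range.1 (h7 ▸ LinearMap.mem_ker.2 hx)
  have hE4 : E ^ 4 = 0 := by
    refine Matrix.ext_of_mulVec_single fun i => ?_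
    obtain ⟨y, hy⟩ := hkerim _ (hEE (Pi.single i 1))
    rw [show E ^ 4 = E * E * E * E by simp [pow_succ, mul_assoc], ← mulVec_mulVec,
      ← mulVec_mulVec, ← mulVec_mulVec, ← hy, ← hED, ← hED, hEE, zero_mulVec]
  have : CharP M4 2 := CharTwo.of_one_ne_zero_of_two_eq_zero one_ne_zero (by
    ext i j; simp [Matrix.ofNat_apply, CharTwo.two_eq_zero])
  refine Units.ext ?_
  have hp := add_pow_char_pow_of_commute (R := M4) (p := 2) (n := 2) (Commute.one_right (h : M4))
  norm_num at hp
  rw [hE, hp] at hE4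
  rw [Units.val_pow_eq_pow_val, Units.val_one]
  exact CharTwo.add_eq_zero.1 hE4

end CfsgLib.Sp4Resid
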