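import Cfsg.Agent.Lib.Sp4Resid.Traces
import Cfsg.Agent.Lib.PrimRecog.PSLTwoSquareSpectrum

/-!
A symplectic four-dimensional group has no element of order seven conjugate to its square; the consequences
for `PSL₂(p)` and `PSL₃(4)`.
-/

set_option autoImplicit false

open scoped MatrixGroups Matrix

namespace CfsgLib.Sp4Resid

open Matrix Cfsg.Lie CfsgLib.SuzukiGroup CfsgLib.Large.SzReal CfsgLib.GeomClasses CfsgLib.GeomClasses.Symp Module

variable {F : Type*} [Field F] [CharP F 2]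

local notation "M4" => Matrix (Fin 4) (Fin 4) F
local notation "V4" => Fin 4 → F

/-- The vectors killed by `M³ + M + 1`. -/
def cubKer (M : M4) : Submodule F V4 := LinearMap.ker (Matrix.mulVecLin (M * M * M + M + 1))

omit [CharP F 2] in
theorem mem_cubKer {M : M4} {v : V4} : v ∈ cubKer M ↔ M *ᵥ (M *ᵥ (M *ᵥ v)) + M *ᵥ v + v = 0 := by
  simp only [cubKer, LinearMap.mem_ker, Matrix.mulVecLin_apply, add_mulVec, one_mulVec, ← mulVec_mulVec]

theorem cubKer_cube {M : M4} {v : V4} (h : v ∈ cubKer M) : M *ᵥ (M *ᵥ (M *ᵥ v)) = M *ᵥ v + v := by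
  rw [mem_cubKer, add_assoc] at h
  exact v_eq_of_add h

/-- A nonzero kernel of `X³ + X + 1` stable under a twist by squaring has dimension at least three. -/
theorem three_le_cubKer {X Z : M4} (hXZ : X * Z = Z * (X * X)) (hZ : ∀ v : V4, Z *ᵥ v = 0 → v = 0) {v : V4}
    (hv : v ∈ cubKer X) (hv0 : v ≠ 0) : 3 ≤ finrank F (cubKer X) := by
  have hmv : ∀ u : V4, X *ᵥ (Z *ᵥ u) = Z *ᵥ (X *ᵥ (X *ᵥ u)) := fun u => by
    rw [mulVec_mulVec, hXZ, ← mulVec_mulVec, ← mulVec_mulVec]
  have hcl : ∀ u ∈ cubKer X, Z *ᵥ u ∈ cubKer X := by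
    intro u hu
    have h1 := cubKer_cube hu
    rw [mem_cubKer, hmv, hmv, hmv, ← mulVec_add, ← mulVec_add]
    refine (congrArg (Z *ᵥ ·) ?_).trans (mulVec_zero Z)
    simp only [h1, mulVec_add]
    funext i
    simp only [Pi.add_apply, Pi.zero_apply]
    grind
  by_contra hlt
  have hdep : ∀ f : Fin 3 → V4, (∀ i, f i ∈ cubKer X) → ¬ LinearIndependent F f := by
    intro f hf hli
    have h := Submodule.finrank_mono (Submodule.span_le.2 (Set.range_subset_iff.2 hf) :
      Submodule.span F (Set.range f) ≤ cubKer X)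
    rw [finrank_span_eq_card hli, Fintype.card_fin] at h
    omega
  by_cases heig : ∃ w ∈ cubKer X, w ≠ 0 ∧ ∃ μ : F, X *ᵥ w = μ • w
  · obtain ⟨w, hw, hw0, μ, hμ⟩ := heig
    have hcub : μ * μ * μ + μ + 1 = 0 := by
      have h := mem_cubKer.1 hw
      simp only [hμ, mulVec_smul, smul_smul, ← add_smul] at h
      have h' : (μ * μ * μ + μ + 1) • w = 0 := by rw [← h, add_smul _ (1 : F), one_smul]
      exact (smul_eq_zero.1 h').resolve_right hw0
    have hstep : ∀ u : V4, ∀ ν : F, X *ᵥ u = ν • u → X *ᵥ (Z *ᵥ u) = (ν * ν) • (Z *ᵥ u) := fun u ν h => by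
      rw [hmv, h, mulVec_smul, h, smul_smul, mulVec_smul]
    have h1 := hstep w μ hμ
    refine hdep ![w, Z *ᵥ w, Z *ᵥ (Z *ᵥ w)] (fun i => by fin_cases i <;> simp [hw, hcl, -mulVec_mulVec]) ?_
    refine Module.End.eigenvectors_linearIndependent' (Matrix.mulVecLin X)
      ![μ, μ * μ, μ * μ * (μ * μ)] ?_ _ ?_
    · have h01 : μ ≠ μ * μ := fun e => one_ne_zero (show (1 : F) = 0 by grind)
      have h02 : μ ≠ μ * μ * (μ * μ) := fun e => one_ne_zero (show (1 : F) = 0 by grind)
      have h12 : μ * μ ≠ μ * μ * (μ * μ) := fun e =>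
        h01 (CharTwo.sq_injective (show μ ^ 2 = (μ * μ) ^ 2 by linear_combination e))
      intro i j hij
      fin_cases i <;> fin_cases j <;> simp at hij ⊢ <;> grind
    · intro i
      refine Module.End.hasEigenvector_iff.2 ⟨Module.End.mem_eigenspace_iff.2 ?_, ?_⟩
      · fin_cases i
        · simpa [-mulVec_mulVec] using hμ
        · simpa [-mulVec_mulVec] using h1
        · simpa [-mulVec_mulVec] using hstep _ _ h1
      · fin_cases i
        · simpa using hw0
        · simpa [-mulVec_mulVec] using fun e => hw0 (hZ _ e)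
        · simpa [-mulVec_mulVec] using fun e => hw0 (hZ _ (hZ _ e))
  · push Not at heig
    have hXv : X *ᵥ v ∈ cubKer X := by
      rw [mem_cubKer, ← mulVec_add, ← mulVec_add]
      rw [mem_cubKer.1 hv, mulVec_zero]
    have hli : LinearIndependent F ![v, X *ᵥ v] :=
      (LinearIndependent.pair_iff' hv0).2 fun a e => heig v hv hv0 a e.symm
    have hsp : ∀ u ∈ cubKer X, ∃ a b : F, u = a • v + b • (X *ᵥ v) := by
      intro u hu
      by_contra hno
      refine hdep (Fin.snoc ![v, X *ᵥ v] u) (fun i => by fin_cases i <;> simp [Fin.snoc, hv, hXv, hu])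
        (linearIndependent_finSnoc.2 ⟨hli, fun hm => hno ?_⟩)
      obtain ⟨c, hc⟩ := (Submodule.mem_span_range_iff_exists_fun F).1 hm
      simp [Fin.sum_univ_two] at hc
      exact ⟨c 0, c 1, hc.symm⟩
    obtain ⟨a, b, hab⟩ := hsp _ (show X *ᵥ (X *ᵥ v) ∈ cubKer X by
      rw [mem_cubKer, ← mulVec_add, ← mulVec_add, mem_cubKer.1 hXv, mulVec_zero])
    obtain ⟨c, d, hcd⟩ := hsp _ (hcl v hv)
    have h3 := cubKer_cube hv
    have hco : ∀ p r : F, p • v + r • (X *ᵥ v) = 0 → p = 0 ∧ r = 0 :=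
      fun p r h => (LinearIndependent.pair_iff.1 hli) p r h
    -- the cubic relation
    have e3 := hco (b * a + 1) (a + b * b + 1) (by
      have h : X *ᵥ (a • v + b • (X *ᵥ v)) = X *ᵥ v + v := by rw [← hab]; exact h3
      rw [mulVec_add, mulVec_smul, mulVec_smul, hab] at h
      funext i
      have := congrFun h i
      simp only [Pi.add_apply, Pi.smul_apply, Pi.zero_apply, smul_eq_mul] at this ⊢
      grind)
    -- the twisted relation
    have e4 := hco (a * b) (1 + b + b * b) (by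
      have h : X *ᵥ (X *ᵥ (Z *ᵥ v)) = a • (Z *ᵥ v) + b • (X *ᵥ (Z *ᵥ v)) := by
        rw [hcd]
        simp only [mulVec_add, mulVec_smul]
        rw [hab]
        simp only [mulVec_add, mulVec_smul]
        rw [hab]
        funext i
        simp only [Pi.add_apply, Pi.smul_apply, smul_eq_mul]
        ring
      rw [hmv, hmv, ← mulVec_smul, ← mulVec_smul, ← mulVec_add] at h
      have h' : X *ᵥ (X *ᵥ (X *ᵥ (X *ᵥ v))) = a • v + b • (X *ᵥ (X *ᵥ v)) := by
        refine sub_eq_zero.1 (hZ _ ?_)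
        rw [mulVec_sub, h, sub_self]
      rw [h3, mulVec_add, hab] at h'
      funext i
      have := congrFun h' i
      simp only [Pi.add_apply, Pi.smul_apply, Pi.zero_apply, smul_eq_mul] at this ⊢
      grind)
    have := e3.1
    rw [mul_comm b a, e4.1, zero_add] at this
    exact one_ne_zero this

theorem no_seven [Fintype F] {x y : GL (Fin 4) F} (hx : x ∈ Sp4 F) (hxy : y * x = x * x * y) (h7 : x ^ 7 = 1)
    (h1 : x ≠ 1) : False := by
  set X : M4 := (x : M4)
  set Xi : M4 := ((x⁻¹ : GL (Fin 4) F) : M4)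
  set P : M4 := X * X * X + X + 1
  set Q : M4 := X * X * X + X * X + 1
  have htw : ∀ g : GL (Fin 4) F, y * g = g * g * y →
      (g : M4) * ((y⁻¹ : GL (Fin 4) F) : M4) = ((y⁻¹ : GL (Fin 4) F) : M4) * ((g : M4) * g) := fun g hg => by
    rw [← Units.val_mul, ← Units.val_mul, ← Units.val_mul]
    exact congrArg Units.val (show g * y⁻¹ = y⁻¹ * (g * g) by
      rw [mul_inv_eq_iff_eq_mul, mul_assoc, ← hg, inv_mul_cancel_left])
  have hyi : ∀ v : V4, ((y⁻¹ : GL (Fin 4) F) : M4) *ᵥ v = 0 → v = 0 := fun v h => by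
    have := congrArg ((y : M4) *ᵥ ·) h
    simpa [mulVec_mulVec] using this
  have hQi : Xi * Xi * Xi + Xi + 1 = Xi * Xi * Xi * Q := by
    simp only [Q, mul_add, mul_one]
    rw [show Xi * Xi * Xi * (X * X * X) = 1 by simp [X, Xi, mul_assoc],
      show Xi * Xi * Xi * (X * X) = Xi by simp [X, Xi, mul_assoc]]
    abel
  have hdet : ((Xi * Xi * Xi + Xi + 1).det = 0) ↔ P.det = 0 := by
    have : Xi * Xi * Xi + Xi + 1 = jMat * Pᵀ * jMat := by
      simp only [P, Matrix.transpose_add, Matrix.transpose_mul, Matrix.transpose_one, mul_add, add_mul,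
        mul_one, jMat_mul_jMat]
      rw [show Xi = jMat * Xᵀ * jMat from coe_inv_sp hx]
      simp only [Matrix.mul_assoc]
      simp [← Matrix.mul_assoc jMat jMat, jMat_mul_jMat]
    rw [this, Matrix.det_mul_right_comm, jMat_mul_jMat, one_mul, Matrix.det_transpose]
  have hP : P.det = 0 := by
    by_contra hP
    have hQ : Q.det ≠ 0 := by
      intro e
      refine hP (hdet.1 ?_)
      rw [hQi, det_mul, e, mul_zero]
    have hzero : P * (Q * (X + 1)) = 0 := by
      have h : X * X * X * X * X * X * X = 1 := by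
        rw [← Units.val_one, ← h7, Units.val_pow_eq_pow_val]
        simp [pow_succ, X]
      have hch : ∀ A : M4, A + A = 0 := fun A => by
        ext i j; exact CharTwo.add_self_eq_zero _
      simp only [P, Q, mul_add, add_mul, mul_one, one_mul, ← Matrix.mul_assoc, h]
      ext i j
      simp only [Matrix.add_apply, Matrix.zero_apply]
      grind
    refine h1 (Units.ext ?_)
    have hu : ∀ A : M4, A.det ≠ 0 → IsUnit A := fun A hA => (Matrix.isUnit_iff_isUnit_det A).2 (Ne.isUnit hA)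
    rw [(hu _ hP).mul_right_eq_zero, (hu _ hQ).mul_right_eq_zero] at hzero
    ext i j
    have := congrFun (congrFun hzero i) j
    rw [Units.val_one]
    exact CharTwo.add_eq_zero.1 this
  obtain ⟨v, hv0, hv⟩ := Matrix.exists_mulVec_eq_zero_iff.2 hP
  obtain ⟨w, hw0, hw⟩ := Matrix.exists_mulVec_eq_zero_iff.2 (hdet.2 hP)
  have hd1 := three_le_cubKer (htw x hxy) hyi (v := v) (LinearMap.mem_ker.2 hv) hv0
  have hxy' : y * x⁻¹ = x⁻¹ * x⁻¹ * y := by
    rw [← _root_.mul_inv_rev, eq_inv_mul_iff_mul_eq, ← mul_assoc, ← hxy, mul_inv_cancel_right]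
  have hd2 := three_le_cubKer (htw x⁻¹ hxy') hyi (v := w) (LinearMap.mem_ker.2 hw) hw0
  have hbot : cubKer X ⊓ cubKer Xi = ⊥ := by
    rw [Submodule.eq_bot_iff]
    rintro u ⟨hu1, hu2⟩
    have a1 := mem_cubKer.1 hu1
    have a2 : Xi *ᵥ (Xi *ᵥ (Xi *ᵥ u)) + Xi *ᵥ u + u = 0 := mem_cubKer.1 hu2
    have hcan : ∀ z, X *ᵥ (Xi *ᵥ z) = z := fun z => by simp [X, Xi, mulVec_mulVec]
    have a2' := congrArg (fun z => X *ᵥ (X *ᵥ (X *ᵥ z))) a2
    simp only [mulVec_add, hcan, mulVec_zero] at a2'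
    -- `Xu = X²u`
    have h12 : X *ᵥ u = X *ᵥ (X *ᵥ u) := by
      funext i
      have b1 := congrFun a1 i
      have b2 := congrFun a2' i
      simp only [Pi.add_apply, Pi.zero_apply] at b1 b2
      grind
    rw [← h12, ← h12, v_add_self, zero_add] at a1
    exact a1
  have h := Submodule.finrank_sup_add_finrank_inf_eq (cubKer X) (cubKer Xi)
  rw [hbot, finrank_bot] at h
  have h4 := Submodule.finrank_le (cubKer X ⊔ cubKer Xi)
  rw [Module.finrank_pi, Fintype.card_fin] at h4
  change 3 ≤ finrank F (cubKer X) at hd1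
  change 3 ≤ finrank F (cubKer Xi) at hd2
  omega

variable [Fintype F] {G : Subgroup (GL (Fin 4) F)}

theorem Core.no_seven_conj (C : Core G) {H : Type*} [Group H] (ψ : H ≃* ↥G) {a b : H} (hab : b * a = a * a * b)
    (h7 : a ^ 7 = 1) (h1 : a ≠ 1) : False := by
  refine no_seven (x := (ψ a : GL (Fin 4) F)) (y := (ψ b : GL (Fin 4) F)) (C.le (ψ a).2) ?_ ?_ ?_
  · rw [← Subgroup.coe_mul, ← Subgroup.coe_mul, ← Subgroup.coe_mul, ← map_mul, hab, map_mul, map_mul]
  · rw [← Subgroup.coe_pow, ← map_pow, h7, map_one, Subgroup.coe_one]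
  · intro e
    exact h1 (ψ.injective (Subtype.ext (by rw [e, map_one, Subgroup.coe_one])))

/-- Elements of two-power order have order at most four. -/
theorem Core.orderOf_le_four (C : Core G) {g : GL (Fin 4) F} (hg : g ∈ G) {k : ℕ} (hk : 3 ≤ k) :
    orderOf g ≠ 2 ^ k := by
  intro ho
  set i := g ^ 2 ^ (k - 1)
  have hi2 : i * i = 1 := by
    rw [← pow_add, ← two_mul, ← pow_succ', show k - 1 + 1 = k by omega, ← ho, pow_orderOf_eq_one]
  have hi1 : i ≠ 1 := by
    refine pow_ne_one_of_lt_orderOf (by positivity) ?_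
    rw [ho]; exact Nat.pow_lt_pow_right (by norm_num) (by omega)
  have h := pow_four_of_commute (C.le (pow_mem hg _)) (C.le hg)
    (C.isC C.four_le (pow_mem hg _) (by rw [← Units.val_mul, hi2, Units.val_one]) hi1) (Commute.self_pow g _)
  have hd := orderOf_dvd_of_pow_eq_one h
  rw [ho, show (4 : ℕ) = 2 ^ 2 from rfl] at hd
  have := (Nat.pow_dvd_pow_iff_le_right (by norm_num)).1 hd
  omega

theorem Core.no_psl_odd_prime (C : Core G) {K : Type} [Field K] [Fintype K] (h7 : 7 ≤ Fintype.card K)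
    (hp : (Fintype.card K).Prime) {k : ℕ} (hk : Fintype.card K = 2 ^ k + 1 ∨ Fintype.card K + 1 = 2 ^ k)
    (ψ : ↥G ≃* ProjectiveSpecialLinearGroup (Fin 2) K) : False := by
  haveI : Fact (Fintype.card K).Prime := ⟨hp⟩
  haveI : CharP K (Fintype.card K) := charP_of_card_eq_prime rfl
  by_cases h17 : 17 ≤ Fintype.card K
  · have hk5 : 4 ≤ k := by
      by_contra hlt
      have : 2 ^ k ≤ 2 ^ 3 := Nat.pow_le_pow_right (by norm_num) (by omega)
      omega
    have he : 2 ^ k = 2 * 2 ^ (k - 1) := by rw [← pow_succ', show k - 1 + 1 = k by omega]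
    have hg : Nat.gcd 2 (Fintype.card K - 1) = 2 :=
      Nat.gcd_eq_left (Nat.Odd.sub_odd (hp.odd_of_ne_two (by omega)) odd_one).two_dvd
    have hm : 2 ^ (k - 1) ∈ CfsgLib.PrimRecog.PSLSquare.orders (Fintype.card K) K := by
      rcases hk with h | h
      · exact Or.inl (by rw [hg, h]; exact dvd_of_eq (by omega))
      · exact Or.inr (Or.inl (by rw [hg, h]; exact dvd_of_eq (by omega)))
    rw [← CfsgLib.PrimRecog.PSLSquare.range_orderOf_psl] at hm
    obtain ⟨z, hz⟩ := hm
    refine C.orderOf_le_four (g := (ψ.symm z : GL (Fin 4) F)) (ψ.symm z).2 (k := k - 1) (by omega) ?_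
    rw [Subgroup.orderOf_coe, MulEquiv.orderOf_eq, hz]
  · have hk4 : k ≤ 4 := by
      by_contra hlt
      have : 2 ^ 5 ≤ 2 ^ k := Nat.pow_le_pow_right (by norm_num) (by omega)
      omega
    have h7' : Fintype.card K = 7 := by
      have := hp
      rcases hk with h | h <;> interval_cases k <;> norm_num at h <;> try omega
      all_goals (have e : Fintype.card K = 9 ∨ Fintype.card K = 15 := by omega
                 rcases e with e | e <;> rw [e] at this <;> norm_num at this)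
    haveI : CharP K 7 := h7' ▸ (inferInstance : CharP K (Fintype.card K))
    have h70 : (7 : K) = 0 := by exact_mod_cast CharP.cast_eq_zero K 7
    obtain ⟨u, hu⟩ : ∃ u : SpecialLinearGroup (Fin 2) K, (u : Matrix (Fin 2) (Fin 2) K) = !![1, 1; 0, 1] :=
      ⟨⟨!![1, 1; 0, 1], by simp [Matrix.det_fin_two]⟩, rfl⟩
    obtain ⟨d, hd⟩ : ∃ d : SpecialLinearGroup (Fin 2) K, (d : Matrix (Fin 2) (Fin 2) K) = !![4, 0; 0, 2] :=
      ⟨⟨!![4, 0; 0, 2], by rw [Matrix.det_fin_two]; simp; linear_combination h70⟩, rfl⟩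
    refine C.no_seven_conj ψ.symm (a := QuotientGroup.mk u) (b := QuotientGroup.mk d) ?_ ?_ ?_
    · rw [← QuotientGroup.mk_mul, ← QuotientGroup.mk_mul, ← QuotientGroup.mk_mul]
      congr 1
      suffices h : ((d * u : SpecialLinearGroup (Fin 2) K) : Matrix (Fin 2) (Fin 2) K) =
          ((u * u * d : SpecialLinearGroup (Fin 2) K) : Matrix (Fin 2) (Fin 2) K) from Subtype.ext h
      show (d : Matrix (Fin 2) (Fin 2) K) * (u : Matrix (Fin 2) (Fin 2) K) =
        (u : Matrix (Fin 2) (Fin 2) K) * (u : Matrix (Fin 2) (Fin 2) K) * (d : Matrix (Fin 2) (Fin 2) K)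
      rw [hu, hd]
      ext i j
      fin_cases i <;> fin_cases j <;> simp [Matrix.mul_apply, Fin.sum_univ_two] <;> norm_num
    · rw [← QuotientGroup.mk_pow, show u ^ 7 = 1 from ?_]
      · rfl
      suffices h : ((u * u * u * u * u * u * u : SpecialLinearGroup (Fin 2) K) : Matrix (Fin 2) (Fin 2) K) =
          ((1 : SpecialLinearGroup (Fin 2) K) : Matrix (Fin 2) (Fin 2) K) from (by simp only [pow_succ, pow_zero, one_mul]; exact Subtype.ext h)
      show (u : Matrix (Fin 2) (Fin 2) K) * (u : Matrix (Fin 2) (Fin 2) K) * (u : Matrix (Fin 2) (Fin 2) K) *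
        (u : Matrix (Fin 2) (Fin 2) K) * (u : Matrix (Fin 2) (Fin 2) K) * (u : Matrix (Fin 2) (Fin 2) K) *
        (u : Matrix (Fin 2) (Fin 2) K) = 1
      rw [hu]
      ext i j
      fin_cases i <;> fin_cases j <;> simp [Matrix.mul_apply, Fin.sum_univ_two] <;> linear_combination h70
    · intro e
      rw [QuotientGroup.eq_one_iff, Matrix.SpecialLinearGroup.mem_center_iff] at e
      obtain ⟨r, -, hr⟩ := e
      have := congrFun (congrFun hr 0) 1
      simp [hu] at this

theorem Core.no_psl_three_four (C : Core G) {K : Type} [Field K] [Fintype K] (hK : Fintype.card K = 4)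
    (ψ : ↥G ≃* ProjectiveSpecialLinearGroup (Fin 3) K) : False := by
  haveI : Fact (Nat.Prime 2) := ⟨Nat.prime_two⟩
  haveI : CharP K 2 := charP_of_card_eq_prime_pow (f := 2) hK
  obtain ⟨c, hc⟩ : ∃ c : SpecialLinearGroup (Fin 3) K,
      (c : Matrix (Fin 3) (Fin 3) K) = !![0, 0, 1; 1, 0, 1; 0, 1, 0] :=
    ⟨⟨!![0, 0, 1; 1, 0, 1; 0, 1, 0], by simp [Matrix.det_fin_three]⟩, rfl⟩
  obtain ⟨d, hd⟩ : ∃ d : SpecialLinearGroup (Fin 3) K,
      (d : Matrix (Fin 3) (Fin 3) K) = !![1, 0, 0; 0, 0, 1; 0, 1, 1] :=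
    ⟨⟨!![1, 0, 0; 0, 0, 1; 0, 1, 1], by simp [Matrix.det_fin_three, CharTwo.neg_eq]⟩, rfl⟩
  refine C.no_seven_conj ψ.symm (a := QuotientGroup.mk c) (b := QuotientGroup.mk d) ?_ ?_ ?_
  · rw [← QuotientGroup.mk_mul, ← QuotientGroup.mk_mul, ← QuotientGroup.mk_mul]
    congr 1
    suffices h : ((d * c : SpecialLinearGroup (Fin 3) K) : Matrix (Fin 3) (Fin 3) K) =
        ((c * c * d : SpecialLinearGroup (Fin 3) K) : Matrix (Fin 3) (Fin 3) K) from Subtype.ext h
    show (d : Matrix (Fin 3) (Fin 3) K) * (c : Matrix (Fin 3) (Fin 3) K) =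
      (c : Matrix (Fin 3) (Fin 3) K) * (c : Matrix (Fin 3) (Fin 3) K) * (d : Matrix (Fin 3) (Fin 3) K)
    rw [hc, hd]
    ext i j
    fin_cases i <;> fin_cases j <;>
      simp [Matrix.mul_apply, Fin.sum_univ_three, CharTwo.add_self_eq_zero]
  · rw [← QuotientGroup.mk_pow, show c ^ 7 = 1 from ?_]
    · rfl
    suffices h : ((c * c * c * c * c * c * c : SpecialLinearGroup (Fin 3) K) : Matrix (Fin 3) (Fin 3) K) =
        ((1 : SpecialLinearGroup (Fin 3) K) : Matrix (Fin 3) (Fin 3) K) from (by simp only [pow_succ, pow_zero, one_mul]; exact Subtype.ext h)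
    show (c : Matrix (Fin 3) (Fin 3) K) * (c : Matrix (Fin 3) (Fin 3) K) * (c : Matrix (Fin 3) (Fin 3) K) *
      (c : Matrix (Fin 3) (Fin 3) K) * (c : Matrix (Fin 3) (Fin 3) K) * (c : Matrix (Fin 3) (Fin 3) K) *
      (c : Matrix (Fin 3) (Fin 3) K) = 1
    rw [hc]
    ext i j
    fin_cases i <;> fin_cases j <;>
      simp [Matrix.mul_apply, Fin.sum_univ_three, CharTwo.add_self_eq_zero]
  · intro e
    rw [QuotientGroup.eq_one_iff, Matrix.SpecialLinearGroup.mem_center_iff] at e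
    obtain ⟨r, -, hr⟩ := e
    have := congrFun (congrFun hr 1) 0
    simp [hc] at this

end CfsgLib.Sp4Resid
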