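import Cfsg.Agent.Lib.Sp4Resid.Traces
import Cfsg.Agent.Lib.ClassicalGroups.SmallIso
import Cfsg.Agent.Lib.Mitchell.FieldsModel

/-!
`A₆` is not a core over a field with at least four elements: all its traces lie in the prime field.
-/

set_option autoImplicit false

open scoped MatrixGroups Matrix Pointwise

namespace CfsgLib.Sp4Resid

open Matrix Cfsg.Lie CfsgLib.SuzukiGroup CfsgLib.Large.SzReal CfsgLib.GeomClasses CfsgLib.GeomClasses.Symp Module
  Equiv.Perm

variable {F : Type*} [Field F] [CharP F 2]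

local notation "M4" => Matrix (Fin 4) (Fin 4) F
local notation "V4" => Fin 4 → F

theorem m_add_self (A : M4) : A + A = 0 := by ext i j; exact CharTwo.add_self_eq_zero _

/-- The sum `1 + z + z²`. -/
def nMat (z : M4) : M4 := 1 + z + z * z

/-- The trace of a product of an involution and a fixed-point-free element of order three, if of order five. -/
theorem fpf_five [Fintype F] {t y : GL (Fin 4) F} (ht : t ∈ Sp4 F) (hT : IsTwo t)
    (hy : nMat (y : M4) = 0) (h5 : (t * y) ^ 5 = 1) :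
    ((t * y : GL (Fin 4) F) : M4).trace ^ 2 = ((t * y : GL (Fin 4) F) : M4).trace := by
  obtain ⟨hW, -⟩ := kerv_plane ht hT
  set T : M4 := (t : M4)
  set Y : M4 := (y : M4)
  have hyv : ∀ v : V4, Y *ᵥ (Y *ᵥ v) = v + Y *ᵥ v := fun v => by
    have h := congrArg (· *ᵥ v) hy
    simp only [nMat, add_mulVec, one_mulVec, zero_mulVec, ← mulVec_mulVec] at h
    exact (v_eq_of_add h).symm
  have htv : ∀ v : V4, T *ᵥ (T *ᵥ v) = v := fun v => by rw [mulVec_mulVec, hT.1, one_mulVec]
  set X : V4 → V4 := fun v => T *ᵥ (Y *ᵥ v) with hX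
  have hXadd : ∀ u v, X (u + v) = X u + X v := fun u v => by simp only [hX, mulVec_add]
  have h5v : ∀ v, X (X (X (X (X v)))) = v := fun v => by
    have h := congrArg (fun g : GL (Fin 4) F => (g : M4) *ᵥ v) h5
    simpa only [hX, pow_succ, pow_zero, one_mul, Units.val_mul, Units.val_one, one_mulVec,
      ← mulVec_mulVec] using h
  have hfpf : ∀ v, X v = v → v = 0 := by
    intro v hv
    set w := Y *ᵥ v
    have hw : T *ᵥ v = w := by
      conv_lhs => rw [← hv]
      exact htv w
    have hxw : X w = w + v := by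
      simp only [hX, w]
      rw [hyv, mulVec_add, show T *ᵥ (Y *ᵥ v) = v from hv, hw]
    have h := h5v w
    simp only [hxw, hXadd, hv] at h
    funext i
    have := congrFun h i
    simp only [Pi.add_apply, Pi.zero_apply] at this ⊢
    grind
  have hWY : ∀ w, T *ᵥ w = w → T *ᵥ (Y *ᵥ w) = Y *ᵥ w → w = 0 := by
    intro w hw hyw
    have h1 : X w = Y *ᵥ w := hyw
    have h2 : X (X w) = X w + w := by
      rw [h1]; simp only [hX]
      rw [hyv, mulVec_add, hw, hyw, add_comm]
    have h3 : X (X (X w)) = w := by rw [h2, hXadd, h2, add_comm (X w) w, add_assoc, v_add_self, add_zero]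
    refine hfpf w ?_
    have h := h5v w
    rw [h3] at h
    -- `X² w = w`, `X³ w = w`
    conv_rhs => rw [← h3, h]
  have hWcard : ∃ w : Fin 2 → V4, (∀ i, T *ᵥ w i = w i) ∧ LinearIndependent F w ∧
      ∀ u, T *ᵥ u = u → ∃ c : Fin 2 → F, ∑ i, c i • w i = u := by
    refine ⟨fun i => ((Module.finBasisOfFinrankEq F (kerv t) hW i : kerv t) : V4), fun i => ?_, ?_, fun u hu => ?_⟩
    · exact mem_kerv.1 (Module.finBasisOfFinrankEq F (kerv t) hW i).2
    · exact (Module.finBasisOfFinrankEq F (kerv t) hW).linearIndependent.map' (kerv t).subtype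
        (Submodule.ker_subtype _)
    · refine ⟨(Module.finBasisOfFinrankEq F (kerv t) hW).repr ⟨u, mem_kerv.2 hu⟩, ?_⟩
      have h := congrArg Subtype.val ((Module.finBasisOfFinrankEq F (kerv t) hW).sum_repr ⟨u, mem_kerv.2 hu⟩)
      simpa only [Submodule.coe_sum, Submodule.coe_smul] using h
  obtain ⟨w, hw, hli, hsp⟩ := hWcard
  have hM : ∀ i, ∃ c : Fin 2 → F, c 0 • w 0 + c 1 • w 1 = X (w i) + Y *ᵥ w i := fun i => by
    obtain ⟨c, hc⟩ := hsp (X (w i) + Y *ᵥ w i) (by simp only [hX, mulVec_add, htv]; abel)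
    exact ⟨c, by rw [← hc, Fin.sum_univ_two]⟩
  choose m hm using hM
  have hx1 : ∀ i, X (w i) = m i 0 • w 0 + m i 1 • w 1 + Y *ᵥ w i := fun i => by
    rw [hm, add_assoc, v_add_self, add_zero]
  have hx2 : ∀ i, X (Y *ᵥ w i) = m i 0 • w 0 + m i 1 • w 1 + w i + Y *ᵥ w i := fun i => by
    show T *ᵥ (Y *ᵥ (Y *ᵥ w i)) = _
    rw [hyv, mulVec_add, hw, show T *ᵥ (Y *ᵥ w i) = X (w i) from rfl, hx1]
    abel
  have hli2 : ∀ a b c d : F, a • w 0 + b • w 1 + c • (Y *ᵥ w 0) + d • (Y *ᵥ w 1) = 0 →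
      a = 0 ∧ b = 0 ∧ c = 0 ∧ d = 0 := by
    intro a b c d h
    have hli' : LinearIndependent F ![w 0, w 1] := by
      convert hli using 1; funext i; fin_cases i <;> rfl
    have hu : c • w 0 + d • w 1 = 0 := by
      refine hWY _ (by rw [mulVec_add, mulVec_smul, mulVec_smul, hw, hw]) ?_
      have e : Y *ᵥ (c • w 0 + d • w 1) = a • w 0 + b • w 1 := by
        rw [mulVec_add, mulVec_smul, mulVec_smul]
        refine (v_eq_of_add ?_).symm
        rw [← add_assoc]; exact h
      rw [e, mulVec_add, mulVec_smul, mulVec_smul, hw, hw]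
    obtain ⟨hc, hd⟩ := LinearIndependent.pair_iff.1 hli' c d hu
    rw [hc, hd, zero_smul, zero_smul, add_zero, add_zero] at h
    obtain ⟨ha, hb⟩ := LinearIndependent.pair_iff.1 hli' a b h
    exact ⟨ha, hb, hc, hd⟩
  -- the matrix of `x` in the basis `w₀, w₁, yw₀, yw₁`
  set b : Fin 4 → V4 := ![w 0, w 1, Y *ᵥ w 0, Y *ᵥ w 1]
  set X' : M4 := !![m 0 0, m 1 0, m 0 0 + 1, m 1 0; m 0 1, m 1 1, m 0 1, m 1 1 + 1; 1, 0, 1, 0; 0, 1, 0, 1]
  set B : M4 := (Matrix.of b)ᵀ
  have hBu : IsUnit B := by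
    rw [← Matrix.linearIndependent_cols_iff_isUnit]
    show LinearIndependent F b
    rw [Fintype.linearIndependent_iff]
    intro g hg i
    simp [Fin.sum_univ_four, b] at hg
    obtain ⟨h0, h1, h2, h3⟩ := hli2 _ _ _ _ hg
    fin_cases i <;> assumption
  have hrel : T * Y * B = B * X' := by
    refine Matrix.ext_col fun j => ?_
    have hl : ∀ j, (T * Y * B).col j = X (b j) := fun j => by
      simp only [hX]
      rw [mulVec_mulVec]
      rfl
    have hr : ∀ j, (B * X').col j = X' 0 j • b 0 + X' 1 j • b 1 + X' 2 j • b 2 + X' 3 j • b 3 := fun j => by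
      funext i
      simp [B, Matrix.mul_apply, Fin.sum_univ_four]
      ring
    rw [hl, hr]
    fin_cases j <;> simp [b, X', hx1, hx2, add_smul] <;> abel
  have htr : ((t * y : GL (Fin 4) F) : M4).trace = m 0 0 + m 1 1 := by
    have e : T * Y = B * X' * B⁻¹ := by
      rw [← hrel, Matrix.mul_nonsing_inv_cancel_right _ _ ((Matrix.isUnit_iff_isUnit_det _).1 hBu)]
    rw [Units.val_mul, e, Matrix.trace_mul_cycle, Matrix.nonsing_inv_mul _ ((Matrix.isUnit_iff_isUnit_det _).1 hBu),
      one_mul]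
    simp [X', Matrix.trace, Fin.sum_univ_four]
    grind
  -- `M² + M + 1 = 0`, from `s² + s + 1 = 0` with `s = x + x⁻¹`
  have hXinv : ∀ v, X (Y *ᵥ (Y *ᵥ (T *ᵥ v))) = v := fun v => by
    show T *ᵥ (Y *ᵥ (Y *ᵥ (Y *ᵥ (T *ᵥ v)))) = v
    rw [hyv (Y *ᵥ (T *ᵥ v)), hyv, add_comm (Y *ᵥ (T *ᵥ v)), add_assoc, v_add_self, add_zero, htv]
  have hΦ : ∀ v, v + X v + X (X v) + X (X (X v)) + X (X (X (X v))) = 0 := by
    intro v
    refine hfpf _ ?_
    rw [hXadd, hXadd, hXadd, hXadd, h5v]
    abel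
  have hs : ∀ v, X v + Y *ᵥ (Y *ᵥ (T *ᵥ v)) = X v + X (X (X (X v))) := fun v => by
    congr 1
    conv_rhs => rw [← hXinv v]
    exact (h5v _).symm
  have hMM : ∀ i, ∃ p r : F, p • w 0 + r • w 1 = 0 ∧
      p = m i 0 * m 0 0 + m i 1 * m 1 0 + m i 0 + (if i = 0 then 1 else 0) ∧
      r = m i 0 * m 0 1 + m i 1 * m 1 1 + m i 1 + (if i = 1 then 1 else 0) := by
    intro i
    refine ⟨_, _, ?_, rfl, rfl⟩
    have hS : ∀ j, X (w j) + X (X (X (X (w j)))) = m j 0 • w 0 + m j 1 • w 1 + w j := fun j => by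
      rw [← hs, hw, hyv, hx1]
      funext k; simp only [Pi.add_apply]; grind
    have hXs : ∀ (c : F) u, X (c • u) = c • X u := fun c u => by simp only [hX, mulVec_smul]
    have h2 : X (X (w i) + X (X (X (X (w i))))) + X (X (X (X (X (w i) + X (X (X (X (w i)))))))) =
        X (X (w i)) + X (X (X (w i))) := by
      simp only [hXadd, h5v]
      funext k; simp only [Pi.add_apply]; grind
    rw [hS i] at h2
    simp only [hXadd, hXs] at h2
    have e0 := hΦ (w i)
    funext k
    have a := congrFun h2 k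
    have b := congrFun e0 k
    have c := congrFun (hS i) k
    have d0 := congrFun (hS 0) k
    have d1 := congrFun (hS 1) k
    simp only [Pi.add_apply, Pi.smul_apply, Pi.zero_apply, smul_eq_mul] at a b c d0 d1 ⊢
    fin_cases i <;> simp at a b c d0 d1 ⊢ <;> grind
  have hli' : LinearIndependent F ![w 0, w 1] := by
    convert hli using 1; funext i; fin_cases i <;> rfl
  obtain ⟨p, r, e, hp, hr⟩ := hMM 0
  obtain ⟨p', r', e', hp', hr'⟩ := hMM 1
  obtain ⟨rfl, rfl⟩ := LinearIndependent.pair_iff.1 hli' p r e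
  obtain ⟨rfl, rfl⟩ := LinearIndependent.pair_iff.1 hli' p' r' e'
  simp at hp hr hp' hr'
  rw [htr]
  by_cases h1 : m 0 0 + m 1 1 = 1
  · rw [h1]; ring
  · have hb : m 1 0 * (m 0 0 + m 1 1 + 1) = 0 := by linear_combination -hp'
    have hc : m 0 1 * (m 0 0 + m 1 1 + 1) = 0 := by linear_combination -hr
    have hne : m 0 0 + m 1 1 + 1 ≠ 0 := fun e => h1 (CharTwo.add_eq_zero.1 e)
    rw [(mul_eq_zero.1 hb).resolve_right hne] at hp hr'
    grind

/-- The fixed-point-free elements in an elementary abelian group of order nine. -/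
theorem exists_nMat_eq_zero [Fintype F] {a b : GL (Fin 4) F} (ha : a ∈ Sp4 F) (hb : b ∈ Sp4 F)
    (hab : a * b = b * a) (ha3 : a ^ 3 = 1) (hb3 : b ^ 3 = 1) (ha1 : a ≠ 1) (hb1 : b ≠ 1)
    (h1 : a * b ≠ 1) (h2 : a * (b * b) ≠ 1) :
    nMat (a : M4) = 0 ∨ nMat (b : M4) = 0 ∨ nMat ((a * b : GL (Fin 4) F) : M4) = 0 ∨
      nMat ((a * (b * b) : GL (Fin 4) F) : M4) = 0 := by
  by_contra hcon
  push Not at hcon
  obtain ⟨hp0, hq0, hr0, hs0⟩ := hcon
  obtain ⟨A, hAdef⟩ : ∃ A : M4, A = (a : M4) := ⟨_, rfl⟩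
  obtain ⟨B, hBdef⟩ : ∃ B : M4, B = (b : M4) := ⟨_, rfl⟩
  rw [← hAdef] at hp0
  rw [← hBdef] at hq0
  rw [Units.val_mul, ← hAdef, ← hBdef] at hr0
  rw [Units.val_mul, Units.val_mul, ← hAdef, ← hBdef] at hs0
  have hA : A * (A * A) = 1 := by
    rw [hAdef, ← Units.val_mul, ← Units.val_mul, ← pow_three, ha3, Units.val_one]
  have hB : B * (B * B) = 1 := by
    rw [hBdef, ← Units.val_mul, ← Units.val_mul, ← pow_three, hb3, Units.val_one]
  have hBA : B * A = A * B := by rw [hAdef, hBdef, ← Units.val_mul, ← Units.val_mul, hab]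
  have hBA' : ∀ M : M4, B * (A * M) = A * (B * M) := fun M => by rw [← mul_assoc, hBA, mul_assoc]
  have hA' : ∀ M : M4, A * (A * (A * M)) = M := fun M => by
    rw [← mul_assoc A A, ← mul_assoc (A * A) A, mul_assoc A A A, hA, one_mul]
  have hB' : ∀ M : M4, B * (B * (B * M)) = M := fun M => by
    rw [← mul_assoc B B, ← mul_assoc (B * B) B, mul_assoc B B B, hB, one_mul]
  -- one element of order three
  have hproj : ∀ z : GL (Fin 4) F, z ∈ Sp4 F → z ^ 3 = 1 → nMat (z : M4) * nMat (z : M4) = nMat (z : M4) ∧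
      (nMat (z : M4)).trace = 0 ∧ (nMat (z : M4) = 1 → z = 1) := by
    intro z hz hz3
    set Z : M4 := (z : M4)
    have hZ : Z * (Z * Z) = 1 := by rw [← Units.val_mul, ← Units.val_mul, ← pow_three, hz3, Units.val_one]
    refine ⟨?_, ?_, fun e => ?_⟩
    · simp only [nMat, mul_add, add_mul, mul_one, one_mul, mul_assoc, hZ]
      ext i j; simp only [Matrix.add_apply]; grind
    · have e : Z * Z = ((z⁻¹ : GL (Fin 4) F) : M4) := by
        rw [← Units.val_mul, show z * z = z⁻¹ from eq_inv_of_mul_eq_one_left (by rw [← hz3, pow_succ, sq])]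
      rw [nMat, Matrix.trace_add, Matrix.trace_add, trace_one_four, zero_add, e, trace_inv_sp hz]
      exact CharTwo.add_self_eq_zero _
    · have h : Z + Z * Z = 0 := by rw [nMat, add_assoc, add_eq_left] at e; exact e
      have h' : Z = Z * Z := by
        have := congrArg (· + Z * Z) h
        simpa [add_assoc, m_add_self] using this
      refine Units.ext ?_
      have := congrArg ((Z * Z) * ·) h'
      simp only [mul_assoc, hZ, mul_one] at this
      exact this.symm
  obtain ⟨hpp, htp, hpn⟩ := hproj a ha ha3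
  obtain ⟨hqq, htq, hqn⟩ := hproj b hb hb3
  obtain ⟨hrr, htr, hrn⟩ := hproj (a * b) (mul_mem ha hb) (by rw [Commute.mul_pow hab, ha3, hb3, one_mul])
  obtain ⟨hss, hts, hsn⟩ := hproj (a * (b * b)) (mul_mem ha (mul_mem hb hb)) (by
    rw [Commute.mul_pow ((show Commute a b from hab).mul_right hab), Commute.mul_pow (Commute.refl b), ha3, hb3,
      one_mul, one_mul])
  rw [← hAdef] at hpp htp hpn
  rw [← hBdef] at hqq htq hqn
  rw [Units.val_mul, ← hAdef, ← hBdef] at hrr htr hrn
  rw [Units.val_mul, Units.val_mul, ← hAdef, ← hBdef] at hss hts hsn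
  set p := nMat A
  set q := nMat B
  set r := nMat (A * B)
  set s := nMat (A * (B * B))
  set e₀ := p * q with he₀
  have hqp : q * p = e₀ := by
    simp only [he₀, p, q, nMat, mul_add, add_mul, mul_one, one_mul, mul_assoc, hBA, hBA']
    abel
  have hrp : r * p = e₀ := by
    simp only [he₀, p, q, r, nMat, mul_add, add_mul, mul_one, one_mul, mul_assoc, hBA, hBA', hA,
      hA', hB, hB']
    abel
  have hrq : r * q = e₀ := by
    simp only [he₀, p, q, r, nMat, mul_add, add_mul, mul_one, one_mul, mul_assoc, hBA, hBA', hA,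
      hA', hB, hB']
    abel
  have hsp : s * p = e₀ := by
    simp only [he₀, p, q, s, nMat, mul_add, add_mul, mul_one, one_mul, mul_assoc, hBA, hBA', hA,
      hA', hB, hB']
    abel
  have hsum : p + q + (r + s) = 1 + e₀ := by
    simp only [he₀, p, q, r, s, nMat, mul_add, add_mul, mul_one, one_mul, mul_assoc, hBA, hBA',
      hA, hA', hB, hB']
    ext i j; simp only [Matrix.add_apply]; grind
  have hte : e₀.trace = 0 := by
    have e1 : e₀ = p + (B + A * (A * (B * B)) ) + (B * B + A * (A * B)) +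
        ((A * B) + A * (B * B) + (0 : M4)) + 0 := by
      simp only [he₀, p, q, nMat, mul_add, add_mul, mul_one, one_mul, mul_assoc]
      abel
    have i1 : ((B * B : M4)).trace = B.trace := by
      have : B * B = ((b⁻¹ : GL (Fin 4) F) : M4) := by
        rw [hBdef, ← Units.val_mul, show b * b = b⁻¹ from eq_inv_of_mul_eq_one_left (by rw [← hb3, pow_succ, sq])]
      rw [this, trace_inv_sp hb, hBdef]
    have i2 : (A * (A * (B * B))).trace = (A * B).trace := by
      have : A * (A * (B * B)) = (((a * b)⁻¹ : GL (Fin 4) F) : M4) := by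
        rw [show A * (A * (B * B)) = ((a * (a * (b * b)) : GL (Fin 4) F) : M4) by simp [hAdef, hBdef]]
        refine congrArg Units.val (eq_inv_of_mul_eq_one_left (Units.ext ?_))
        simp only [Units.val_mul, Units.val_one, mul_assoc, ← hAdef, ← hBdef]
        rw [hBA', hBA', hB, mul_one, hA]
      rw [this, trace_inv_sp (mul_mem ha hb), Units.val_mul, hAdef, hBdef]
    have i3 : (A * (A * B)).trace = (A * (B * B)).trace := by
      have : A * (A * B) = (((a * (b * b))⁻¹ : GL (Fin 4) F) : M4) := by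
        rw [show A * (A * B) = ((a * (a * b) : GL (Fin 4) F) : M4) by simp [hAdef, hBdef]]
        refine congrArg Units.val (eq_inv_of_mul_eq_one_left (Units.ext ?_))
        simp only [Units.val_mul, Units.val_one, mul_assoc, ← hAdef, ← hBdef]
        rw [hBA', hA', hB]
      rw [this, trace_inv_sp (mul_mem ha (mul_mem hb hb)), Units.val_mul, Units.val_mul, hAdef, hBdef]
    rw [e1]
    simp only [Matrix.trace_add, Matrix.trace_zero, htp, i1, i2, i3]
    grind
  have hrk : ∀ M : M4, M * M = M → M.trace = 0 → M ≠ 0 → M ≠ 1 → finrank F (LinearMap.range M.mulVecLin) = 2 := by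
    intro M hMM ht h0 h1
    have hpr : LinearMap.IsProj (LinearMap.range M.mulVecLin) M.mulVecLin := by
      refine ⟨fun x => LinearMap.mem_range_self _ x, ?_⟩
      rintro _ ⟨x, rfl⟩
      simp only [Matrix.mulVecLin_apply, mulVec_mulVec, hMM]
    have htr := hpr.trace
    have h' : LinearMap.trace F V4 M.mulVecLin = 0 := by
      rw [← Matrix.toLin'_apply', LinearMap.trace_eq_matrix_trace F (Pi.basisFun F (Fin 4)),
        ← Matrix.toLin_eq_toLin', LinearMap.toMatrix_toLin, ht]
    rw [h'] at htr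
    have h2 := (CharP.cast_eq_zero_iff F 2 _).1 htr.symm
    have hle := Submodule.finrank_le (LinearMap.range M.mulVecLin)
    rw [Module.finrank_pi, Fintype.card_fin] at hle
    have hne : finrank F (LinearMap.range M.mulVecLin) ≠ 0 := by
      intro e
      rw [Submodule.finrank_eq_zero, LinearMap.range_eq_bot] at e
      refine h0 (Matrix.ext_of_mulVec_single fun i => ?_)
      rw [zero_mulVec]
      exact LinearMap.congr_fun e _
    have h4 : finrank F (LinearMap.range M.mulVecLin) ≠ 4 := by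
      intro e
      have htop := Submodule.eq_top_of_finrank_eq (e.trans (by rw [Module.finrank_pi, Fintype.card_fin]))
      refine h1 (Matrix.ext_of_mulVec_single fun i => ?_)
      rw [one_mulVec]
      exact hpr.map_id _ (htop ▸ Submodule.mem_top)
    omega
  have h2p := hrk p hpp htp hp0 fun e => ha1 (hpn e)
  have h2q := hrk q hqq htq hq0 fun e => hb1 (hqn e)
  by_cases he : e₀ = 0
  · have hdisj : LinearMap.range p.mulVecLin ⊓ LinearMap.range q.mulVecLin = ⊥ := by
      rw [Submodule.eq_bot_iff]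
      rintro _ ⟨⟨x, rfl⟩, y, hy⟩
      simp only [Matrix.mulVecLin_apply] at hy ⊢
      have h : p *ᵥ (q *ᵥ y) = 0 := by rw [mulVec_mulVec, ← he₀, he, zero_mulVec]
      rwa [hy, mulVec_mulVec, hpp] at h
    have h := Submodule.finrank_sup_add_finrank_inf_eq (LinearMap.range p.mulVecLin) (LinearMap.range q.mulVecLin)
    rw [hdisj, finrank_bot, h2p, h2q] at h
    have htop := Submodule.eq_top_of_finrank_eq (h.trans (show 2 + 2 = finrank F V4 by
      rw [Module.finrank_pi, Fintype.card_fin]))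
    refine hr0 (Matrix.ext_of_mulVec_single fun i => ?_)
    obtain ⟨_, ⟨x, rfl⟩, _, ⟨y, rfl⟩, e⟩ :=
      Submodule.mem_sup.1 (htop ▸ Submodule.mem_top : Pi.single i (1 : F) ∈ _)
    simp only [Matrix.mulVecLin_apply] at e
    rw [zero_mulVec, ← e, mulVec_add, mulVec_mulVec, mulVec_mulVec, hrp, hrq, he, zero_mulVec, zero_mulVec, add_zero]
  · have hee : e₀ * e₀ = e₀ := by
      calc e₀ * e₀ = p * (q * p) * q := by simp only [he₀, mul_assoc]
        _ = p * (p * q) * q := by rw [hqp]
        _ = (p * p) * (q * q) := by simp only [mul_assoc]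
        _ = e₀ := by rw [hpp, hqq]
    have h2e := hrk e₀ hee hte he fun e => ha1 (hpn (by
      calc p = p * e₀ := by rw [e, mul_one]
        _ = e₀ := by rw [he₀, ← mul_assoc, hpp]
        _ = 1 := e))
    have hcol : ∀ x : M4, x * x = x → x.trace = 0 → x ≠ 0 → x ≠ 1 → (∃ y, e₀ = x * y) → e₀ * x = x := by
      intro x hxx htx hx0 hx1 ⟨y, hy⟩
      have hle : LinearMap.range e₀.mulVecLin ≤ LinearMap.range x.mulVecLin := by
        rw [hy, Matrix.mulVecLin_mul]; exact LinearMap.range_comp_le_range _ _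
      have heq := Submodule.eq_of_le_of_finrank_le hle (by rw [h2e, hrk x hxx htx hx0 hx1])
      refine Matrix.ext_of_mulVec_single fun i => ?_
      obtain ⟨u, hu⟩ : x *ᵥ Pi.single i (1 : F) ∈ LinearMap.range e₀.mulVecLin :=
        heq ▸ LinearMap.mem_range_self x.mulVecLin _
      rw [Matrix.mulVecLin_apply] at hu
      rw [← mulVec_mulVec, ← hu, mulVec_mulVec, hee]
    have e1 : p = e₀ := by
      have := hcol p hpp htp hp0 (fun e => ha1 (hpn e)) ⟨q, rfl⟩
      rwa [he₀, mul_assoc, hqp, ← mul_assoc, hpp, eq_comm] at this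
    have e2 : q = e₀ := by
      have := hcol q hqq htq hq0 (fun e => hb1 (hqn e)) ⟨p, hqp.symm⟩
      rwa [he₀, mul_assoc, hqq, eq_comm] at this
    have e3 : r = e₀ := by
      have := hcol r hrr htr hr0 (fun e => h1 (hrn e)) ⟨p, hrp.symm⟩
      rw [← e1] at this ⊢
      have hc : p * r = r * p := by
        simp only [p, r, nMat, mul_add, add_mul, mul_one, one_mul, mul_assoc, hBA, hBA']
        abel
      rw [← this, hc, hrp.trans e1.symm]
    have e4 : s = e₀ := by
      have := hcol s hss hts hs0 (fun e => h2 (hsn e)) ⟨p, hsp.symm⟩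
      rw [← e1] at this ⊢
      have h' : s * p = p := hsp.trans e1.symm
      have hc : p * s = s * p := by
        simp only [p, s, nMat, mul_add, add_mul, mul_one, one_mul, mul_assoc, hBA, hBA']
        abel
      rw [← this, hc, h']
    refine ha1 (hpn (e1.trans ?_))
    ext i j
    have h := congrFun (congrFun hsum i) j
    simp only [Matrix.add_apply, congrFun (congrFun e1 i) j, congrFun (congrFun e2 i) j,
      congrFun (congrFun e3 i) j, congrFun (congrFun e4 i) j] at h
    grind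

/-- Decompositions of a five-cycle, and the element orders. -/
theorem alt_six_facts :
    ((c[0, 4] * c[2, 3] : Equiv.Perm (Fin 6)) * c[0, 1, 3] = c[0, 1, 2, 3, 4] ∧
      (c[2, 3] * c[4, 5] : Equiv.Perm (Fin 6)) * c[0, 1, 3] = c[0, 1, 2] * (c[2, 3] * c[4, 5])) ∧
    ((c[0, 1] * c[2, 3] : Equiv.Perm (Fin 6)) * c[1, 3, 4] = c[0, 1, 2, 3, 4] ∧
      (c[1, 3, 4, 5, 2] : Equiv.Perm (Fin 6)) * c[1, 3, 4] = c[3, 4, 5] * c[1, 3, 4, 5, 2]) ∧
    ((c[0, 2] * c[1, 5] : Equiv.Perm (Fin 6)) * (c[0, 5, 1] * c[2, 3, 4]) = c[0, 1, 2, 3, 4] ∧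
      (c[1, 2, 3, 4, 5] : Equiv.Perm (Fin 6)) * (c[0, 5, 1] * c[2, 3, 4]) =
        (c[0, 1, 2] * c[3, 4, 5]) * c[1, 2, 3, 4, 5]) ∧
    ((c[0, 3] * c[4, 5] : Equiv.Perm (Fin 6)) * (c[0, 1, 2] * c[3, 5, 4]) = c[0, 1, 2, 3, 4] ∧
      (c[0, 1, 2] * c[3, 5, 4] : Equiv.Perm (Fin 6)) = c[0, 1, 2] * (c[3, 4, 5] * c[3, 4, 5])) := by
  decide +kernel

variable [Fintype F] {G : Subgroup (GL (Fin 4) F)}

/-- Orders three, four and five: five-elements have idempotent trace. -/
theorem Core.trace_six_five (C : Core G) (ψ : ↥(alternatingGroup (Fin 6)) ≃* ↥G) :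
    ∃ x : ↥(alternatingGroup (Fin 6)), orderOf x = 5 ∧
      ((ψ x : GL (Fin 4) F) : M4).trace ^ 2 = ((ψ x : GL (Fin 4) F) : M4).trace := by
  obtain ⟨⟨fa, fa'⟩, ⟨fb, fb'⟩, ⟨fc, fc'⟩, ⟨fd, fd'⟩⟩ := alt_six_facts
  set g : ↥(alternatingGroup (Fin 6)) → GL (Fin 4) F := fun x => (ψ x : GL (Fin 4) F) with hg
  have hmul : ∀ x y, g (x * y) = g x * g y := fun x y => by simp [hg]
  have hone : g 1 = 1 := by simp [hg]
  have hpow : ∀ x (n : ℕ), g (x ^ n) = g x ^ n := fun x n => by simp [hg]
  have hinj : ∀ x, g x = 1 → x = 1 := fun x h =>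
    ψ.injective (Subtype.ext (by simpa [hg] using h))
  let a : ↥(alternatingGroup (Fin 6)) := ⟨c[0, 1, 2], Equiv.Perm.mem_alternatingGroup.2 (by decide +kernel)⟩
  let b : ↥(alternatingGroup (Fin 6)) := ⟨c[3, 4, 5], Equiv.Perm.mem_alternatingGroup.2 (by decide +kernel)⟩
  let x : ↥(alternatingGroup (Fin 6)) := ⟨c[0, 1, 2, 3, 4], Equiv.Perm.mem_alternatingGroup.2 (by decide +kernel)⟩
  have hx : orderOf x = 5 := by
    haveI : Fact (Nat.Prime 5) := ⟨by norm_num⟩
    exact orderOf_eq_prime (by decide +kernel) (by decide +kernel)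
  refine ⟨x, hx, ?_⟩
  -- one decomposition suffices
  have key : ∀ t y c z : ↥(alternatingGroup (Fin 6)), t * y = x → c * y = z * c → t * t = 1 → t ≠ 1 →
      nMat (g z : M4) = 0 → (g x : M4).trace ^ 2 = (g x : M4).trace := by
    intro t y c z hty hcy ht ht1 hz
    have hgt : (g t : M4) * g t = 1 := by rw [← Units.val_mul, ← hmul, ht, hone, Units.val_one]
    have hC := C.isC C.four_le (ψ t).2 hgt fun e => ht1 (hinj _ e)
    have hy : nMat (g y : M4) = 0 := by
      have h1 : (g c : M4) * g y = g z * g c := by rw [← Units.val_mul, ← Units.val_mul, ← hmul, ← hmul, hcy]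
      have h2 : (g c : M4) * nMat (g y : M4) = nMat (g z : M4) * g c := by
        simp only [nMat, mul_add, add_mul, mul_one, one_mul, mul_assoc, h1]
        rw [← mul_assoc (g c : M4) (g y : M4), h1, mul_assoc, h1]
      rw [hz, zero_mul] at h2
      simpa using congrArg (((g c)⁻¹ : GL (Fin 4) F) * · : M4 → M4) h2
    rw [← hty, hmul]
    refine fpf_five (C.le (ψ t).2) hC.1 hy ?_
    rw [← hmul, ← hpow, hty, ← hx, pow_orderOf_eq_one, hone]
  obtain h | h | h | h := exists_nMat_eq_zero (C.le (ψ a).2) (C.le (ψ b).2)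
    (show g a * g b = g b * g a by rw [← hmul, ← hmul, show a * b = b * a by decide +kernel])
    (show g a ^ 3 = 1 by rw [← hpow, show a ^ 3 = 1 by decide +kernel, hone])
    (show g b ^ 3 = 1 by rw [← hpow, show b ^ 3 = 1 by decide +kernel, hone])
    (fun e => absurd (hinj a e) (by decide +kernel)) (fun e => absurd (hinj b e) (by decide +kernel))
    (fun e => absurd (hinj (a * b) ((hmul _ _).trans e)) (by decide +kernel))
    (fun e => absurd (hinj (a * (b * b)) (by rw [hmul, hmul]; exact e)) (by decide +kernel))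
  · exact key ⟨c[0, 4] * c[2, 3], Equiv.Perm.mem_alternatingGroup.2 (by decide +kernel)⟩ ⟨c[0, 1, 3], Equiv.Perm.mem_alternatingGroup.2 (by decide +kernel)⟩
      ⟨c[2, 3] * c[4, 5], Equiv.Perm.mem_alternatingGroup.2 (by decide +kernel)⟩ a (Subtype.ext fa) (Subtype.ext fa')
      (by decide +kernel) (by decide +kernel) h
  · exact key ⟨c[0, 1] * c[2, 3], Equiv.Perm.mem_alternatingGroup.2 (by decide +kernel)⟩ ⟨c[1, 3, 4], Equiv.Perm.mem_alternatingGroup.2 (by decide +kernel)⟩
      ⟨c[1, 3, 4, 5, 2], Equiv.Perm.mem_alternatingGroup.2 (by decide +kernel)⟩ b (Subtype.ext fb) (Subtype.ext fb')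
      (by decide +kernel) (by decide +kernel) h
  · exact key ⟨c[0, 2] * c[1, 5], Equiv.Perm.mem_alternatingGroup.2 (by decide +kernel)⟩ ⟨c[0, 5, 1] * c[2, 3, 4], Equiv.Perm.mem_alternatingGroup.2 (by decide +kernel)⟩
      ⟨c[1, 2, 3, 4, 5], Equiv.Perm.mem_alternatingGroup.2 (by decide +kernel)⟩ (a * b) (Subtype.ext fc) (Subtype.ext fc')
      (by decide +kernel) (by decide +kernel) (by rw [hmul]; exact h)
  · exact key ⟨c[0, 3] * c[4, 5], Equiv.Perm.mem_alternatingGroup.2 (by decide +kernel)⟩ ⟨c[0, 1, 2] * c[3, 5, 4], Equiv.Perm.mem_alternatingGroup.2 (by decide +kernel)⟩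
      1 (a * (b * b)) (Subtype.ext fd) (by rw [one_mul, mul_one]; exact Subtype.ext fd')
      (by decide +kernel) (by decide +kernel) (by rw [hmul, hmul]; exact h)

theorem Core.no_psl_nine (C : Core G) {K : Type} [Field K] [Fintype K] (hK : Fintype.card K = 9)
    (ψ : ↥G ≃* ProjectiveSpecialLinearGroup (Fin 2) K) : False := by
  obtain ⟨e⟩ := CfsgLib.ClassicalGroups.psl_two_nine_alternating (K := K) hK
  obtain ⟨x, hx, htr⟩ := C.trace_six_five (e.symm.trans ψ.symm)
  set χ := e.symm.trans ψ.symm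
  have hle : Fintype.card F ≤ 2 ^ 1 := by
    refine C.card_le_of_traces Nat.one_pos fun g hg => ?_
    rw [pow_one]
    obtain ⟨z, hz⟩ := χ.surjective ⟨g, hg⟩
    have hgz : g = (χ z : GL (Fin 4) F) := by rw [hz]
    have hp : ∀ n : ℕ, z ^ n = 1 → g ^ n = 1 := fun n h => by
      rw [hgz, ← Subgroup.coe_pow, ← map_pow, h, map_one, Subgroup.coe_one]
    rcases CfsgLib.Mitchell.psl_nine_pow hK (e.symm z) with h | h | h
    · rw [← map_pow, MulEquiv.map_eq_one_iff] at h
      exact trace_of_pow_three (C.le hg) (hp 3 h)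
    · rw [← map_pow, MulEquiv.map_eq_one_iff] at h
      have : (g : M4).trace = 0 := trace_of_pow_two_pow (k := 2) (hp 4 h)
      rw [this, zero_pow two_ne_zero]
    · rw [← map_pow, MulEquiv.map_eq_one_iff] at h
      rcases eq_or_ne z 1 with rfl | hz1
      · have : (g : M4).trace = 0 := trace_of_pow_two_pow (k := 0) (by simpa [hgz])
        rw [this, zero_pow two_ne_zero]
      · haveI : Fact (Nat.Prime 5) := ⟨by norm_num⟩
        have hoz : orderOf z = 5 := orderOf_eq_prime h hz1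
        have hc : Nat.card ↥(alternatingGroup (Fin 6)) = 360 := by
          rw [nat_card_alternatingGroup, Nat.card_eq_fintype_card, Fintype.card_fin]; rfl
        have hf : (Nat.card ↥(alternatingGroup (Fin 6))).factorization 5 = 1 := by
          rw [hc, show (360 : ℕ) = 5 * 72 from rfl, Nat.factorization_mul (by norm_num) (by norm_num)]
          simp [Nat.Prime.factorization (show Nat.Prime 5 by norm_num),
            Nat.factorization_eq_zero_of_not_dvd (show ¬ 5 ∣ 72 by norm_num)]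
        let S₁ : Sylow 5 ↥(alternatingGroup (Fin 6)) := Sylow.ofCard (Subgroup.zpowers x)
          (by rw [Nat.card_zpowers, hx, hf, pow_one])
        let S₂ : Sylow 5 ↥(alternatingGroup (Fin 6)) := Sylow.ofCard (Subgroup.zpowers z)
          (by rw [Nat.card_zpowers, hoz, hf, pow_one])
        obtain ⟨c, hc'⟩ := MulAction.exists_smul_eq ↥(alternatingGroup (Fin 6)) S₁ S₂
        have hmem : z ∈ (MulAut.conj c • Subgroup.zpowers x : Subgroup ↥(alternatingGroup (Fin 6))) := by
          have h' := congrArg (fun S : Sylow 5 ↥(alternatingGroup (Fin 6)) => (S : Subgroup ↥(alternatingGroup (Fin 6)))) hc'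
          simp only [Sylow.coe_subgroup_smul, S₁, S₂, Sylow.coe_ofCard] at h'
          rw [h']; exact Subgroup.mem_zpowers z
        obtain ⟨w, hw, hwz⟩ := hmem
        obtain ⟨n, hn5, hn⟩ : ∃ n, n < 5 ∧ x ^ n = w := by
          obtain ⟨n, hn⟩ := (Submonoid.mem_powers_iff _ _).1 ((isOfFinOrder_of_finite x).mem_powers_iff_mem_zpowers.2 hw)
          exact ⟨n % 5, Nat.mod_lt _ (by norm_num), by rw [← hn, ← hx, pow_mod_orderOf]⟩
        have hzx : c * x ^ n * c⁻¹ = z := by rw [hn]; exact hwz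
        set u : GL (Fin 4) F := (χ x : GL (Fin 4) F)
        have htrg : (g : M4).trace = ((u ^ n : GL (Fin 4) F) : M4).trace := by
          rw [hgz, ← hzx]
          simp only [map_mul, map_inv, map_pow, Subgroup.coe_mul, Subgroup.coe_inv, Subgroup.coe_pow, Units.val_mul]
          exact Matrix.trace_units_conj _ _
        have hu : u ∈ Sp4 F := C.le (χ x).2
        have hu5 : u ^ 5 = 1 := by
          rw [← Subgroup.coe_pow, ← map_pow, ← hx, pow_orderOf_eq_one, map_one, Subgroup.coe_one]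
        have t1 : (u : M4).trace ^ 2 = (u : M4).trace := htr
        have t2 : ((u ^ 2 : GL (Fin 4) F) : M4).trace = (u : M4).trace := by
          rw [Units.val_pow_eq_pow_val, show (2 : ℕ) = 2 ^ 1 from rfl, trace_pow_two_pow, pow_one, t1]
        rw [htrg]
        obtain rfl | rfl | rfl | rfl | rfl : n = 0 ∨ n = 1 ∨ n = 2 ∨ n = 3 ∨ n = 4 := by omega
        · rw [pow_zero, Units.val_one, trace_one_four, zero_pow two_ne_zero]
        · rw [pow_one, t1]
        · rw [t2, t1]
        · rw [show u ^ 3 = (u ^ 2)⁻¹ from eq_inv_of_mul_eq_one_left (by rw [← pow_add, hu5]),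
            trace_inv_sp (pow_mem hu 2), t2, t1]
        · rw [show u ^ 4 = u⁻¹ from eq_inv_of_mul_eq_one_left (by rw [← pow_succ, hu5]), trace_inv_sp hu, t1]
  have := C.four_le
  omega

end CfsgLib.Sp4Resid
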