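import Cfsg.Agent.Lib.Sp4Resid.Suzuki
import Cfsg.Agent.Lib.Sp4Resid.Seven
import Cfsg.Agent.Lib.Sp4Resid.Six
import Cfsg.Agent.Lib.CIT.Steps
import Cfsg.Agent.Lib.CIT.Reduce
import Cfsg.Agent.Lib.CIT.Simple
import Cfsg.Agent.Lib.CIT.SuzukiIso
import Cfsg.Agent.Lib.SuzukiOvoid.Subgroups

/-!
The residual subgroups of `Sp₄(2^n)` have Suzuki socles.
-/

set_option autoImplicit false

open scoped MatrixGroups Matrix

namespace CfsgLib.Sp4Resid

open Matrix Cfsg.Lie CfsgLib.GeomClasses CfsgLib.GeomClasses.Symp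

universe u

variable {F : Type u} [Field F] [CharP F 2] [Fintype F] {G : Subgroup (GL (Fin 4) F)}

theorem Core.suzuki (C : Core G) (hnab : ¬ IsMulCommutative ↥G) :
    ∃ m : ℕ, 1 ≤ m ∧ Fintype.card F = 2 ^ (2 * m + 1) ∧ Nonempty (↥G ≃* ↥(Sz F (2 ^ (m + 1)))) := by
  haveI : Fact (Nat.Prime 2) := ⟨Nat.prime_two⟩
  haveI := C.simple
  have hab : ∃ a b : ↥G, a * b ≠ b * a := by
    by_contra h
    push Not at h
    exact hnab ⟨⟨h⟩⟩
  have hCIT : CfsgLib.CIT.IsCIT ↥G := by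
    intro t ht
    have ht1 : (t : GL (Fin 4) F) ≠ 1 := fun e => by
      rw [← Subgroup.orderOf_coe, e, orderOf_one] at ht
      exact absurd ht (by norm_num)
    have ht2 : ((t : GL (Fin 4) F) : Matrix (Fin 4) (Fin 4) F) * ((t : GL (Fin 4) F)) = 1 := by
      rw [← Units.val_mul, ← pow_two, ← ht, ← Subgroup.orderOf_coe, pow_orderOf_eq_one, Units.val_one]
    intro x
    refine ⟨2, Subtype.ext (Subtype.ext ?_)⟩
    exact pow_four_of_commute (C.le t.2) (C.le x.1.2) (C.isC C.four_le t.2 ht2 ht1)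
      (congrArg Subtype.val (Subgroup.mem_centralizer_singleton_iff.1 x.2))
  obtain ⟨h2, hO, hnt⟩ := CfsgLib.CIT.simple_cores hab
  rcases CfsgLib.CIT.shapeAny_of_steps CfsgLib.CIT.kleinStep CfsgLib.CIT.countStep hCIT h2 hO with
      ⟨-, K, i1, i2, ⟨n, hn2, hn⟩, ⟨e⟩⟩ | ⟨hs, M, H, hTI⟩ |
      ⟨⟨-, K, i1, i2, h7, hq, ⟨e⟩⟩ | ⟨N, hN, hN2, -⟩ | ⟨-, -, K, i1, i2, hK, ⟨e⟩⟩, -⟩
  · exact (C.no_psl_even hn2 hn e).elim
  · obtain ⟨L, j1, j2, m, hm, hL, ⟨e⟩⟩ := CfsgLib.CIT.TI.isoSuzuki hTI hs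
    have hF := C.card_of_suzuki hm hL e
    obtain ⟨hL2, ⟨P'⟩⟩ := CfsgLib.SuzukiGroup.exists_params hL
    haveI := hL2
    obtain ⟨-, ⟨P⟩⟩ := CfsgLib.SuzukiGroup.exists_params hF
    exact ⟨m, hm, hF, ⟨e.trans (CfsgLib.SuzukiGroup.szEquiv
      (FiniteField.ringEquivOfCardEq (hL.trans hF.symm)) P P')⟩⟩
  · rcases hq with h9 | ⟨hp, k, hk⟩
    · exact (C.no_psl_nine h9 e).elim
    · exact (C.no_psl_odd_prime h7 hp hk e).elim
  · exfalso
    rcases hN.eq_bot_or_eq_top with h | h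
    · rw [h, Subgroup.index_bot] at hN2
      haveI := isCyclic_of_prime_card hN2
      exact hnab inferInstance
    · rw [h, Subgroup.index_top] at hN2
      omega
  · exact (C.no_psl_three_four hK e).elim

/-- The core of a residual subgroup, in the coordinates of `altForm4`. -/
theorem core_of_residual (h4 : 4 ≤ Fintype.card F) {H P : Subgroup (GL (Fin 2 ⊕ Fin 2) F)}
    (hH : H < Cfsg.spGL 2 F) (hP : Cfsg.Geo.IsResidualCore H P)
    (hQ : ¬ ∃ Q : (Fin 2 ⊕ Fin 2 → F) → F, Cfsg.Geo.IsNondegenerateQuadraticForm Q ∧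
      Cfsg.Geo.FixesQuadForm (Cfsg.Geo.matrixSet P) Q) :
    (Cfsg.Geo.scalars (Fin 2 ⊕ Fin 2) F).subgroupOf P = ⊥ ∧ Core (P.map (toFour (F := F)).toMonoidHom) ∧
      ¬ IsMulCommutative ↥(P.map (toFour (F := F)).toMonoidHom) := by
  have hPle : P ≤ Cfsg.spGL 2 F := hP.le.trans hH.le
  have hbot : (Cfsg.Geo.scalars (Fin 2 ⊕ Fin 2) F).subgroupOf P = ⊥ := by
    rw [Subgroup.eq_bot_iff_forall]
    rintro ⟨g, hg⟩ hs
    obtain ⟨c, hc⟩ := (Cfsg.Geo.mem_scalars_iff g).1 hs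
    have hsp := mem_spGL.1 (hPle hg) (Pi.single (.inr 0) 1) (Pi.single (.inl 0) 1)
    rw [hc, Matrix.smul_mulVec, Matrix.one_mulVec, Matrix.smul_mulVec, Matrix.one_mulVec] at hsp
    simp [sympForm_eq, Fin.sum_univ_two, Pi.single_apply] at hsp
    have hc1 : (c : F) = 1 := CharTwo.sq_injective (by
      show (c : F) ^ 2 = 1 ^ 2
      rw [one_pow, sq]; linear_combination hsp)
    refine Subtype.ext (Units.ext ?_)
    show (g : Matrix (Fin 2 ⊕ Fin 2) (Fin 2 ⊕ Fin 2) F) = _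
    rw [hc, hc1, one_smul]
    rfl
  set q : ↥P ≃* ↥(P.map (toFour (F := F)).toMonoidHom) := (toFour (F := F)).subgroupMap P
  set r : (↥P ⧸ (Cfsg.Geo.scalars (Fin 2 ⊕ Fin 2) F).subgroupOf P) ≃* ↥P :=
    (QuotientGroup.quotientMulEquivOfEq hbot).trans QuotientGroup.quotientBot
  haveI := hP.simple
  have hsimple : IsSimpleGroup ↥(P.map (toFour (F := F)).toMonoidHom) := (r.trans q).symm.isSimpleGroup
  refine ⟨hbot, ?_, fun hc => hP.nonabelian ⟨⟨fun a b => (r.trans q).injective (by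
    rw [map_mul, map_mul]; exact hc.is_comm.comm _ _)⟩⟩⟩
  have hco : ∀ (g : GL (Fin 2 ⊕ Fin 2) F), ((toFour g : GL (Fin 4) F) : Matrix (Fin 4) (Fin 4) F) =
      Matrix.reindexAlgEquiv F F idx (g : Matrix (Fin 2 ⊕ Fin 2) (Fin 2 ⊕ Fin 2) F) := fun g => rfl
  refine
    { le := (Subgroup.map_mono hPle).trans map_spGL.le
      simple := hsimple
      irr := fun U hU => ?_
      noSub := fun K hK B hB => ?_
      ne_top := fun e => ?_
      four_le := h4
      scalar := fun M hM => ?_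
      noQuad := fun Q hQn hQG => ?_ }
  · let L : (Fin 2 ⊕ Fin 2 → F) ≃ₗ[F] (Fin 4 → F) := LinearEquiv.funCongrLeft F F idx.symm
    have hL : ∀ v, L v = v ∘ idx.symm := fun v => rfl
    rcases hP.absIrred.1 (U.comap L.toLinearMap) (by
      rintro _ ⟨g, hg, rfl⟩ _ ⟨v, hv, rfl⟩
      rw [Submodule.mem_comap, LinearEquiv.coe_coe, hL, Matrix.toLin'_apply]
      have h := hU (toFour g) ⟨g, hg, rfl⟩ _ hv
      rw [LinearEquiv.coe_coe, hL, toFour_mulVec] at h
      simpa [Function.comp_assoc] using h) with h | h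
    · refine Or.inl ?_
      rw [← Submodule.map_comap_eq_of_surjective L.surjective U]
      rw [h, Submodule.map_bot]
    · refine Or.inr ?_
      rw [← Submodule.map_comap_eq_of_surjective L.surjective U]
      rw [h, Submodule.map_top, LinearMap.range_eq_top.2 L.surjective]
  · refine hP.no_subfield K hK ⟨(toFour.symm B⁻¹ : GL (Fin 2 ⊕ Fin 2) F), ?_⟩
    rintro _ ⟨g, hg, rfl⟩ i j
    have h := hB (toFour g) ⟨g, hg, rfl⟩ (idx i) (idx j)
    have e : (B⁻¹ * toFour g * B : GL (Fin 4) F) =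
        toFour (toFour.symm B⁻¹ * g * (toFour.symm B⁻¹)⁻¹) := by simp
    rw [e, hco] at h
    simpa [Matrix.reindex_apply] using h
  · refine hH.ne (le_antisymm hH.le ?_)
    have := Subgroup.map_injective (f := (toFour (F := F)).toMonoidHom) (toFour (F := F)).injective
      (e.trans map_spGL.symm)
    exact this ▸ hP.le
  · obtain ⟨c, hc⟩ := hP.absIrred.2 ((Matrix.reindexAlgEquiv F F idx).symm M) (by
      rintro _ ⟨g, hg, rfl⟩
      apply (Matrix.reindexAlgEquiv F F idx).injective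
      simp only [map_mul, AlgEquiv.apply_symm_apply]
      exact hM (toFour g) ⟨g, hg, rfl⟩)
    exact ⟨c, (Matrix.reindexAlgEquiv F F idx).symm.injective (by rw [map_smul, map_one, hc])⟩
  · refine hQ ⟨fun v => Q (v ∘ idx.symm), ⟨fun c v => hQn.smul c _, ?_, ?_⟩, ?_⟩
    · exact ⟨fun x y v => hQn.polar_bilinear.add_left _ _ _, fun c x v => hQn.polar_bilinear.smul_left _ _ _,
        fun v x y => hQn.polar_bilinear.add_right _ _ _, fun c v x => hQn.polar_bilinear.smul_right _ _ _⟩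
    · intro v hv
      obtain ⟨⟨x, hx⟩, ⟨y, hy⟩⟩ := hQn.nondegenerate (v ∘ idx.symm) fun e => hv (funext fun i => by
        simpa using congrFun e (idx i))
      refine ⟨⟨x ∘ idx, ?_⟩, ⟨y ∘ idx, ?_⟩⟩
      · rw [← show (x ∘ idx) ∘ idx.symm = x by simp [Function.comp_assoc]] at hx
        exact hx
      · rw [← show (y ∘ idx) ∘ idx.symm = y by simp [Function.comp_assoc]] at hy
        exact hy
    · rintro _ ⟨g, hg, rfl⟩ v
      have h := hQG (toFour g) ⟨g, hg, rfl⟩ (v ∘ idx.symm)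
      rw [toFour_mulVec] at h
      simpa [Function.comp_assoc] using h

end CfsgLib.Sp4Resid
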