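import Cfsg.Agent.Lib.Sp4Resid.Basic
import Cfsg.Agent.Lib.Sp.Simple
import Cfsg.Agent.Lib.Sp.Card

/-!
`Sp₄` for `altForm4` is the symplectic group of the standard form, in characteristic two.
-/

set_option autoImplicit false

open scoped MatrixGroups Matrix

namespace CfsgLib.Sp4Resid

open Matrix Cfsg.Lie CfsgLib.GeomClasses.Symp

variable {F : Type*} [Field F] [CharP F 2]

/-- The order of the basis. -/
def idx : Fin 2 ⊕ Fin 2 ≃ Fin 4 where
  toFun := Sum.elim ![0, 1] ![3, 2]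
  invFun := ![.inl 0, .inl 1, .inr 1, .inr 0]
  left_inv := by rintro (i | i) <;> fin_cases i <;> rfl
  right_inv := by intro i; fin_cases i <;> rfl

/-- The change of coordinates. -/
def toFour : GL (Fin 2 ⊕ Fin 2) F ≃* GL (Fin 4) F := Cfsg.Geo.glReindex idx

omit [CharP F 2] in
theorem toFour_mulVec (g : GL (Fin 2 ⊕ Fin 2) F) (v : Fin 4 → F) :
    ((toFour g : GL (Fin 4) F) : Matrix (Fin 4) (Fin 4) F) *ᵥ v =
      (((g : Matrix (Fin 2 ⊕ Fin 2) (Fin 2 ⊕ Fin 2) F) *ᵥ (v ∘ idx)) ∘ idx.symm) := by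
  show (Matrix.reindex idx idx (g : Matrix (Fin 2 ⊕ Fin 2) (Fin 2 ⊕ Fin 2) F)) *ᵥ v = _
  rw [Matrix.reindex_apply, Matrix.submatrix_mulVec_equiv, Equiv.symm_symm]

theorem altForm4_idx (u v : Fin 4 → F) : altForm4 u v = Cfsg.sympForm 2 F (u ∘ idx) (v ∘ idx) := by
  rw [sympForm_eq, Fin.sum_univ_two, altForm4, CharTwo.sub_eq_add, CharTwo.sub_eq_add]
  simp [idx]
  ring

theorem toFour_mem {g : GL (Fin 2 ⊕ Fin 2) F} : toFour g ∈ Sp4 F ↔ g ∈ Cfsg.spGL 2 F := by
  rw [mem_spGL, mem_iff]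
  constructor
  · intro h u v
    have := h (u ∘ idx.symm) (v ∘ idx.symm)
    rw [altForm4_idx, altForm4_idx, toFour_mulVec, toFour_mulVec] at this
    simpa [Function.comp_assoc] using this
  · intro h u v
    rw [altForm4_idx, altForm4_idx, toFour_mulVec, toFour_mulVec]
    simpa [Function.comp_assoc] using h (u ∘ idx) (v ∘ idx)

theorem map_spGL : (Cfsg.spGL 2 F).map (toFour (F := F)).toMonoidHom = Sp4 F := by
  ext g
  rw [Subgroup.mem_map_equiv, ← toFour_mem, MulEquiv.apply_symm_apply]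

theorem card_sp4 [Fintype F] :
    Nat.card ↥(Sp4 F) = Fintype.card F ^ 4 * ((Fintype.card F ^ 2 - 1) * (Fintype.card F ^ 4 - 1)) := by
  rw [← map_spGL, Subgroup.card_map_of_injective (f := (toFour (F := F)).toMonoidHom) (toFour (F := F)).injective,
    ← Nat.card_congr (CfsgLib.Sp.spEquiv 2 F).toEquiv, CfsgLib.Sp.card_symplecticGroup rfl,
    Finset.prod_range_succ, Finset.prod_range_one]
  norm_num

end CfsgLib.Sp4Resid
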