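import Cfsg.Agent.Lib.PSL2.Dickson
import Cfsg.Agent.Lib.PSL2.Basic

/-!
A subgroup of `SL₂` in characteristic two whose upper unipotent part is that of a subfield with at least four
elements has all its lower unipotent elements over this subfield.
-/

set_option autoImplicit false

open scoped MatrixGroups Matrix

namespace CfsgLib.Sp4Resid.PlaneSub

open Matrix CfsgLib.PSL2

variable {F : Type*} [Field F] [CharP F 2] [Fintype F]

local notation "SL2" => Matrix.SpecialLinearGroup (Fin 2) F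

/-- An upper unipotent element. -/
def up (a : F) : SL2 := ⟨!![1, a; 0, 1], by simp [det_fin_two_of]⟩

/-- A lower unipotent element. -/
def lo (a : F) : SL2 := ⟨!![1, 0; a, 1], by simp [det_fin_two_of]⟩

omit [CharP F 2] [Fintype F] in
theorem up_coe (a : F) : ((up a : SL2) : Matrix (Fin 2) (Fin 2) F) = !![1, a; 0, 1] := rfl

omit [CharP F 2] [Fintype F] in
theorem lo_coe (a : F) : ((lo a : SL2) : Matrix (Fin 2) (Fin 2) F) = !![1, 0; a, 1] := rfl

omit [CharP F 2] [Fintype F] in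
theorem up_mul (a b : F) : up a * up b = up (a + b) := by
  ext i j
  fin_cases i <;> fin_cases j <;> simp [up_coe, SpecialLinearGroup.coe_mul, Matrix.mul_apply, Fin.sum_univ_two, add_comm]

omit [CharP F 2] [Fintype F] in
theorem up_zero : up (0 : F) = 1 := by
  ext i j
  fin_cases i <;> fin_cases j <;> simp [up_coe]

omit [Fintype F] in
theorem up_sq (a : F) : up a * up a = 1 := by rw [up_mul, CharTwo.add_self_eq_zero, up_zero]

omit [CharP F 2] [Fintype F] in
theorem up_inj {a b : F} (h : up a = up b) : a = b := by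
  have := congrArg (fun M : SL2 => (M : Matrix (Fin 2) (Fin 2) F) 0 1) h
  simpa [up_coe] using this

variable {H : Subgroup (Matrix.SpecialLinearGroup (Fin 2) F)} {K : Subfield F}

/-- The projection to the projective group. -/
noncomputable def proj (H : Subgroup (Matrix.SpecialLinearGroup (Fin 2) F)) :
    ↥H →* ProjGenLinGroup (Fin 2) F :=
  (ProjGenLinGroup.mk.comp SpecialLinearGroup.toGL).comp H.subtype

theorem proj_injective : Function.Injective (proj H) := by
  rw [injective_iff_map_eq_one]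
  intro M hM
  obtain ⟨u, hu⟩ := ProjGenLinGroup.mk_eq_mk_iff.1
    (show ProjGenLinGroup.mk (SpecialLinearGroup.toGL (M : SL2)) = ProjGenLinGroup.mk 1 by
      rw [map_one]; exact hM)
  have hval : ((SpecialLinearGroup.toGL (M : SL2) * GeneralLinearGroup.scalar (Fin 2) u : GL (Fin 2) F) :
      Matrix (Fin 2) (Fin 2) F) = 1 := by rw [hu]; rfl
  simp only [Units.val_mul, GeneralLinearGroup.coe_scalar] at hval
  have hc : ∀ i j, (M : SL2) i j * (u : F) = (1 : Matrix (Fin 2) (Fin 2) F) i j := fun i j => by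
    rw [← hval]
    simp [Matrix.scalar_apply]
  have hu0 := u.ne_zero
  have e01 : (M : SL2) 0 1 = 0 := by simpa [hu0] using hc 0 1
  have e10 : (M : SL2) 1 0 = 0 := by simpa [hu0] using hc 1 0
  have e00 : (M : SL2) 0 0 * (u : F) = 1 := by simpa using hc 0 0
  have e11 : (M : SL2) 1 1 * (u : F) = 1 := by simpa using hc 1 1
  have e : (M : SL2) 0 0 = (M : SL2) 1 1 := mul_right_cancel₀ hu0 (e00.trans e11.symm)
  have hdet := (M : SL2).2
  rw [det_fin_two] at hdet
  change (M : SL2) 0 0 * (M : SL2) 1 1 - (M : SL2) 0 1 * (M : SL2) 1 0 = 1 at hdet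
  rw [e01, zero_mul, sub_zero, ← e, ← sq] at hdet
  have h1 : (M : SL2) 0 0 = 1 := CharTwo.sq_injective (show _ ^ 2 = (1 : F) ^ 2 by rw [hdet, one_pow])
  refine Subtype.ext ?_
  ext i j
  fin_cases i <;> fin_cases j
  · simpa using h1
  · simpa using e01
  · simpa using e10
  · simpa [← e] using h1

/-- The point to which an element moves the point at infinity. -/
def point (M : SL2) [DecidableEq F] : Option F :=
  if (M : SL2) 1 0 = 0 then none else some (M 0 0 / M 1 0)

/-- The elements fixing the point at infinity. -/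
def upper (H : Subgroup (Matrix.SpecialLinearGroup (Fin 2) F)) : Subgroup ↥H where
  carrier := {M | (M : SL2) 1 0 = 0}
  one_mem' := by simp
  mul_mem' := fun {M N} hM hN => by
    simp only [Set.mem_setOf_eq] at hM hN ⊢
    simp [Subgroup.coe_mul, SpecialLinearGroup.coe_mul, Matrix.mul_apply, Fin.sum_univ_two, hM, hN]
  inv_mem' := fun {M} hM => by
    simp only [Set.mem_setOf_eq] at hM ⊢
    simp [SpecialLinearGroup.coe_inv, Matrix.adjugate_fin_two, hM]

theorem eq_of_two_pow_mul_odd {a b o₁ o₂ : ℕ} (h₁ : Odd o₁) (h₂ : Odd o₂) (h : 2 ^ a * o₁ = 2 ^ b * o₂) :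
    2 ^ a = 2 ^ b :=
  Nat.dvd_antisymm
    ((Nat.Coprime.pow_left a (Nat.coprime_two_left.2 h₂)).dvd_of_dvd_mul_right ⟨o₁, h.symm⟩)
    ((Nat.Coprime.pow_left b (Nat.coprime_two_left.2 h₁)).dvd_of_dvd_mul_right ⟨o₂, h⟩)

theorem card_eq_of_borel (hU : ∀ a : F, up a ∈ H ↔ a ∈ K)
    (hs : ∀ s ∈ K, s ≠ 0 → ∃ M ∈ H, M 1 0 = 0 ∧ M 0 0 = s) :
    Nat.card K * (Nat.card K - 1) ≤ Nat.card (upper H) := by
  classical
  choose f hf using hs
  let g : {s : K // s ≠ 0} × K → upper H := fun p =>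
    ⟨⟨f p.1.1 p.1.1.2 (fun e => p.1.2 (Subtype.ext e)) * up (p.2 : F),
      H.mul_mem (hf _ _ _).1 ((hU _).2 p.2.2)⟩,
     by
      show (_ * up _ : SL2) 1 0 = 0
      simp [SpecialLinearGroup.coe_mul, Matrix.mul_apply, Fin.sum_univ_two, up_coe, (hf _ _ _).2.1]⟩
  have hg : Function.Injective g := by
    intro p p' e
    have e' := congrArg (fun x : upper H => ((x : ↥H) : SL2)) e
    simp only [g] at e'
    have e00 := congrArg (fun M : SL2 => M 0 0) e'
    simp [SpecialLinearGroup.coe_mul, Matrix.mul_apply, Fin.sum_univ_two, up_coe, (hf _ _ _).2.2] at e00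
    have h1 : p.1 = p'.1 := Subtype.ext e00
    rw [h1] at e'
    have h2 : p.2 = p'.2 := Subtype.ext (up_inj (mul_left_cancel e'))
    exact Prod.ext h1 h2
  have h := Nat.card_le_card_of_injective g hg
  rwa [Nat.card_prod, Nat.card_eq_fintype_card (α := {s : K // s ≠ 0}), Fintype.card_subtype_compl,
    Fintype.card_subtype_eq, ← Nat.card_eq_fintype_card, mul_comm] at h

theorem card_sub_eq (hU : ∀ a : F, up a ∈ H ↔ a ∈ K) {s o : ℕ} (hcard : Nat.card ↥H = 2 ^ s * o)
    (ho : Odd o) : Nat.card K = 2 ^ s := by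
  classical
  haveI := Fact.mk Nat.prime_two
  haveI : CharP K 2 := K.subtype.charP K.subtype.injective 2
  obtain ⟨r, -, hr⟩ := FiniteField.card K 2
  set T : Subgroup ↥H :=
    { carrier := {M | ∃ a : K, (M : SL2) = up (a : F)}
      one_mem' := ⟨0, by simp [up_zero]⟩
      mul_mem' := fun {M N} ⟨a, ha⟩ ⟨b, hb⟩ => ⟨a + b, by rw [Subgroup.coe_mul, ha, hb, up_mul]; simp⟩
      inv_mem' := fun {M} ⟨a, ha⟩ =>
        ⟨a, by rw [Subgroup.coe_inv, ha, inv_eq_of_mul_eq_one_right (up_sq _)]⟩ } with hT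
  have hTc : Nat.card T = Nat.card K := by
    refine (Nat.card_eq_of_bijective (fun a : K =>
      (⟨⟨up (a : F), (hU _).2 a.2⟩, ⟨a, rfl⟩⟩ : T)) ⟨fun a b e => ?_, ?_⟩).symm
    · exact Subtype.ext (up_inj (congrArg (fun x : T => ((x : ↥H) : SL2)) e))
    · rintro ⟨⟨M, hM⟩, a, ha⟩
      exact ⟨a, Subtype.ext (Subtype.ext ha.symm)⟩
  have hP : IsPGroup 2 T := IsPGroup.of_card (n := (r : ℕ)) (by rw [hTc, Nat.card_eq_fintype_card, hr])
  obtain ⟨P, hTP⟩ := hP.exists_le_sylow
  -- a central involution of the Sylow group lies in the root group, and so does its centraliser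
  obtain ⟨t₀, ht₀, ht₀1⟩ : ∃ t ∈ T, (t : SL2) = up 1 :=
    ⟨⟨up 1, (hU 1).2 K.one_mem⟩, ⟨1, by simp⟩, rfl⟩
  haveI : Nontrivial P := by
    refine ⟨⟨t₀, hTP ht₀⟩, 1, fun e => ?_⟩
    have := congrArg (fun x : P => ((x : ↥H) : SL2)) e
    simp only [OneMemClass.coe_one, ht₀1] at this
    exact one_ne_zero (up_inj (this.trans up_zero.symm))
  haveI := P.isPGroup'.center_nontrivial
  obtain ⟨⟨z, hzc⟩, hz1'⟩ := exists_ne (1 : Subgroup.center (P : Subgroup ↥H))
  have hz1 : z ≠ 1 := fun e => hz1' (Subtype.ext e)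
  have key : ∀ {M : SL2} {a : F}, a ≠ 0 → M * up a = up a * M → ∃ b : F, M = up b := by
    intro M a ha e
    have e00 := congrArg (fun N : SL2 => N 0 0) e
    have e01 := congrArg (fun N : SL2 => N 0 1) e
    simp [SpecialLinearGroup.coe_mul, Matrix.mul_apply, Fin.sum_univ_two, up_coe] at e00 e01
    have h10 : M 1 0 = 0 := e00.resolve_left ha
    have h00 : M 0 0 = M 1 1 := by
      refine mul_right_cancel₀ ha ?_
      linear_combination e01
    have hdet := M.2
    rw [det_fin_two] at hdet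
    change M 0 0 * M 1 1 - M 0 1 * M 1 0 = 1 at hdet
    rw [h10, mul_zero, sub_zero, ← h00, ← sq] at hdet
    have h1 : M 0 0 = 1 := CharTwo.sq_injective (show _ ^ 2 = (1 : F) ^ 2 by rw [hdet, one_pow])
    refine ⟨M 0 1, ?_⟩
    ext i j
    fin_cases i <;> fin_cases j
    · simpa [up_coe] using h1
    · simp [up_coe]
    · simpa [up_coe] using h10
    · simpa [up_coe, ← h00] using h1
  have hz : ((z : ↥H) : SL2) * up 1 = up 1 * ((z : ↥H) : SL2) := by
    have := congrArg (fun x : P => ((x : ↥H) : SL2)) (Subgroup.mem_center_iff.1 hzc ⟨t₀, hTP ht₀⟩)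
    simp only [Subgroup.coe_mul, ht₀1] at this
    exact this.symm
  obtain ⟨c, hc⟩ := key one_ne_zero hz
  have hc0 : c ≠ 0 := fun e => hz1 (Subtype.ext (Subtype.ext (by rw [hc, e, up_zero]; rfl)))
  have hPT : (P : Subgroup ↥H) ≤ T := by
    intro x hx
    have := congrArg (fun x : P => ((x : ↥H) : SL2)) (Subgroup.mem_center_iff.1 hzc ⟨x, hx⟩)
    simp only [Subgroup.coe_mul, hc] at this
    obtain ⟨b, hb⟩ := key hc0 this
    exact ⟨⟨b, (hU b).1 (hb ▸ x.2)⟩, hb⟩
  have hPc : Nat.card P = Nat.card K := by rw [le_antisymm hPT hTP, hTc]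
  have hmul := (P : Subgroup ↥H).card_mul_index
  rw [hPc, Nat.card_eq_fintype_card (α := K), hr, hcard] at hmul
  have hodd : Odd (P : Subgroup ↥H).index := by
    rw [← Nat.not_even_iff_odd, even_iff_two_dvd]; exact P.not_dvd_index
  rw [Nat.card_eq_fintype_card (α := K), hr, eq_of_two_pow_mul_odd hodd ho hmul]

theorem range_mul_le [DecidableEq F] :
    Nat.card (Set.range fun M : ↥H => point (M : SL2)) * Nat.card (upper H) ≤ Nat.card ↥H := by
  rw [← (upper H).index_mul_card]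
  refine Nat.mul_le_mul_right _ ?_
  let f : ↥H ⧸ upper H → Set.range fun M : ↥H => point (M : SL2) :=
    Quotient.lift (fun M => ⟨point (M : SL2), M, rfl⟩) fun A B hAB => by
      obtain ⟨N, hN, rfl⟩ : ∃ N ∈ upper H, B = A * N :=
        ⟨A⁻¹ * B, QuotientGroup.leftRel_apply.1 hAB, (mul_inv_cancel_left A B).symm⟩
      have hN' : (N : SL2) 1 0 = 0 := hN
      have h00 : (N : SL2) 0 0 ≠ 0 := fun e => by
        have hdet := (N : SL2).2
        rw [det_fin_two] at hdet
        change (N : SL2) 0 0 * (N : SL2) 1 1 - (N : SL2) 0 1 * (N : SL2) 1 0 = 1 at hdet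
        rw [e, hN', zero_mul, mul_zero, sub_zero] at hdet
        exact zero_ne_one hdet
      refine Subtype.ext ?_
      show point (A : SL2) = point ((A * N : ↥H) : SL2)
      simp [point, SpecialLinearGroup.coe_mul, Matrix.mul_apply, Fin.sum_univ_two, hN', h00, mul_div_mul_right]
  refine Nat.card_le_card_of_surjective f ?_
  rintro ⟨_, M, rfl⟩
  exact ⟨QuotientGroup.mk M, rfl⟩

theorem some_mem_range [DecidableEq F] (hU : ∀ a : F, up a ∈ H ↔ a ∈ K) (hswap : ∃ M ∈ H, M 0 0 = 0) :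
    ∀ o : Option K, o.map Subtype.val ∈ Set.range fun M : ↥H => point (M : SL2)
  | none => ⟨1, by simp [point]⟩
  | some a => by
    obtain ⟨M, hM, h00⟩ := hswap
    have h10 : M 1 0 ≠ 0 := fun e => by
      have hdet := M.2
      rw [det_fin_two] at hdet
      change M 0 0 * M 1 1 - M 0 1 * M 1 0 = 1 at hdet
      rw [e, h00, zero_mul, mul_zero, sub_zero] at hdet
      exact zero_ne_one hdet
    refine ⟨⟨up (a : F) * M, H.mul_mem ((hU _).2 a.2) hM⟩, ?_⟩
    simp [point, up_coe, SpecialLinearGroup.coe_mul, Matrix.mul_apply, Fin.sum_univ_two, h00, h10]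

theorem range_ge [DecidableEq F] (hU : ∀ a : F, up a ∈ H ↔ a ∈ K) (hswap : ∃ M ∈ H, M 0 0 = 0) :
    Nat.card K + 1 ≤ Nat.card (Set.range fun M : ↥H => point (M : SL2)) := by
  rw [← Finite.card_option]
  refine Nat.card_le_card_of_injective (fun o => ⟨_, some_mem_range hU hswap o⟩) ?_
  intro o o' e
  exact Option.map_injective Subtype.val_injective (congrArg Subtype.val e)

theorem not_dickson_small (hU : ∀ a : F, up a ∈ H ↔ a ∈ K) (hK : 4 ≤ Nat.card K)
    (hswap : ∃ M ∈ H, M 0 0 = 0) {n : ℕ} (hn : n < 60)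
    (hs : ∀ s ∈ K, s ≠ 0 → ∃ M ∈ H, M 1 0 = 0 ∧ M 0 0 = s) : Nat.card ↥H ≠ n := by
  classical
  intro e
  have hrange := range_ge hU hswap
  have h := card_eq_of_borel hU hs
  have h2 := range_mul_le (H := H)
  have : 5 * 12 ≤ Nat.card ↥H := le_trans (Nat.mul_le_mul (by omega : 5 ≤ _)
    (le_trans (Nat.mul_le_mul hK (by omega : 3 ≤ Nat.card K - 1)) h)) h2
  omega

/-- The lower unipotent elements are defined over the subfield. -/
theorem lo_mem {K : Subfield F} {H : Subgroup (Matrix.SpecialLinearGroup (Fin 2) F)} (hK : 4 ≤ Nat.card K)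
    (hU : ∀ a : F, up a ∈ H ↔ a ∈ K)
    (hs : ∀ s ∈ K, s ≠ 0 → ∃ M ∈ H, M 1 0 = 0 ∧ M 0 0 = s) (hswap : ∃ M ∈ H, M 0 0 = 0)
    {μ : F} (hμ : lo μ ∈ H) : μ ∈ K := by
  classical
  haveI := Fact.mk Nat.prime_two
  obtain ⟨a, ha, ha0⟩ : ∃ a ∈ K, a ≠ 0 ∧ a ≠ 1 := by
    by_contra h
    push Not at h
    have : Nat.card K ≤ Nat.card ({0, 1} : Set F) :=
      Nat.card_mono (Set.toFinite _) fun x hx => by
        by_cases hx0 : x = 0
        · exact Or.inl hx0
        · exact Or.inr (h x hx hx0)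
    have h01 : Nat.card ({0, 1} : Set F) = 2 := by
      rw [Nat.card_coe_set_eq, Set.ncard_pair zero_ne_one]
    omega
  have hinv : ∀ x : F, x ∈ K → x ≠ 0 → ∀ C : Subgroup ↥H, (∀ c : C, c ^ 2 = 1 → c = 1) →
      ∀ hx : up x ∈ H, (⟨up x, hx⟩ : ↥H) ∉ C := by
    intro x _ hx0 C hC hx hm
    have := hC ⟨_, hm⟩ (Subtype.ext (Subtype.ext (by simp [sq, up_sq])))
    exact hx0 (up_inj ((congrArg (fun c : C => ((c : ↥H) : SL2)) this).trans up_zero.symm))
  rcases dickson_strong 2 (proj H) proj_injective with ⟨x, hx⟩ | hT | hD | hA | hS | ⟨h, -⟩ | ⟨S, -, hS⟩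
  · exfalso
    obtain ⟨M, hM, h00⟩ := hswap
    have hU1 := hx ⟨up 1, (hU 1).2 K.one_mem⟩
    have hM1 := hx ⟨M, hM⟩
    simp only [proj, MonoidHom.comp_apply, Subgroup.coe_subtype, pglPerm_mk] at hU1 hM1
    have h10 : M 1 0 ≠ 0 := fun e => by
      have hdet := M.2
      rw [det_fin_two] at hdet
      change M 0 0 * M 1 1 - M 0 1 * M 1 0 = 1 at hdet
      rw [e, h00, zero_mul, mul_zero, sub_zero] at hdet
      exact zero_ne_one hdet
    induction x with
    | infty => simp [OnePoint.smul_infty_def, h10] at hM1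
    | coe z => simp [OnePoint.smul_some_eq_ite, up_coe, SpecialLinearGroup.toGL] at hU1
  · exfalso
    have := hT.2.1 ⟨up 1, (hU 1).2 K.one_mem⟩ (Subtype.ext (by simp [sq, up_sq]))
    exact one_ne_zero (up_inj ((congrArg Subtype.val this).trans up_zero.symm))
  · exfalso
    obtain ⟨C, hC2, hC, -⟩ := hD
    have h1 := hinv 1 K.one_mem one_ne_zero C hC.2.1 ((hU 1).2 K.one_mem)
    have h2 := hinv a ha ha0.1 C hC.2.1 ((hU a).2 ha)
    refine hinv (1 + a) (K.add_mem K.one_mem ha) (fun e => ha0.2 (CharTwo.add_eq_zero.1 e).symm) C hC.2.1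
      ((hU _).2 (K.add_mem K.one_mem ha)) ?_
    have := (Subgroup.mul_mem_iff_of_index_two hC2 (a := (⟨up 1, (hU 1).2 K.one_mem⟩ : ↥H))
      (b := ⟨up a, (hU a).2 ha⟩)).2 (iff_of_false h1 h2)
    simpa [up_mul] using this
  · obtain ⟨e⟩ := hA
    refine absurd ?_ (not_dickson_small hU hK hswap (n := 12) (by norm_num) hs)
    rw [Nat.card_congr e.toEquiv, nat_card_alternatingGroup, Nat.card_fin]
    rfl
  · obtain ⟨e⟩ := hS
    refine absurd ?_ (not_dickson_small hU hK hswap (n := 24) (by norm_num) hs)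
    rw [Nat.card_congr e.toEquiv, Nat.card_perm, Nat.card_fin]
    rfl
  · exact absurd rfl h
  · haveI : CharP S 2 := S.subtype.charP S.subtype.injective 2
    obtain ⟨n, -, hn⟩ := FiniteField.card S 2
    have hev : Even (Fintype.card S) := by rw [hn]; exact Nat.even_pow.2 ⟨even_two, n.ne_zero⟩
    have hcard : Nat.card ↥H = (Fintype.card S + 1) * (Fintype.card S * (Fintype.card S - 1)) := by
      rcases hS with e | e <;> obtain ⟨e⟩ := e
      · rw [Nat.card_congr e.toEquiv, ← CfsgLib.PSL2.card_psl, CfsgLib.PSL2.gcd_eq_one hev, one_mul]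
      · rw [Nat.card_congr e.toEquiv, CfsgLib.PSL2.card_pgl]
    have hrs : Nat.card K = Fintype.card S := by
      rw [hn]
      refine card_sub_eq hU (o := (2 ^ (n : ℕ) + 1) * (2 ^ (n : ℕ) - 1)) (by rw [hcard, hn]; ring) ?_
      have h2 : Even (2 ^ (n : ℕ)) := Nat.even_pow.2 ⟨even_two, n.ne_zero⟩
      refine Nat.odd_mul.2 ⟨h2.add_one, Nat.Even.sub_odd Nat.one_le_two_pow h2 odd_one⟩
    have hb := card_eq_of_borel hU hs
    have hR : Nat.card (Set.range fun M : ↥H => point (M : SL2)) ≤ Nat.card K + 1 := by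
      refine Nat.le_of_mul_le_mul_right (le_trans (Nat.mul_le_mul_left _ hb)
        (le_trans range_mul_le (le_of_eq (by rw [hcard, hrs])))) ?_
      exact Nat.mul_pos (by omega) (by omega)
    by_cases hμ0 : μ = 0
    · exact hμ0 ▸ K.zero_mem
    let f : Option K → Set.range fun M : ↥H => point (M : SL2) := fun o => ⟨_, some_mem_range hU hswap o⟩
    have hf : Function.Injective f := fun o o' e =>
      Option.map_injective Subtype.val_injective (congrArg Subtype.val e)
    have hbij : Function.Bijective f := hf.bijective_of_nat_card_le (by rwa [Finite.card_option])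
    obtain ⟨o, ho⟩ := hbij.2 ⟨point (lo μ), ⟨lo μ, hμ⟩, rfl⟩
    have ho' := congrArg Subtype.val ho
    simp only [f, point, lo_coe] at ho'
    rcases o with _ | k
    · simp [hμ0] at ho'
    · simp [hμ0] at ho'
      exact inv_mem_iff.1 (ho' ▸ k.2)

end CfsgLib.Sp4Resid.PlaneSub
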