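import Cfsg.Agent.Lib.Sp4Resid.Connect
import Cfsg.Agent.Lib.Sp4Resid.Invol
import Cfsg.Agent.Lib.Sp4Resid.Plane

/-!
A group with two transvections of the same centre is the symplectic group or is defined over a proper
subfield.
-/

set_option autoImplicit false

open scoped MatrixGroups Matrix

namespace CfsgLib.Sp4Resid

open Matrix Cfsg.Lie CfsgLib.GeomClasses CfsgLib.GeomClasses.Symp Module

variable {F : Type*} [Field F] [CharP F 2] [Fintype F]

local notation "M4" => Matrix (Fin 4) (Fin 4) F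
local notation "f4" => (altForm4 : (Fin 4 → F) → (Fin 4 → F) → F)

theorem sqrt_mem (K : Subfield F) {b : F} (h : b * b ∈ K) : b ∈ K := by
  haveI : CharP K 2 := K.subtype.charP K.subtype.injective 2
  obtain ⟨c, hc⟩ := sqrt_exists (F := K) ⟨_, h⟩
  have e : (c : F) ^ 2 = b ^ 2 := by
    rw [sq, sq]
    exact congrArg Subtype.val hc
  rw [← CharTwo.sq_injective e]
  exact c.2

variable {G : Subgroup (GL (Fin 4) F)}

omit [Fintype F] in
theorem coef_conj (hG : G ≤ Sp4 F) {g : GL (Fin 4) F} (hg : g ∈ G) {u w : Fin 4 → F}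
    (e : (g : M4) *ᵥ u = w) {c : F} (hc : Tv (c • u) ∈ G) : Tv (c • w) ∈ G := by
  have h := G.mul_mem (G.mul_mem hg hc) (G.inv_mem hg)
  rwa [Tv_conj (hG hg), mulVec_smul, e] at h

theorem coef_adj (hG : G ≤ Sp4 F) {u w : Fin 4 → F} (h : Adj G u w) (c : F) :
    Tv (c • u) ∈ G ↔ Tv (c • w) ∈ G := by
  obtain ⟨g, hg, e, -⟩ := cent_exists_conj h.1 h.2.1 h.2.2
  refine ⟨coef_conj hG hg e, coef_conj hG (G.inv_mem hg) ?_⟩
  rw [← e, gl_inv_mulVec_mulVec]

theorem exists_scale (S : Setup G) {u w : Fin 4 → F} (h : Adj G u w) {a : F} (ha : a ≠ 0)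
    (hc : Tv (a • u) ∈ G) : ∃ g ∈ G, g ∈ fixPerp u w ∧ (g : M4) *ᵥ u = a • u := by
  obtain ⟨g₁, hg₁, e₁, f₁⟩ := cent_exists_conj h.1 h.2.1 h.2.2
  have hau : altForm4 (a • u) w ≠ 0 := by
    rw [Symp.smul_left isSymp]; exact mul_ne_zero ha h.2.2
  obtain ⟨g₂, hg₂, e₂, f₂⟩ :=
    cent_exists_conj (u := a • u) ⟨smul_ne_zero ha h.1.1, hc⟩ h.2.1 hau
  have f₂' : g₂ ∈ fixPerp u w := fun r h1 h2 =>
    f₂ r (by rw [Symp.smul_right isSymp, h1, mul_zero]) h2
  refine ⟨g₂⁻¹ * g₁, G.mul_mem (G.inv_mem hg₂) hg₁, mul_mem (inv_mem f₂') f₁, ?_⟩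
  rw [gl_mul_mulVec, e₁, ← e₂, gl_inv_mulVec_mulVec]

theorem Setup.coef_eq (S : Setup G) {u w : Fin 4 → F} (hu : u ∈ cent G) (hw : w ∈ cent G) (c : F) :
    Tv (c • u) ∈ G ↔ Tv (c • w) ∈ G := by
  have h := S.connected hu hw
  clear hw
  induction h with
  | refl => rfl
  | tail _ h ih => exact ih.trans (coef_adj S.le h c)

theorem Setup.coef_mul (S : Setup G) {u : Fin 4 → F} (hu : u ∈ cent G) {a c : F}
    (ha : Tv (a • u) ∈ G) (hc : Tv (c • u) ∈ G) : Tv ((c * a) • u) ∈ G := by
  rcases eq_or_ne a 0 with rfl | ha0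
  · rw [mul_zero, zero_smul, Tv_zero]; exact G.one_mem
  obtain ⟨w, hw⟩ := S.exists_adj hu
  obtain ⟨g, hg, -, e⟩ := exists_scale S hw ha0 ha
  have := coef_conj S.le hg e hc
  rwa [smul_smul] at this

/-- The field of the coefficients of a vector of the group. -/
noncomputable def Setup.coefField (S : Setup G) {u : Fin 4 → F} (hu : u ∈ cent G) : Subfield F where
  carrier := {c | Tv (c • u) ∈ G}
  mul_mem' {a b} ha hb := by
    simp only [Set.mem_ofPred_eq] at ha hb ⊢
    exact S.coef_mul hu hb ha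
  one_mem' := by simp only [Set.mem_ofPred_eq, one_smul]; exact hu.2
  add_mem' {a b} ha hb := by
    simp only [Set.mem_ofPred_eq] at ha hb ⊢
    rw [← Tv_line]; exact G.mul_mem ha hb
  zero_mem' := by simp only [Set.mem_ofPred_eq, zero_smul, Tv_zero]; exact G.one_mem
  neg_mem' {a} ha := by simpa only [Set.mem_ofPred_eq, CharTwo.neg_eq] using ha
  inv_mem' a ha := by
    simp only [Set.mem_ofPred_eq] at ha ⊢
    rcases eq_or_ne a 0 with rfl | ha0
    · rw [_root_.inv_zero, zero_smul, Tv_zero]; exact G.one_mem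
    have key : ∀ n : ℕ, Tv ((a ^ n) • u) ∈ G := fun n => by
      induction n with
      | zero => rw [pow_zero, one_smul]; exact hu.2
      | succ n ih => rw [pow_succ]; exact S.coef_mul hu ha ih
    have hq := Fintype.one_lt_card (α := F)
    have e : a⁻¹ = a ^ (Fintype.card F - 2) := by
      refine inv_eq_of_mul_eq_one_right ?_
      rw [← pow_succ', show Fintype.card F - 2 + 1 = Fintype.card F - 1 by omega,
        FiniteField.pow_card_sub_one_eq_one a ha0]
    rw [e]
    exact key _

theorem Setup.mem_coefField (S : Setup G) {u w : Fin 4 → F} (hu : u ∈ cent G) (hw : w ∈ cent G) {c : F} :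
    c ∈ S.coefField hu ↔ Tv (c • w) ∈ G := S.coef_eq hu hw c

omit [Fintype F] in
theorem plane_eq {u v : Fin 4 → F} (huv : altForm4 u v = 1) {x : Fin 4 → F}
    (hx : ∀ r, altForm4 r u = 0 → altForm4 r v = 0 → altForm4 x r = 0) :
    x = altForm4 x v • u + altForm4 u x • v := by
  refine sub_eq_zero.1 (eq_zero_of_pair fun y => ?_)
  rw [sub_eq_add_neg, show -(altForm4 x v • u + altForm4 u x • v) = altForm4 x v • u + altForm4 u x • v from
    funext fun i => CharTwo.neg_eq _]
  have h := hx (y + altForm4 y v • u + altForm4 y u • v)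
    (by simp only [Symp.add_left isSymp, Symp.smul_left isSymp, (isSymp (F := F)).alternating,
          f4_comm v u, huv, mul_zero, mul_one, add_zero]
        exact CharTwo.add_self_eq_zero _)
    (by simp only [Symp.add_left isSymp, Symp.smul_left isSymp, (isSymp (F := F)).alternating,
          huv, mul_zero, mul_one, add_zero]
        exact CharTwo.add_self_eq_zero _)
  simp only [Symp.add_left isSymp, Symp.smul_left isSymp, Symp.add_right isSymp,
    Symp.smul_right isSymp] at h ⊢
  rw [f4_comm y u, f4_comm y v, f4_comm x u] at h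
  linear_combination h

/-- The matrices of the elements of the group on a hyperbolic plane whose orthogonal they fix. -/
def planeGroup (hG : G ≤ Sp4 F) {u v : Fin 4 → F} (huv : altForm4 u v = 1) :
    Subgroup (Matrix.SpecialLinearGroup (Fin 2) F) where
  carrier := {M | ∃ g ∈ G, g ∈ fixPerp u v ∧ (g : M4) *ᵥ u = M 0 0 • u + M 1 0 • v ∧
    (g : M4) *ᵥ v = M 0 1 • u + M 1 1 • v}
  one_mem' := ⟨1, G.one_mem, (fixPerp u v).one_mem, by simp, by simp⟩
  mul_mem' := by
    rintro M N ⟨g, hg, hgf, g1, g2⟩ ⟨h, hh, hhf, h1, h2⟩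
    refine ⟨g * h, G.mul_mem hg hh, mul_mem hgf hhf, ?_, ?_⟩
    · rw [gl_mul_mulVec, h1, mulVec_add, mulVec_smul, mulVec_smul, g1, g2]
      rw [show ((M * N : SpecialLinearGroup (Fin 2) F) : Matrix (Fin 2) (Fin 2) F) = (M : Matrix (Fin 2) (Fin 2) F) * N from rfl, Matrix.mul_apply, Matrix.mul_apply, Fin.sum_univ_two, Fin.sum_univ_two]
      module
    · rw [gl_mul_mulVec, h2, mulVec_add, mulVec_smul, mulVec_smul, g1, g2]
      rw [show ((M * N : SpecialLinearGroup (Fin 2) F) : Matrix (Fin 2) (Fin 2) F) = (M : Matrix (Fin 2) (Fin 2) F) * N from rfl, Matrix.mul_apply, Matrix.mul_apply, Fin.sum_univ_two, Fin.sum_univ_two]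
      module
  inv_mem' := by
    rintro M ⟨g, hg, hgf, g1, g2⟩
    have hdet := M.2
    rw [det_fin_two] at hdet
    refine ⟨g⁻¹, G.inv_mem hg, inv_mem hgf, ?_, ?_⟩
    · have e : (g : M4) *ᵥ ((M⁻¹ : SpecialLinearGroup (Fin 2) F) 0 0 • u +
          (M⁻¹ : SpecialLinearGroup (Fin 2) F) 1 0 • v) = u := by
        rw [mulVec_add, mulVec_smul, mulVec_smul, g1, g2]
        rw [show ((M⁻¹ : SpecialLinearGroup (Fin 2) F) : Matrix (Fin 2) (Fin 2) F) =
          (M : Matrix (Fin 2) (Fin 2) F).adjugate from rfl, Matrix.adjugate_fin_two]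
        simp only [Matrix.of_apply, Matrix.cons_val', Matrix.cons_val_zero, Matrix.cons_val_one,
          Matrix.cons_val_fin_one, CharTwo.neg_eq]
        rw [CharTwo.sub_eq_add] at hdet
        match_scalars
        · linear_combination hdet
        · linear_combination (M 1 0 * M 1 1) * (CharTwo.two_eq_zero (R := F))
      conv_lhs => rw [← e, gl_inv_mulVec_mulVec]
    · have e : (g : M4) *ᵥ ((M⁻¹ : SpecialLinearGroup (Fin 2) F) 0 1 • u +
          (M⁻¹ : SpecialLinearGroup (Fin 2) F) 1 1 • v) = v := by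
        rw [mulVec_add, mulVec_smul, mulVec_smul, g1, g2]
        rw [show ((M⁻¹ : SpecialLinearGroup (Fin 2) F) : Matrix (Fin 2) (Fin 2) F) =
          (M : Matrix (Fin 2) (Fin 2) F).adjugate from rfl, Matrix.adjugate_fin_two]
        simp only [Matrix.of_apply, Matrix.cons_val', Matrix.cons_val_zero, Matrix.cons_val_one,
          Matrix.cons_val_fin_one, CharTwo.neg_eq]
        rw [CharTwo.sub_eq_add] at hdet
        match_scalars
        · linear_combination (M 0 0 * M 0 1) * (CharTwo.two_eq_zero (R := F))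
        · linear_combination hdet
      conv_lhs => rw [← e, gl_inv_mulVec_mulVec]

theorem mem_planeGroup (hG : G ≤ Sp4 F) {u v : Fin 4 → F} (huv : altForm4 u v = 1) {g : GL (Fin 4) F}
    (hg : g ∈ G) (hf : g ∈ fixPerp u v) :
    ∃ M ∈ planeGroup hG huv, M 0 0 = altForm4 ((g : M4) *ᵥ u) v ∧ M 1 0 = altForm4 u ((g : M4) *ᵥ u) := by
  have hp : ∀ x, (x = u ∨ x = v) → (g : M4) *ᵥ x =
      altForm4 ((g : M4) *ᵥ x) v • u + altForm4 u ((g : M4) *ᵥ x) • v := fun x hx =>
    plane_eq huv fun r h1 h2 => by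
      rw [← hf r h1 h2]
      have := hG hg x r
      simp only [Units.coeHom_apply] at this
      rw [this, f4_comm]
      rcases hx with rfl | rfl
      exacts [h1, h2]
  have e := hG hg u v
  simp only [Units.coeHom_apply] at e
  rw [hp u (Or.inl rfl), hp v (Or.inr rfl), huv] at e
  simp only [Symp.add_left isSymp, Symp.smul_left isSymp, Symp.add_right isSymp, Symp.smul_right isSymp,
    (isSymp (F := F)).alternating, huv, f4_comm v u, mul_zero, mul_one, add_zero, zero_add] at e
  exact ⟨⟨!![altForm4 ((g : M4) *ᵥ u) v, altForm4 ((g : M4) *ᵥ v) v;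
      altForm4 u ((g : M4) *ᵥ u), altForm4 u ((g : M4) *ᵥ v)],
    by rw [det_fin_two_of, CharTwo.sub_eq_add]; linear_combination e⟩,
    ⟨g, hg, hf, by simpa using hp u (Or.inl rfl), by simpa using hp v (Or.inr rfl)⟩,
    by simp, by simp⟩

/-- The values of the form on the vectors of the group lie in the coefficient field. -/
theorem Setup.value_mem (S : Setup G) {u₀ : Fin 4 → F} (hu₀ : u₀ ∈ cent G)
    (hK : 4 ≤ Nat.card (S.coefField hu₀)) {u w : Fin 4 → F} (hu : u ∈ cent G) (hw : w ∈ cent G) :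
    altForm4 u w ∈ S.coefField hu₀ := by
  set K := S.coefField hu₀ with hKdef
  rcases eq_or_ne (altForm4 u w) 0 with h0 | h0
  · rw [h0]; exact K.zero_mem
  set lam := altForm4 u w with hl
  set v := lam⁻¹ • w with hvdef
  have huv : altForm4 u v = 1 := by rw [hvdef, Symp.smul_right isSymp, ← hl, inv_mul_cancel₀ h0]
  have hwv : w = lam • v := by rw [hvdef, smul_smul, mul_inv_cancel₀ h0, one_smul]
  have hfx : fixPerp u w ≤ fixPerp u v := fun g hg r h1 h2 =>
    hg r h1 (by rw [hwv, Symp.smul_right isSymp, h2, mul_zero])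
  have hU : ∀ a : F, PlaneSub.up a ∈ planeGroup S.le huv ↔ a ∈ K := by
    intro a
    obtain ⟨b, rfl⟩ := sqrt_exists a
    have hTu : (Tv (b • u) : M4) *ᵥ u = u := by
      rw [Tv_smul_mulVec, (isSymp (F := F)).alternating, mul_zero, zero_smul, add_zero]
    have hTv : (Tv (b • u) : M4) *ᵥ v = (b * b) • u + v := by
      rw [Tv_smul_mulVec, f4_comm v u, huv, mul_one, add_comm]
    have hTf : Tv (b • u) ∈ fixPerp u v := by simpa using Tv_mem_fixPerp u v b 0
    refine ⟨?_, fun h => ⟨Tv (b • u), (S.mem_coefField hu₀ hu).1 (sqrt_mem K h), hTf, ?_, ?_⟩⟩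
    · rintro ⟨g, hg, hgf, g1, g2⟩
      simp [PlaneSub.up_coe] at g1 g2
      have e : g⁻¹ * Tv (b • u) = 1 := by
        refine eq_one_of_fix (u := u) (w := v) (by rw [huv]; exact one_ne_zero) ?_ ?_
          (mul_mem (inv_mem hgf) hTf)
        · rw [gl_mul_mulVec, hTu]; conv_lhs => rw [← g1, gl_inv_mulVec_mulVec]
        · rw [gl_mul_mulVec, hTv, ← g2, gl_inv_mulVec_mulVec]
      rw [inv_mul_eq_one] at e
      exact K.mul_mem ((S.mem_coefField hu₀ hu).2 (e ▸ hg)) ((S.mem_coefField hu₀ hu).2 (e ▸ hg))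
    · simp [PlaneSub.up_coe, hTu]
    · simp [PlaneSub.up_coe, hTv]
  have hs : ∀ s ∈ K, s ≠ 0 → ∃ M ∈ planeGroup S.le huv, M 1 0 = 0 ∧ M 0 0 = s := by
    intro s hsK hs0
    obtain ⟨g, hg, hgf, e⟩ := exists_scale S ⟨hu, hw, h0⟩ hs0 ((S.mem_coefField hu₀ hu).1 hsK)
    obtain ⟨M, hM, h00, h10⟩ := mem_planeGroup S.le huv hg (hfx hgf)
    rw [e, Symp.smul_left isSymp, huv, mul_one] at h00
    rw [e, Symp.smul_right isSymp, (isSymp (F := F)).alternating, mul_zero] at h10
    exact ⟨M, hM, h10, h00⟩
  have hswap : ∃ M ∈ planeGroup S.le huv, M 0 0 = 0 := by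
    obtain ⟨g, hg, e, hgf⟩ := cent_exists_conj hu hw h0
    obtain ⟨M, hM, h00, -⟩ := mem_planeGroup S.le huv hg (hfx hgf)
    rw [e, hwv, Symp.smul_left isSymp, (isSymp (F := F)).alternating, mul_zero] at h00
    exact ⟨M, hM, h00⟩
  refine sqrt_mem K (PlaneSub.lo_mem hK hU hs hswap (μ := lam * lam)
    ⟨Tv w, hw.2, hfx (by simpa using Tv_mem_fixPerp u w 0 1), ?_, ?_⟩)
  · rw [hwv, Tv_smul_mulVec, huv, mul_one]; simp [PlaneSub.lo_coe]
  · rw [hwv, Tv_smul_mulVec, (isSymp (F := F)).alternating, mul_zero, zero_smul, add_zero]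
    simp [PlaneSub.lo_coe]

/-- All the vectors are vectors of the group if the lines of the vectors of the group are whole. -/
theorem Setup.cent_univ (S : Setup G) (h4 : 4 ≤ Fintype.card F)
    (hline : ∀ u ∈ cent G, ∀ c : F, Tv (c • u) ∈ G) (x : Fin 4 → F) : Tv x ∈ G := by
  obtain ⟨D, hD⟩ : ∃ D : Set (Fin 4 → F), D = {x | Tv x ∈ G} := ⟨_, rfl⟩
  have memD : ∀ {x}, x ∈ D ↔ Tv x ∈ G := fun {x} => by rw [hD]; rfl
  have hsm : ∀ u ∈ D, ∀ c : F, c • u ∈ D := by
    intro u hu c
    rw [memD] at hu ⊢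
    rcases eq_or_ne u 0 with rfl | h
    · rw [smul_zero, Tv_zero]; exact G.one_mem
    · exact hline u ⟨h, hu⟩ c
  have hpl : ∀ u ∈ D, ∀ w ∈ D, altForm4 u w ≠ 0 → ∀ a b : F, a • u + b • w ∈ D := by
    intro u hu w hw h a b
    rcases eq_or_ne b 0 with rfl | hb
    · rw [zero_smul, add_zero]; exact hsm u hu a
    obtain ⟨c, hc⟩ := sqrt_exists (a / (b * altForm4 w u))
    have h' : altForm4 w u ≠ 0 := fun e => h ((f4_comm _ _).trans e)
    have h1 := memD.1 (hsm u hu c)
    have h2 := memD.1 (hsm w hw b)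
    have h3 := G.mul_mem (G.mul_mem h1 h2) (G.inv_mem h1)
    rw [Tv_conj (Tv_mem _), Tv_smul_mulVec, Symp.smul_left isSymp, hc,
      div_mul_cancel₀ _ (mul_ne_zero hb h'), add_comm] at h3
    exact memD.2 h3
  have hadd : ∀ a ∈ D, ∀ b ∈ D, a + b ∈ D := by
    classical
    intro a ha b hb
    by_cases hab : altForm4 a b ≠ 0
    · simpa using hpl a ha b hb hab 1 1
    push Not at hab
    by_cases hli : ∃ s t : F, (s ≠ 0 ∨ t ≠ 0) ∧ s • a + t • b = 0
    · obtain ⟨s, t, hst, e⟩ := hli
      rcases eq_or_ne t 0 with rfl | ht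
      · rw [zero_smul, add_zero] at e
        rw [(smul_eq_zero.1 e).resolve_left (hst.resolve_right (not_not.2 rfl)), zero_add]
        exact hb
      · have e' : b = (s / t) • a := by
          rw [add_comm] at e
          have := congrArg (t⁻¹ • ·) (CharTwo.add_eq_zero.1 e)
          simp only [smul_smul, inv_mul_cancel₀ ht, one_smul] at this
          rw [this, div_eq_inv_mul]
        rw [e', show a + (s / t) • a = (1 + s / t) • a by rw [add_smul, one_smul]]
        exact hsm a ha _
    push Not at hli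
    -- the pair of values at `a` and `b`
    set δ : (Fin 4 → F) → (Fin 4 → F) → F := fun y y' =>
      altForm4 a y * altForm4 b y' + altForm4 b y * altForm4 a y' with hδ
    obtain ⟨y, hy, y', hy', hyy, hne⟩ : ∃ y ∈ D, ∃ y' ∈ D, altForm4 y y' ≠ 0 ∧ δ y y' ≠ 0 := by
      by_contra hcon
      push Not at hcon
      obtain ⟨y₀, hy₀, hy₀v⟩ : ∃ y ∈ cent G, altForm4 a y ≠ 0 ∨ altForm4 b y ≠ 0 := by
        by_contra h
        push Not at h
        have hz : a = 0 := by
          refine eq_zero_of_pair fun y => ?_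
          have hy : y ∈ Submodule.span F (cent G) := S.span_cent ▸ Submodule.mem_top
          induction hy using Submodule.span_induction with
          | mem x hx => exact (h x hx).1
          | zero => exact Symp.zero_right isSymp _
          | add a b _ _ ha hb => rw [Symp.add_right isSymp, ha, hb, add_zero]
          | smul c a _ ha => rw [Symp.smul_right isSymp, ha, mul_zero]
        exact hli 1 0 (Or.inl one_ne_zero) (by rw [hz, smul_zero, zero_smul, add_zero])
      have key : ∀ w, Relation.ReflTransGen (Adj G) y₀ w → w ∈ cent G →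
          ∃ z ∈ D, altForm4 a z = altForm4 a y₀ ∧ altForm4 b z = altForm4 b y₀ ∧
            (z = w ∨ altForm4 z w ≠ 0) := by
        intro w h
        induction h with
        | refl => exact fun _ => ⟨y₀, memD.2 hy₀.2, rfl, rfl, Or.inl rfl⟩
        | @tail w w' _ h ih =>
          intro _
          obtain ⟨z, hz, za, zb, hzw⟩ := ih h.1
          rcases hzw with rfl | hzw
          · exact ⟨z, hz, za, zb, Or.inr h.2.2⟩
          by_cases h' : altForm4 z w' ≠ 0
          · exact ⟨z, hz, za, zb, Or.inr h'⟩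
          push Not at h'
          have hd := hcon z hz w (memD.2 h.1.2) hzw
          simp only [hδ, za, zb] at hd
          obtain ⟨m, m1, m2⟩ : ∃ m, altForm4 a w = m * altForm4 a y₀ ∧ altForm4 b w = m * altForm4 b y₀ := by
            rcases eq_or_ne (altForm4 a y₀) 0 with e | e
            · have hb0 := hy₀v.resolve_left (not_not.2 e)
              rw [e, zero_mul, zero_add] at hd
              exact ⟨altForm4 b w / altForm4 b y₀, by rw [(mul_eq_zero.1 hd).resolve_left hb0, e, mul_zero],
                (div_mul_cancel₀ _ hb0).symm⟩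
            · refine ⟨altForm4 a w / altForm4 a y₀, (div_mul_cancel₀ _ e).symm, ?_⟩
              rw [div_mul_eq_mul_div, eq_div_iff e]
              linear_combination hd - (altForm4 b y₀ * altForm4 a w) * (CharTwo.two_eq_zero (R := F))
          rcases eq_or_ne m 0 with rfl | hm
          · rw [zero_mul] at m1 m2
            refine ⟨z + w, by simpa using hpl z hz w (memD.2 h.1.2) hzw 1 1,
              by rw [Symp.add_right isSymp, za, m1, add_zero],
              by rw [Symp.add_right isSymp, zb, m2, add_zero],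
              Or.inr (by rw [Symp.add_left isSymp, h', zero_add]; exact h.2.2)⟩
          · refine ⟨m⁻¹ • w, hsm w (memD.2 h.1.2) _, ?_, ?_,
              Or.inr (by rw [Symp.smul_left isSymp]; exact mul_ne_zero (inv_ne_zero hm) h.2.2)⟩
            · rw [Symp.smul_right isSymp, m1, ← mul_assoc, inv_mul_cancel₀ hm, one_mul]
            · rw [Symp.smul_right isSymp, m2, ← mul_assoc, inv_mul_cancel₀ hm, one_mul]
      have hpar : ∀ w ∈ cent G, δ y₀ w = 0 := by
        intro w hw
        obtain ⟨z, hz, za, zb, hzw | hzw⟩ := key w (S.connected hy₀ hw) hw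
        · subst hzw
          simp only [hδ, za, zb]
          rw [mul_comm (altForm4 b y₀)]
          exact CharTwo.add_self_eq_zero _
        · have := hcon z hz w (memD.2 hw.2) hzw
          simp only [hδ, za, zb] at this ⊢
          exact this
      have h0 : altForm4 a y₀ • b + altForm4 b y₀ • a = 0 := by
        refine eq_zero_of_pair fun y => ?_
        have hy : y ∈ Submodule.span F (cent G) := S.span_cent ▸ Submodule.mem_top
        induction hy using Submodule.span_induction with
        | mem x hx =>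
          rw [Symp.add_left isSymp, Symp.smul_left isSymp, Symp.smul_left isSymp]
          exact hpar x hx
        | zero => exact Symp.zero_right isSymp _
        | add a b _ _ ha hb => rw [Symp.add_right isSymp, ha, hb, add_zero]
        | smul c a _ ha => rw [Symp.smul_right isSymp, ha, mul_zero]
      rw [add_comm] at h0
      exact hli _ _ hy₀v.symm h0
    obtain ⟨m, hm⟩ : ∃ m : F, m ≠ 0 ∧ m ≠ 1 := by
      by_contra h
      push Not at h
      have := Finset.card_le_card (show (Finset.univ : Finset F) ⊆ {0, 1} from fun m _ => by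
        simp only [Finset.mem_insert, Finset.mem_singleton]; tauto)
      rw [Finset.card_univ] at this
      have := this.trans Finset.card_le_two
      omega
    set z := ((altForm4 b y' + m * altForm4 a y') / δ y y') • y +
      ((altForm4 b y + m * altForm4 a y) / δ y y') • y'
    have hz : z ∈ D := hpl y hy y' hy' hyy _ _
    have za : altForm4 a z = 1 := by
      simp only [z, Symp.add_right isSymp, Symp.smul_right isSymp]
      field_simp
      simp only [hδ]
      linear_combination (m * altForm4 a y' * altForm4 a y) * (CharTwo.two_eq_zero (R := F))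
    have zb : altForm4 b z = m := by
      simp only [z, Symp.add_right isSymp, Symp.smul_right isSymp]
      field_simp
      simp only [hδ]
      linear_combination (altForm4 b y' * altForm4 b y) * (CharTwo.two_eq_zero (R := F))
    have h1 : a + z ∈ D := by simpa using hpl a ha z hz (by rw [za]; exact one_ne_zero) 1 1
    have h2 : a + z + b ∈ D := by
      simpa using hpl _ h1 b hb (by rw [Symp.add_left isSymp, hab, zero_add, f4_comm, zb]; exact hm.1) 1 1
    have h3 := hpl _ h2 z hz (by
      rw [Symp.add_left isSymp, Symp.add_left isSymp, (isSymp (F := F)).alternating, za, zb, add_zero]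
      exact fun e => hm.2 (CharTwo.add_eq_zero.1 e).symm) 1 1
    have e : (1 : F) • (a + z + b) + (1 : F) • z = a + b := by
      rw [one_smul, one_smul, add_assoc a, add_comm z b, ← add_assoc a, add_assoc (a + b)]
      rw [show z + z = 0 from funext fun i => CharTwo.add_self_eq_zero _, add_zero]
    rwa [e] at h3
  have hx : x ∈ Submodule.span F (cent G) := S.span_cent ▸ Submodule.mem_top
  refine memD.1 ?_
  induction hx using Submodule.span_induction with
  | mem x hx => exact memD.2 hx.2
  | zero => rw [memD, Tv_zero]; exact G.one_mem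
  | add a b _ _ ha hb => exact hadd a ha b hb
  | smul c a _ ha => exact hsm a ha c

omit [CharP F 2] [Fintype F] in
theorem form_sum (e : Fin 4 → (Fin 4 → F)) (x : Fin 4 → F) :
    (Matrix.of fun i j => e j i) *ᵥ x = x 0 • e 0 + x 1 • e 1 + x 2 • e 2 + x 3 • e 3 := by
  funext i
  simp [mulVec, dotProduct, Fin.sum_univ_four, mul_comm]

/-- A group with two transvections of the same centre: the field, a basis, or everything. -/
theorem Setup.multi_cases (S : Setup G) (h4 : 4 ≤ Fintype.card F) {u₀ : Fin 4 → F} (hu₀ : u₀ ∈ cent G)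
    {c₀ : F} (hc0 : c₀ ≠ 0) (hc1 : c₀ ≠ 1) (hc : Tv (c₀ • u₀) ∈ G) :
    G = Sp4 F ∨ ∃ K : Subfield F, K ≠ ⊤ ∧ ∃ B ∈ Sp4 F, ∀ g ∈ G, ∀ i j,
      ((B⁻¹ * g * B : GL (Fin 4) F) : M4) i j ∈ K := by
  set K := S.coefField hu₀ with hKdef
  haveI : CharP K 2 := K.subtype.charP K.subtype.injective 2
  have hK : 4 ≤ Nat.card K := by
    haveI : Fintype K := Fintype.ofFinite _
    obtain ⟨n, -, hn⟩ := FiniteField.card K 2
    rw [Nat.card_eq_fintype_card, hn]
    have hc₀ : c₀ ∈ K := (S.mem_coefField hu₀ hu₀).2 hc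
    have : 3 ≤ Nat.card K := by
      have h := Nat.card_mono (Set.toFinite (K : Set F))
        (s := ({0, 1, c₀} : Set F)) (by rintro x (rfl | rfl | rfl) <;> first | exact K.zero_mem | exact K.one_mem | exact hc₀)
      rwa [Nat.card_coe_set_eq, Set.ncard_eq_three.2 ⟨0, 1, c₀, zero_ne_one, hc0.symm, hc1.symm, rfl⟩] at h
    rw [Nat.card_eq_fintype_card, hn] at this
    rcases Nat.lt_or_ge (n : ℕ) 2 with h | h
    · rw [show (n : ℕ) = 1 from by have := n.pos; omega] at this; omega
    · calc (4 : ℕ) = 2 ^ 2 := rfl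
        _ ≤ _ := Nat.pow_le_pow_right (by norm_num) h
  by_cases htop : K = ⊤
  · left
    have hall : ∀ x, Tv x ∈ G := S.cent_univ h4 fun u hu c =>
      (S.mem_coefField hu₀ hu).1 (show c ∈ K by rw [htop]; trivial)
    refine le_antisymm S.le fun g hg => Symp.isometry_mem_of_formTv_mem isSymp (fun v c => ?_) hg
    obtain ⟨b, hb⟩ := sqrt_exists c
    have := hall (b • v)
    rwa [Tv, formTv_smul isSymp, mul_one, hb] at this
  right
  refine ⟨K, htop, ?_⟩
  set M := Submodule.span K (cent G) with hM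
  have hval : ∀ x ∈ M, ∀ y ∈ M, altForm4 x y ∈ K := by
    intro x hx y hy
    induction hx using Submodule.span_induction with
    | mem x hx =>
      induction hy using Submodule.span_induction with
      | mem y hy => exact S.value_mem hu₀ hK hx hy
      | zero => rw [Symp.zero_right isSymp]; exact K.zero_mem
      | add a b _ _ ha hb => rw [Symp.add_right isSymp]; exact K.add_mem ha hb
      | smul c a _ ha => rw [Subfield.smul_def, Symp.smul_right isSymp]; exact K.mul_mem c.2 ha
    | zero => rw [Symp.zero_left isSymp]; exact K.zero_mem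
    | add a b _ _ ha hb => rw [Symp.add_left isSymp]; exact K.add_mem ha hb
    | smul c a _ ha => rw [Subfield.smul_def, Symp.smul_left isSymp]; exact K.mul_mem c.2 ha
  have hstab : ∀ g ∈ G, ∀ x ∈ M, (g : M4) *ᵥ x ∈ M := by
    intro g hg x hx
    induction hx using Submodule.span_induction with
    | mem x hx => exact Submodule.subset_span (cent_conj S.le hg hx)
    | zero => rw [mulVec_zero]; exact M.zero_mem
    | add a b _ _ ha hb => rw [mulVec_add]; exact M.add_mem ha hb
    | smul c a _ ha => rw [Subfield.smul_def, mulVec_smul, ← Subfield.smul_def]; exact M.smul_mem _ ha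
  have hsmM : ∀ c ∈ K, ∀ x ∈ M, c • x ∈ M := fun c hc x hx => M.smul_mem ⟨c, hc⟩ hx
  -- a hyperbolic basis of vectors over the subfield
  obtain ⟨w₀, hw₀⟩ := S.exists_adj hu₀
  set e0 := u₀
  set e3 := (altForm4 u₀ w₀)⁻¹ • w₀ with he3
  have h03 : altForm4 e0 e3 = 1 := by rw [he3, Symp.smul_right isSymp, inv_mul_cancel₀ hw₀.2.2]
  have h30 : altForm4 e3 e0 = 1 := (f4_comm _ _).trans h03
  have he0M : e0 ∈ M := Submodule.subset_span hu₀
  have he3M : e3 ∈ M := hsmM _ (K.inv_mem (S.value_mem hu₀ hK hu₀ hw₀.2.1)) _ (Submodule.subset_span hw₀.2.1)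
  set π : (Fin 4 → F) → (Fin 4 → F) := fun x => x + altForm4 x e3 • e0 + altForm4 e0 x • e3 with hπ
  have hπ0 : ∀ x, altForm4 (π x) e0 = 0 := fun x => by
    simp only [hπ, Symp.add_left isSymp, Symp.smul_left isSymp, (isSymp (F := F)).alternating, h30,
      mul_zero, mul_one, add_zero, f4_comm x e0]
    exact CharTwo.add_self_eq_zero _
  have hπ3 : ∀ x, altForm4 (π x) e3 = 0 := fun x => by
    simp only [hπ, Symp.add_left isSymp, Symp.smul_left isSymp, (isSymp (F := F)).alternating, h03,
      mul_zero, mul_one, add_zero]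
    exact CharTwo.add_self_eq_zero _
  have hπM : ∀ x ∈ M, π x ∈ M := fun x hx =>
    M.add_mem (M.add_mem hx (hsmM _ (hval _ hx _ he3M) _ he0M)) (hsmM _ (hval _ he0M _ hx) _ he3M)
  obtain ⟨v₁, hv₁, v₂, hv₂, h12⟩ : ∃ v₁ ∈ cent G, ∃ v₂ ∈ cent G, altForm4 (π v₁) (π v₂) ≠ 0 := by
    by_contra h
    push Not at h
    have hzero : ∀ v ∈ cent G, π v = 0 := by
      intro v hv
      refine eq_zero_of_pair fun y => ?_
      have hy : y ∈ Submodule.span F (cent G) := S.span_cent ▸ Submodule.mem_top
      induction hy using Submodule.span_induction with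
      | mem w hw =>
        have := h v hv w hw
        simp only [hπ, Symp.add_right isSymp, Symp.smul_right isSymp] at this
        rwa [show altForm4 (v + altForm4 v e3 • e0 + altForm4 e0 v • e3) e0 = 0 from hπ0 v,
          show altForm4 (v + altForm4 v e3 • e0 + altForm4 e0 v • e3) e3 = 0 from hπ3 v, mul_zero, mul_zero,
          add_zero, add_zero] at this
      | zero => exact Symp.zero_right isSymp _
      | add a b _ _ ha hb => rw [Symp.add_right isSymp, ha, hb, add_zero]
      | smul c a _ ha => rw [Symp.smul_right isSymp, ha, mul_zero]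
    have hle : Submodule.span F (cent G) ≤ Submodule.span F (Set.range ![e0, e3]) := by
      refine Submodule.span_le.2 fun v hv => ?_
      have e := hzero v hv
      simp only [hπ, add_assoc] at e
      rw [SetLike.mem_coe, CharTwo.add_eq_zero.1 e]
      exact Submodule.add_mem _ (Submodule.smul_mem _ _ (Submodule.subset_span ⟨0, rfl⟩))
        (Submodule.smul_mem _ _ (Submodule.subset_span ⟨1, rfl⟩))
    have h1 := (Submodule.finrank_mono hle).trans (finrank_range_le_card ![e0, e3])
    rw [S.span_cent, finrank_top, Module.finrank_pi, Fintype.card_fin, Fintype.card_fin] at h1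
    omega
  set e1 := π v₁
  set e2 := (altForm4 (π v₁) (π v₂))⁻¹ • π v₂ with he2
  have he1M : e1 ∈ M := hπM _ (Submodule.subset_span hv₁)
  have he2M : e2 ∈ M := hsmM _ (K.inv_mem (hval _ he1M _ (hπM _ (Submodule.subset_span hv₂)))) _
    (hπM _ (Submodule.subset_span hv₂))
  have h12' : altForm4 e1 e2 = 1 := by rw [he2, Symp.smul_right isSymp, inv_mul_cancel₀ h12]
  have h20 : altForm4 e2 e0 = 0 := by rw [he2, Symp.smul_left isSymp, hπ0, mul_zero]
  have h23 : altForm4 e2 e3 = 0 := by rw [he2, Symp.smul_left isSymp, hπ3, mul_zero]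
  set e : Fin 4 → (Fin 4 → F) := ![e0, e1, e2, e3] with he
  have heM : ∀ i, e i ∈ M := by intro i; fin_cases i <;> assumption
  have hform : ∀ i j, altForm4 (e i) (e j) = if j = i.rev then 1 else 0 := by
    intro i j
    fin_cases i <;> fin_cases j <;>
      simp [he, Fin.rev, (isSymp (F := F)).alternating, h03, h30, h12', (f4_comm e2 e1).trans h12',
        (f4_comm e0 e2).trans h20, h20, (f4_comm e3 e2).trans h23, h23, hπ0, hπ3, e1,
        (f4_comm e0 (π v₁)).trans (hπ0 v₁), (f4_comm e3 (π v₁)).trans (hπ3 v₁)]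
  have hC : ∀ i x, ((Matrix.of fun i k => e i.rev k.rev : M4) *ᵥ x) i = altForm4 x (e i.rev) := by
    intro i x
    simp [mulVec, dotProduct, Fin.sum_univ_four, altForm4, Fin.rev]
    ring
  have hCB : (Matrix.of fun i k => e i.rev k.rev : M4) * (Matrix.of fun i j => e j i) = 1 := by
    refine Matrix.ext_of_mulVec_single fun j => funext fun i => ?_
    rw [← mulVec_mulVec, hC, one_mulVec, mulVec_single_one,
      show (Matrix.of fun i j => e j i : M4).col j = e j from funext fun _ => rfl, hform]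
    simp [Pi.single_apply, eq_comm]
  let B : GL (Fin 4) F := ⟨Matrix.of fun i j => e j i, Matrix.of fun i k => e i.rev k.rev,
    mul_eq_one_comm.1 hCB, hCB⟩
  refine ⟨B, fun x y => ?_, fun g hg i j => ?_⟩
  · simp only [Units.coeHom_apply, B, form_sum, Symp.add_left isSymp, Symp.add_right isSymp,
      Symp.smul_left isSymp, Symp.smul_right isSymp, hform]
    simp [altForm4, Fin.rev]
  · rw [show ((B⁻¹ * g * B : GL (Fin 4) F) : M4) i j =
        ((Matrix.of fun i k => e i.rev k.rev : M4) *ᵥ ((g : M4) *ᵥ e j)) i by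
      rw [show ((B⁻¹ * g * B : GL (Fin 4) F) : M4) = (Matrix.of fun i k => e i.rev k.rev : M4) * (g : M4) *
        (Matrix.of fun i j => e j i) from rfl, Matrix.mul_assoc]
      rfl, hC]
    exact hval _ (hstab g hg _ (heM j)) _ (heM _)

end CfsgLib.Sp4Resid
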