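import Cfsg.Agent.Lib.Sp4Resid.Connect
import Cfsg.Agent.Lib.Transfer.Basic
import Cfsg.Agent.S0215

/-!
A simple group whose transvections have distinct centres has none: a transfer through a Sylow group, valued
by the quadratic functional which is one on the centres lying in an invariant Lagrangian plane.
-/

set_option autoImplicit false

open scoped MatrixGroups Matrix

namespace CfsgLib.Sp4Resid

open Matrix Cfsg.Lie CfsgLib.SuzukiGroup CfsgLib.GeomClasses CfsgLib.GeomClasses.Symp Module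

variable {F : Type*} [Field F] [CharP F 2]

local notation "M4" => Matrix (Fin 4) (Fin 4) F
local notation "f4" => (altForm4 : (Fin 4 → F) → (Fin 4 → F) → F)
local notation "V4" => Fin 4 → F

omit [CharP F 2] in
theorem rows_sum (e : Fin 4 → V4) (x : V4) :
    (Matrix.of fun i j => e j i) *ᵥ x = x 0 • e 0 + x 1 • e 1 + x 2 • e 2 + x 3 • e 3 := by
  funext i
  simp [mulVec, dotProduct, Fin.sum_univ_four, mul_comm]

theorem isometry_iff (g : GL (Fin 4) F) (x y : V4) (h : g ∈ Sp4 F) :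
    altForm4 ((g : M4) *ᵥ x) ((g : M4) *ᵥ y) = altForm4 x y := by
  have := h x y
  simpa only [Units.coeHom_apply] using this

theorem exists_frame {p r r' p' : V4} (h1 : altForm4 p r = 0) (h2 : altForm4 p r' = 0) (h3 : altForm4 p p' = 1)
    (h4 : altForm4 r r' = 1) (h5 : altForm4 r p' = 0) (h6 : altForm4 r' p' = 0) :
    ∃ B ∈ Sp4 F, ∀ x : V4, ((B : GL (Fin 4) F) : M4) *ᵥ x = x 0 • p + x 1 • r + x 2 • r' + x 3 • p' := by
  set e : Fin 4 → V4 := ![p, r, r', p'] with he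
  have hform : ∀ i j, altForm4 (e i) (e j) = if j = i.rev then 1 else 0 := by
    intro i j
    fin_cases i <;> fin_cases j <;>
      simp [he, Fin.rev, (isSymp (F := F)).alternating, h1, h2, h3, h4, h5, h6, (f4_comm r p).trans h1,
        (f4_comm r' p).trans h2, (f4_comm p' p).trans h3, (f4_comm r' r).trans h4, (f4_comm p' r).trans h5,
        (f4_comm p' r').trans h6]
  have hC : ∀ i x, ((Matrix.of fun i k => e i.rev k.rev : M4) *ᵥ x) i = altForm4 x (e i.rev) := by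
    intro i x
    simp [mulVec, dotProduct, Fin.sum_univ_four, altForm4, Fin.rev]
    ring
  have hCB : (Matrix.of fun i k => e i.rev k.rev : M4) * (Matrix.of fun i j => e j i) = 1 := by
    refine Matrix.ext_of_mulVec_single fun j => funext fun i => ?_
    rw [← mulVec_mulVec, hC, one_mulVec, mulVec_single_one,
      show (Matrix.of fun i j => e j i : M4).col j = e j from funext fun _ => rfl, hform]
    simp [Pi.single_apply, eq_comm]
  let B : GL (Fin 4) F := ⟨Matrix.of fun i j => e j i, Matrix.of fun i k => e i.rev k.rev,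
    mul_eq_one_comm.1 hCB, hCB⟩
  refine ⟨B, fun x y => ?_, fun x => ?_⟩
  · simp only [Units.coeHom_apply, B, rows_sum, Symp.add_left isSymp, Symp.add_right isSymp,
      Symp.smul_left isSymp, Symp.smul_right isSymp, hform]
    simp [altForm4, Fin.rev]
  · simp only [B, rows_sum]
    rfl

/-! ### The functional on the stabiliser of the standard Lagrangian plane -/

/-- A binary quadratic form. -/
def bq (α β γ a b : F) : F := α * a * a + β * a * b + γ * b * b

/-- The translation part paired with a quadratic form. -/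
def chiM (α β γ : F) (g : M4) : F :=
  α * (g 0 3 * g 0 0 + g 0 2 * g 0 1) + β * (g 0 3 * g 1 0 + g 0 2 * g 1 1) +
    γ * (g 1 3 * g 1 0 + g 1 2 * g 1 1)

theorem chiM_mul {α β γ : F} {g h : GL (Fin 4) F} (hh : h ∈ Sp4 F)
    (g20 : (g : M4) 2 0 = 0) (g21 : (g : M4) 2 1 = 0) (g30 : (g : M4) 3 0 = 0) (g31 : (g : M4) 3 1 = 0)
    (h20 : (h : M4) 2 0 = 0) (h21 : (h : M4) 2 1 = 0) (h30 : (h : M4) 3 0 = 0) (h31 : (h : M4) 3 1 = 0)
    (hq : ∀ a b, bq α β γ ((g : M4) 0 0 * a + (g : M4) 0 1 * b) ((g : M4) 1 0 * a + (g : M4) 1 1 * b) =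
      bq α β γ a b) :
    chiM α β γ ((g * h : GL (Fin 4) F) : M4) = chiM α β γ (g : M4) + chiM α β γ (h : M4) := by
  have r01 := Suzuki.sp4_rows hh 0 1
  have r20 := Suzuki.sp4_rows hh 2 0
  have r21 := Suzuki.sp4_rows hh 2 1
  have r30 := Suzuki.sp4_rows hh 3 0
  have r31 := Suzuki.sp4_rows hh 3 1
  simp [Suzuki.szJ, h20, h21, h30, h31] at r01 r20 r21 r30 r31
  have key : ∀ i j : Fin 4, (j = 0 ∨ j = 1) →
      ((g : M4) * (h : M4)) i 3 * ((g : M4) * (h : M4)) j 0 + ((g : M4) * (h : M4)) i 2 * ((g : M4) * (h : M4)) j 1 =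
      (g : M4) i 0 * (g : M4) j 0 * ((h : M4) 0 3 * (h : M4) 0 0 + (h : M4) 0 2 * (h : M4) 0 1) +
        ((g : M4) i 0 * (g : M4) j 1 + (g : M4) i 1 * (g : M4) j 0) *
          ((h : M4) 0 3 * (h : M4) 1 0 + (h : M4) 0 2 * (h : M4) 1 1) +
        (g : M4) i 1 * (g : M4) j 1 * ((h : M4) 1 3 * (h : M4) 1 0 + (h : M4) 1 2 * (h : M4) 1 1) +
        ((g : M4) i 3 * (g : M4) j 0 + (g : M4) i 2 * (g : M4) j 1) := by
    intro i j hj
    have z2 : (g : M4) 2 0 = 0 ∧ (g : M4) 2 1 = 0 := ⟨g20, g21⟩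
    simp only [Matrix.mul_apply, Fin.sum_univ_four, h20, h21, h30, h31, mul_zero, add_zero]
    grind
  have k00 := key 0 0 (Or.inl rfl)
  have k01 := key 0 1 (Or.inr rfl)
  have k11 := key 1 1 (Or.inr rfl)
  have hα := hq 1 0
  have hγ := hq 0 1
  have hβ := hq 1 1
  simp only [bq, mul_one, mul_zero, add_zero, zero_add] at hα hγ hβ
  simp only [chiM, Units.val_mul]
  rw [k00, k01, k11]
  clear k00 k01 k11 key r01 r20 r21 r30 r31
  grind

theorem chiM_Tv (α β γ : F) {c : V4} (h2 : c 2 = 0) (h3 : c 3 = 0) :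
    chiM α β γ (Tv c : M4) = bq α β γ (c 0) (c 1) := by
  rw [Tv, formTv_coe]
  simp [chiM, bq, Fin.rev, h2, h3, Matrix.one_apply]
  ring

theorem bq_interp {a₁ b₁ a₂ b₂ a₃ b₃ : F} (h12 : a₁ * b₂ + a₂ * b₁ ≠ 0) (h13 : a₁ * b₃ + a₃ * b₁ ≠ 0)
    (h23 : a₂ * b₃ + a₃ * b₂ ≠ 0) (v₁ v₂ v₃ : F) :
    ∃ α β γ : F, bq α β γ a₁ b₁ = v₁ ∧ bq α β γ a₂ b₂ = v₂ ∧ bq α β γ a₃ b₃ = v₃ := by
  set d12 := a₁ * b₂ + a₂ * b₁ with e12
  set d13 := a₁ * b₃ + a₃ * b₁ with e13
  set d23 := a₂ * b₃ + a₃ * b₂ with e23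
  set D := d12 * d13 * d23
  have hD : D ≠ 0 := mul_ne_zero (mul_ne_zero h12 h13) h23
  refine ⟨(v₁ * b₂ * b₃ * d23 + v₂ * b₁ * b₃ * d13 + v₃ * b₁ * b₂ * d12) / D,
    (v₁ * (a₂ * b₃ + a₃ * b₂) * d23 + v₂ * (a₁ * b₃ + a₃ * b₁) * d13 + v₃ * (a₁ * b₂ + a₂ * b₁) * d12) / D,
    (v₁ * a₂ * a₃ * d23 + v₂ * a₁ * a₃ * d13 + v₃ * a₁ * a₂ * d12) / D, ?_, ?_, ?_⟩ <;>
  · simp only [bq]
    field_simp
    grind

theorem bq_unique {a₁ b₁ a₂ b₂ a₃ b₃ : F} (h12 : a₁ * b₂ + a₂ * b₁ ≠ 0) (h13 : a₁ * b₃ + a₃ * b₁ ≠ 0)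
    (h23 : a₂ * b₃ + a₃ * b₂ ≠ 0) {α β γ : F} (e1 : bq α β γ a₁ b₁ = 0) (e2 : bq α β γ a₂ b₂ = 0)
    (e3 : bq α β γ a₃ b₃ = 0) : α = 0 ∧ β = 0 ∧ γ = 0 := by
  simp only [bq] at e1 e2 e3
  have hD : (a₁ * b₂ + a₂ * b₁) * (a₁ * b₃ + a₃ * b₁) * (a₂ * b₃ + a₃ * b₂) ≠ 0 :=
    mul_ne_zero (mul_ne_zero h12 h13) h23
  refine ⟨(mul_eq_zero.1 ?_).resolve_right hD, (mul_eq_zero.1 ?_).resolve_right hD,
    (mul_eq_zero.1 ?_).resolve_right hD⟩ <;> grind

/-! ### Fixed vectors of two-groups -/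

variable [Finite F] {G : Subgroup (GL (Fin 4) F)}

theorem exists_fix (hG : G ≤ Sp4 F) (P : Sylow 2 ↥G) :
    ∃ p : V4, p ≠ 0 ∧ ∀ g ∈ (P : Subgroup ↥G), ((g : GL (Fin 4) F) : M4) *ᵥ p = p := by
  haveI := Fact.mk Nat.prime_two
  haveI : Fintype F := Fintype.ofFinite F
  letI : MulAction (P : Subgroup ↥G) V4 :=
    { smul := fun g x => (((g : ↥G) : GL (Fin 4) F) : M4) *ᵥ x
      one_smul := fun x => by show (1 : M4) *ᵥ x = x; rw [one_mulVec]
      mul_smul := fun g h x => gl_mul_mulVec _ _ x }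
  have h0 : (0 : V4) ∈ MulAction.fixedPoints (P : Subgroup ↥G) V4 := fun g => mulVec_zero _
  have hdvd : 2 ∣ Nat.card V4 := by
    obtain ⟨n, -, hn⟩ := FiniteField.card F 2
    rw [Nat.card_fun, Nat.card_fin, Nat.card_eq_fintype_card, hn, ← pow_mul]
    exact dvd_pow_self 2 (by have := n.pos; omega)
  obtain ⟨p, hp, hne⟩ := P.isPGroup'.exists_fixed_point_of_prime_dvd_card_of_fixed_point V4 hdvd h0
  exact ⟨p, hne.symm, fun g hg => hp ⟨g, hg⟩⟩

theorem exists_fix_mod (hG : G ≤ Sp4 F) (P : Sylow 2 ↥G) {p p' : V4} (hpp : altForm4 p p' = 1)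
    (hp : ∀ g ∈ (P : Subgroup ↥G), ((g : GL (Fin 4) F) : M4) *ᵥ p = p) :
    ∃ r : V4, r ≠ 0 ∧ altForm4 r p = 0 ∧ altForm4 r p' = 0 ∧
      ∀ g ∈ (P : Subgroup ↥G), ∃ c : F, ((g : GL (Fin 4) F) : M4) *ᵥ r = r + c • p := by
  haveI := Fact.mk Nat.prime_two
  haveI : Fintype F := Fintype.ofFinite F
  set B := Symp.bil (isSymp (F := F))
  let W : Submodule F V4 := LinearMap.ker ((B.flip p).prod (B.flip p'))
  have memW : ∀ {x : V4}, x ∈ W ↔ altForm4 x p = 0 ∧ altForm4 x p' = 0 := fun {x} =>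
    LinearMap.mem_ker.trans (Prod.ext_iff)
  have hmv : ∀ g ∈ (P : Subgroup ↥G), ∀ x ∈ W,
      ((g : GL (Fin 4) F) : M4) *ᵥ x + altForm4 (((g : GL (Fin 4) F) : M4) *ᵥ x) p' • p ∈ W := by
    intro g hg x hx
    refine memW.2 ⟨?_, ?_⟩
    · rw [Symp.add_left isSymp, Symp.smul_left isSymp, (isSymp (F := F)).alternating, mul_zero, add_zero]
      conv_lhs => rw [← hp g hg]
      rw [isometry_iff _ _ _ (hG g.2), (memW.1 hx).1]
    · rw [Symp.add_left isSymp, Symp.smul_left isSymp, hpp, mul_one]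
      exact CharTwo.add_self_eq_zero _
  letI : MulAction (P : Subgroup ↥G) W :=
    { smul := fun g x => ⟨_, hmv g g.2 x x.2⟩
      one_smul := fun x => Subtype.ext (by
        show (1 : M4) *ᵥ (x : V4) + altForm4 ((1 : M4) *ᵥ (x : V4)) p' • p = x
        rw [one_mulVec, (memW.1 x.2).2, zero_smul, add_zero])
      mul_smul := fun g h x => Subtype.ext (by
        show (((g * h : ↥(P : Subgroup ↥G)) : ↥G) : GL (Fin 4) F).val *ᵥ (x : V4) + _ • p = _
        rw [show (((g * h : ↥(P : Subgroup ↥G)) : ↥G) : GL (Fin 4) F).val *ᵥ (x : V4) =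
          ((g : ↥G) : GL (Fin 4) F).val *ᵥ (((h : ↥G) : GL (Fin 4) F).val *ᵥ (x : V4)) from gl_mul_mulVec _ _ _]
        show _ = ((g : ↥G) : GL (Fin 4) F).val *ᵥ
            (((h : ↥G) : GL (Fin 4) F).val *ᵥ (x : V4) + altForm4 (((h : ↥G) : GL (Fin 4) F).val *ᵥ (x : V4)) p' • p) +
          altForm4 (((g : ↥G) : GL (Fin 4) F).val *ᵥ
            (((h : ↥G) : GL (Fin 4) F).val *ᵥ (x : V4) +
              altForm4 (((h : ↥G) : GL (Fin 4) F).val *ᵥ (x : V4)) p' • p)) p' • p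
        rw [mulVec_add, mulVec_smul, hp g g.2, Symp.add_left isSymp, Symp.smul_left isSymp, hpp, mul_one, add_smul,
          add_add_add_comm, ← add_smul, CharTwo.add_self_eq_zero, zero_smul, add_zero]) }
  have h0 : (0 : W) ∈ MulAction.fixedPoints (P : Subgroup ↥G) W := fun g => Subtype.ext (by
    show _ *ᵥ (0 : V4) + altForm4 (_ *ᵥ (0 : V4)) p' • p = 0
    rw [mulVec_zero, Symp.zero_left isSymp, zero_smul, add_zero])
  have hdvd : 2 ∣ Nat.card W := by
    have h2 : 2 ≤ finrank F W := by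
      have h := LinearMap.finrank_range_add_finrank_ker ((B.flip p).prod (B.flip p'))
      rw [Module.finrank_pi, Fintype.card_fin] at h
      have h' := Submodule.finrank_le (LinearMap.range ((B.flip p).prod (B.flip p')))
      rw [Module.finrank_prod, Module.finrank_self] at h'
      show 2 ≤ finrank F (LinearMap.ker ((B.flip p).prod (B.flip p')))
      omega
    obtain ⟨n, -, hn⟩ := FiniteField.card F 2
    rw [Module.natCard_eq_pow_finrank (K := F), Nat.card_eq_fintype_card, hn, ← pow_mul]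
    exact dvd_pow_self 2 (Nat.mul_pos n.pos (by omega)).ne'
  obtain ⟨r, hr, hne⟩ := P.isPGroup'.exists_fixed_point_of_prime_dvd_card_of_fixed_point W hdvd h0
  refine ⟨r, fun e => hne (Subtype.ext e).symm, (memW.1 r.2).1, (memW.1 r.2).2, fun g hg => ?_⟩
  refine ⟨altForm4 (((g : GL (Fin 4) F) : M4) *ᵥ (r : V4)) p', ?_⟩
  have e : ((g : GL (Fin 4) F) : M4) *ᵥ (r : V4) + altForm4 (((g : GL (Fin 4) F) : M4) *ᵥ (r : V4)) p' • p = r :=
    congrArg Subtype.val (hr ⟨g, hg⟩)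
  have e' := congrArg (fun v : V4 => v + altForm4 (((g : GL (Fin 4) F) : M4) *ᵥ (r : V4)) p' • p) e
  rwa [add_assoc, ← add_smul, CharTwo.add_self_eq_zero, zero_smul, add_zero] at e'

/-- The setting of distinct centres with a Lagrangian plane, given by a basis. -/
structure Plane2 (G : Subgroup (GL (Fin 4) F)) (p r : V4) : Prop where
  set : Setup G
  single : ∀ u ∈ cent G, ∀ c : F, c • u ∈ cent G → c = 1
  iso : altForm4 p r = 0
  dual : ∀ z, altForm4 z p = 0 → altForm4 z r = 0 → ∃ a b : F, z = a • p + b • r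

/-- Membership of the plane. -/
def InL (p r z : V4) : Prop := ∃ a b : F, z = a • p + b • r

omit [Finite F] in
theorem InL.orth {p r : V4} (h : altForm4 p r = 0) {z z' : V4} (hz : InL p r z) (hz' : InL p r z') :
    altForm4 z z' = 0 := by
  obtain ⟨a, b, rfl⟩ := hz
  obtain ⟨c, d, rfl⟩ := hz'
  simp only [Symp.add_left isSymp, Symp.smul_left isSymp, Symp.add_right isSymp, Symp.smul_right isSymp,
    (isSymp (F := F)).alternating, h, (f4_comm r p).trans h, mul_zero, add_zero]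

omit [Finite F] in
theorem InL.comb {p r : V4} {z z' : V4} (hz : InL p r z) (hz' : InL p r z') (s t : F) :
    InL p r (s • z + t • z') := by
  obtain ⟨a, b, rfl⟩ := hz
  obtain ⟨c, d, rfl⟩ := hz'
  exact ⟨s * a + t * c, s * b + t * d, by module⟩

/-- Two vectors of the group in the plane, not proportional, span it. -/
theorem Plane2.span_two {p r : V4} (S : Plane2 G p r) {z z' v : V4} (hz : z ∈ cent G) (hz' : z' ∈ cent G) (hne : z ≠ z')
    (hzL : InL p r z) (hz'L : InL p r z') (hv : InL p r v) : ∃ s t : F, v = s • z + t • z' := by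
  obtain ⟨a, b, rfl⟩ := hzL
  obtain ⟨c, d, rfl⟩ := hz'L
  obtain ⟨x, y, rfl⟩ := hv
  have hd : a * d + b * c ≠ 0 := by
    intro e
    obtain ⟨k, hk⟩ : ∃ k : F, c • p + d • r = k • (a • p + b • r) := by
      by_cases ha : a = 0
      · have hb : b ≠ 0 := fun hb => hz.1 (by rw [ha, hb, zero_smul, zero_smul, add_zero])
        rw [ha, zero_mul, zero_add] at e
        refine ⟨d / b, ?_⟩
        rw [ha, (mul_eq_zero.1 e).resolve_left hb]
        simp [smul_smul, div_mul_cancel₀ _ hb]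
      · refine ⟨c / a, ?_⟩
        rw [smul_add, smul_smul, smul_smul, div_mul_cancel₀ _ ha]
        congr 2
        field_simp
        linear_combination e - (b * c) * (CharTwo.two_eq_zero (R := F))
    have := S.single _ hz k (hk ▸ hz')
    rw [this, one_smul] at hk
    exact hne hk.symm
  refine ⟨(x * d + y * c) / (a * d + b * c), (a * y + b * x) / (a * d + b * c), ?_⟩
  match_scalars
  · field_simp
    grind
  · field_simp
    grind

theorem Plane2.eq_of_perp {p r : V4} (S : Plane2 G p r) {x z z' : V4} (hxL : ¬ InL p r x) (hz : z ∈ cent G)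
    (hz' : z' ∈ cent G) (hzL : InL p r z) (hz'L : InL p r z') (e : altForm4 z x = 0) (e' : altForm4 z' x = 0) :
    z = z' := by
  by_contra hne
  refine hxL (S.dual x ?_ ?_)
  · obtain ⟨s, t, h⟩ := S.span_two hz hz' hne hzL hz'L (show InL p r p from ⟨1, 0, by simp⟩)
    rw [f4_comm, h, Symp.add_left isSymp, Symp.smul_left isSymp, Symp.smul_left isSymp, e, e', mul_zero,
      mul_zero, add_zero]
  · obtain ⟨s, t, h⟩ := S.span_two hz hz' hne hzL hz'L (show InL p r r from ⟨0, 1, by simp⟩)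
    rw [f4_comm, h, Symp.add_left isSymp, Symp.smul_left isSymp, Symp.smul_left isSymp, e, e', mul_zero,
      mul_zero, add_zero]

/-- Two centres with different values at an outside centre give a centre orthogonal to it. -/
theorem Plane2.mid_mem {p r : V4} (S : Plane2 G p r) {x z₁ z₂ : V4} (hx : x ∈ cent G) (hz₁ : z₁ ∈ cent G)
    (hz₂ : z₂ ∈ cent G) (hL₁ : InL p r z₁) (hL₂ : InL p r z₂) (h1 : altForm4 z₁ x ≠ 0)
    (h2 : altForm4 z₂ x ≠ 0) (hne : altForm4 z₁ x ≠ altForm4 z₂ x) :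
    (altForm4 z₁ x + altForm4 z₂ x)⁻¹ • (altForm4 z₁ x • z₂ + altForm4 z₂ x • z₁) ∈ cent G := by
  haveI : Fintype F := Fintype.ofFinite F
  set a₁ := altForm4 z₁ x with ha₁
  set a₂ := altForm4 z₂ x with ha₂
  have hs : a₁ + a₂ ≠ 0 := fun e => hne (CharTwo.add_eq_zero.1 e)
  set w := (a₁ + a₂)⁻¹ • (a₁ • z₂ + a₂ • z₁) with hw
  set s := a₂ / a₁ with hsdef
  set u₀ := z₁ + w with hu₀
  have hwL : InL p r w := by
    rw [hw, smul_add, smul_smul, smul_smul]; exact hL₂.comb hL₁ _ _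
  have hu₀L : InL p r u₀ := by simpa using hL₁.comb hwL 1 1
  have hwx : altForm4 w x = 0 := by
    rw [hw, Symp.smul_left isSymp, Symp.add_left isSymp, Symp.smul_left isSymp, Symp.smul_left isSymp,
      ← ha₁, ← ha₂, mul_comm a₂, CharTwo.add_self_eq_zero, mul_zero]
  obtain ⟨g₁, hg₁, e₁, f₁⟩ := cent_exists_conj hz₁ hx h1
  obtain ⟨g₂, hg₂, e₂, f₂⟩ := cent_exists_conj hz₂ hx h2
  set h := g₂⁻¹ * g₁ with hh
  have hhG : h ∈ G := G.mul_mem (G.inv_mem hg₂) hg₁
  have hhw : (h : M4) *ᵥ w = w := by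
    rw [hh, gl_mul_mulVec, f₁ w (InL.orth S.iso hwL hL₁) hwx]
    exact (inv_mem f₂ : g₂⁻¹ ∈ fixPerp z₂ x) w (InL.orth S.iso hwL hL₂) hwx
  have hhz : (h : M4) *ᵥ z₁ = z₂ := by rw [hh, gl_mul_mulVec, e₁, ← e₂, gl_inv_mulVec_mulVec]
  have hhu : (h : M4) *ᵥ u₀ = s • u₀ := by
    rw [hu₀, mulVec_add, hhz, hhw, hw, hsdef]
    match_scalars
    · field_simp
      grind
    · field_simp
      grind
  -- the orbit
  set c : ℕ → V4 := fun i => s ^ i • u₀ + w with hc
  have hcL : ∀ i, InL p r (c i) := fun i => by simpa [hc] using hu₀L.comb hwL (s ^ i) 1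
  have hcG : ∀ i, Tv (c i) ∈ G := by
    intro i
    induction i with
    | zero =>
      simp only [hc, pow_zero, one_smul, hu₀]
      rw [add_assoc, show w + w = 0 from funext fun j => CharTwo.add_self_eq_zero _, add_zero]
      exact hz₁.2
    | succ i ih =>
      have h' := G.mul_mem (G.mul_mem hhG ih) (G.inv_mem hhG)
      rw [Tv_conj (S.set.le hhG)] at h'
      rwa [show (h : M4) *ᵥ c i = c (i + 1) by
        simp only [hc]
        rw [mulVec_add, mulVec_smul, hhu, hhw, smul_smul, pow_succ]] at h'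
  have hprod : ∀ n : ℕ, ∃ T ∈ G, ∀ y : V4, (T : M4) *ᵥ y = y + (∑ i ∈ Finset.range n, altForm4 y (c i) • c i) := by
    intro n
    induction n with
    | zero => exact ⟨1, G.one_mem, fun y => by simp⟩
    | succ n ih =>
      obtain ⟨T, hT, hTv⟩ := ih
      refine ⟨Tv (c n) * T, G.mul_mem (hcG n) hT, fun y => ?_⟩
      rw [gl_mul_mulVec, hTv, Tv_mulVec, Finset.sum_range_succ, Symp.add_left isSymp]
      have h0 : altForm4 (∑ i ∈ Finset.range n, altForm4 y (c i) • c i) (c n) = 0 := by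
        refine Finset.sum_induction _ (fun v => altForm4 v (c n) = 0)
          (fun a b ha hb => by rw [Symp.add_left isSymp, ha, hb, add_zero]) (Symp.zero_left isSymp _)
          (fun i _ => by rw [Symp.smul_left isSymp, InL.orth S.iso (hcL i) (hcL n), mul_zero])
      rw [h0, add_zero, add_assoc]
  obtain ⟨n, -, hn⟩ := FiniteField.card F 2
  set k := Fintype.card F - 1 with hk
  have hk1 : ((k : ℕ) : F) = 1 := by
    have e : ((k + 1 : ℕ) : F) = 0 := by
      rw [hk, Nat.sub_add_cancel Fintype.card_pos]; exact FiniteField.cast_card_eq_zero F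
    rw [Nat.cast_add, Nat.cast_one] at e
    exact CharTwo.add_eq_zero.1 e
  have hsum : ∀ t : F, t ≠ 0 → t ≠ 1 → ∑ i ∈ Finset.range k, t ^ i = 0 := by
    intro t ht0 ht1
    have e := geom_sum_mul t k
    rw [hk, FiniteField.pow_card_sub_one_eq_one t ht0, sub_self] at e
    exact (mul_eq_zero.1 e).resolve_right (sub_ne_zero.2 ht1)
  have hs0 : s ≠ 0 := div_ne_zero h2 h1
  have hs1 : s ≠ 1 := fun e => hne ((div_eq_one_iff_eq h1).1 e).symm
  have hss1 : s * s ≠ 1 := fun e => hs1 (CharTwo.sq_injective (show s ^ 2 = 1 ^ 2 by rw [sq, e, one_pow]))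
  obtain ⟨T, hT, hTv⟩ := hprod k
  have hTw : T = Tv w := gl_ext fun y => by
    rw [hTv, Tv_mulVec]
    congr 1
    simp only [hc, Symp.add_right isSymp, Symp.smul_right isSymp, smul_add, add_smul, smul_smul]
    simp only [Finset.sum_add_distrib, ← Finset.sum_smul]
    have t1 : ∑ i ∈ Finset.range k, s ^ i * altForm4 y u₀ * s ^ i = 0 := by
      rw [Finset.sum_congr rfl (fun i _ => show s ^ i * altForm4 y u₀ * s ^ i = (s * s) ^ i * altForm4 y u₀ by
        rw [mul_pow]; ring), ← Finset.sum_mul, hsum _ (mul_ne_zero hs0 hs0) hss1, zero_mul]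
    have t2 : ∑ i ∈ Finset.range k, altForm4 y w * s ^ i = 0 := by
      rw [← Finset.mul_sum, hsum _ hs0 hs1, mul_zero]
    have t3 : ∑ i ∈ Finset.range k, s ^ i * altForm4 y u₀ = 0 := by
      rw [← Finset.sum_mul, hsum _ hs0 hs1, zero_mul]
    rw [Finset.sum_congr rfl (fun i _ => add_mul (s ^ i * altForm4 y u₀) (altForm4 y w) (s ^ i)),
      Finset.sum_add_distrib, t1, t2, t3, Finset.sum_const, Finset.card_range, nsmul_eq_mul, hk1, one_mul,
      add_zero, zero_smul, zero_smul, zero_add, zero_add]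
  refine ⟨fun e => ?_, hTw ▸ hT⟩
  have h4 : a₁ • z₂ + a₂ • z₁ = 0 := (smul_eq_zero.1 e).resolve_left (inv_ne_zero hs)
  have h5 : s • z₁ = z₂ := by
    have := congrArg (fun v => a₁⁻¹ • v) h4
    simp only [smul_add, smul_smul, inv_mul_cancel₀ h1, one_smul, smul_zero] at this
    rw [hsdef, div_eq_inv_mul]
    exact (sub_eq_zero.1 (by rw [← this]; funext i; simp [CharTwo.sub_eq_add, add_comm]))
  exact hs1 (S.single _ hz₁ _ (h5 ▸ hz₂))

/-- The centres in the plane not orthogonal to an outside centre lie on an affine line. -/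
theorem Plane2.exists_line {p r : V4} (S : Plane2 G p r) {x : V4} (hx : x ∈ cent G) (hxL : ¬ InL p r x) :
    ∃ t : V4, ∀ z ∈ cent G, InL p r z → altForm4 z x ≠ 0 → altForm4 z t = 1 := by
  by_cases hex : ∃ z₁ ∈ cent G, InL p r z₁ ∧ altForm4 z₁ x ≠ 0
  swap
  · exact ⟨0, fun z hz hzL h => absurd ⟨z, hz, hzL, h⟩ hex⟩
  obtain ⟨z₁, hz₁, hL₁, h1⟩ := hex
  by_cases hall : ∀ z ∈ cent G, InL p r z → altForm4 z x ≠ 0 → altForm4 z x = altForm4 z₁ x
  · exact ⟨(altForm4 z₁ x)⁻¹ • x, fun z hz hzL h => by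
      rw [Symp.smul_right isSymp, hall z hz hzL h, inv_mul_cancel₀ h1]⟩
  push Not at hall
  obtain ⟨z₂, hz₂, hL₂, h2, h12⟩ := hall
  have hperp : ∀ z z' : V4,
      altForm4 ((altForm4 z x + altForm4 z' x)⁻¹ • (altForm4 z x • z' + altForm4 z' x • z)) x = 0 := by
    intro z z'
    rw [Symp.smul_left isSymp, Symp.add_left isSymp, Symp.smul_left isSymp, Symp.smul_left isSymp,
      mul_comm (altForm4 z' x), CharTwo.add_self_eq_zero, mul_zero]
  have hLw : ∀ z z' : V4, InL p r z → InL p r z' →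
      InL p r ((altForm4 z x + altForm4 z' x)⁻¹ • (altForm4 z x • z' + altForm4 z' x • z)) := by
    intro z z' h h'
    rw [smul_add, smul_smul, smul_smul]; exact h'.comb h _ _
  obtain ⟨w, hwdef⟩ : ∃ w, w =
      (altForm4 z₁ x + altForm4 z₂ x)⁻¹ • (altForm4 z₁ x • z₂ + altForm4 z₂ x • z₁) := ⟨_, rfl⟩
  have hw : w ∈ cent G := hwdef ▸ S.mid_mem hx hz₁ hz₂ hL₁ hL₂ h1 h2 h12.symm
  have hwx : altForm4 w x = 0 := hwdef ▸ hperp _ _
  have hwL : InL p r w := hwdef ▸ hLw _ _ hL₁ hL₂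
  obtain ⟨t₀, ht₀⟩ := exists_pairing hw.1
  refine ⟨((1 + altForm4 z₁ t₀) / altForm4 z₁ x) • x + t₀, ?_⟩
  set t := ((1 + altForm4 z₁ t₀) / altForm4 z₁ x) • x + t₀ with ht
  have t1 : altForm4 z₁ t = 1 := by
    rw [ht, Symp.add_right isSymp, Symp.smul_right isSymp, div_mul_cancel₀ _ h1, add_assoc,
      CharTwo.add_self_eq_zero, add_zero]
  have tw : altForm4 w t = 1 := by
    rw [ht, Symp.add_right isSymp, Symp.smul_right isSymp, hwx, mul_zero, zero_add, f4_comm, ht₀]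
  have step : ∀ z z' : V4, z ∈ cent G → z' ∈ cent G → InL p r z → InL p r z' → altForm4 z x ≠ 0 →
      altForm4 z' x ≠ 0 → altForm4 z x ≠ altForm4 z' x → altForm4 z t = 1 → altForm4 z' t = 1 := by
    intro z z' hz hz' hL hL' h h' hne e
    have e2 := S.eq_of_perp hxL (S.mid_mem hx hz hz' hL hL' h h' hne) hw (hLw _ _ hL hL') hwL (hperp _ _) hwx
    have e3 := congrArg (fun v => altForm4 v t) e2
    simp only [Symp.smul_left isSymp, Symp.add_left isSymp, tw, e, mul_one] at e3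
    have hs : altForm4 z x + altForm4 z' x ≠ 0 := fun e => hne (CharTwo.add_eq_zero.1 e)
    rw [inv_mul_eq_one₀ hs] at e3
    exact mul_left_cancel₀ h (by rw [mul_one]; exact (add_right_cancel e3).symm)
  intro z hz hzL h
  by_cases e : altForm4 z₁ x = altForm4 z x
  · exact step z₂ z hz₂ hz hL₂ hzL h2 h (e ▸ h12) (step z₁ z₂ hz₁ hz₂ hL₁ hL₂ h1 h2 h12.symm t1)
  · exact step z₁ z hz₁ hz hL₁ hzL h1 h e t1

/-- The centres in the plane lie on an affine line, or there are at most three. -/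
theorem Plane2.line_or_three {p r : V4} (S : Plane2 G p r) :
    (∃ t : V4, ∀ z ∈ cent G, InL p r z → altForm4 z t = 1) ∨
      ∃ z₁ z₂ z₃ : V4, ∀ z ∈ cent G, InL p r z → z = z₁ ∨ z = z₂ ∨ z = z₃ := by
  by_cases hline : ∃ t : V4, ∀ z ∈ cent G, InL p r z → altForm4 z t = 1
  · exact Or.inl hline
  right
  push Not at hline
  obtain ⟨x₀, hx₀, hxL₀⟩ : ∃ x ∈ cent G, ¬ InL p r x := by
    by_contra h
    push Not at h
    obtain ⟨u, hu⟩ := S.set.nonempty
    obtain ⟨w, hw⟩ := S.set.exists_adj hu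
    exact hw.2.2 (InL.orth S.iso (h u hu) (h w hw.2.1))
  obtain ⟨t₀, ht₀⟩ := S.exists_line hx₀ hxL₀
  obtain ⟨v, hv, hvL, hvt⟩ := hline t₀
  have hvx : altForm4 v x₀ = 0 := by
    by_contra h
    exact hvt (ht₀ v hv hvL h)
  have hother : ∀ z ∈ cent G, InL p r z → z ≠ v → altForm4 z t₀ = 1 := fun z hz hzL hne =>
    ht₀ z hz hzL fun e => hne (S.eq_of_perp hxL₀ hz hv hzL hvL e hvx)
  by_contra hthree
  push Not at hthree
  obtain ⟨z₁, hz₁, hL₁, n1, -, -⟩ := hthree v v v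
  obtain ⟨z₂, hz₂, hL₂, n2, n21, -⟩ := hthree v z₁ v
  obtain ⟨z₃, hz₃, hL₃, n3, n31, n32⟩ := hthree v z₁ z₂
  refine hv.1 (eq_zero_of_pair fun y => ?_)
  have hy : y ∈ Submodule.span F (cent G) := S.set.span_cent ▸ Submodule.mem_top
  induction hy using Submodule.span_induction with
  | mem x hx =>
    by_contra hne
    have hxL : ¬ InL p r x := fun h => hne (InL.orth S.iso hvL h)
    obtain ⟨t, ht⟩ := S.exists_line hx hxL
    have htv : altForm4 v t = 1 := ht v hv hvL hne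
    have key : ∀ a b : V4, a ∈ cent G → b ∈ cent G → InL p r a → InL p r b → a ≠ v → b ≠ v → a ≠ b →
        altForm4 a x ≠ 0 → altForm4 b x ≠ 0 → False := by
      intro a b ha hb haL hbL hav hbv hab hax hbx
      obtain ⟨s, s', e⟩ := S.span_two ha hb hab haL hbL hvL
      apply hvt
      rw [e, Symp.add_left isSymp, Symp.smul_left isSymp, Symp.smul_left isSymp, hother a ha haL hav,
        hother b hb hbL hbv]
      rw [e, Symp.add_left isSymp, Symp.smul_left isSymp, Symp.smul_left isSymp, ht a ha haL hax,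
        ht b hb hbL hbx] at htv
      exact htv
    by_cases e1 : altForm4 z₁ x = 0
    · exact key z₂ z₃ hz₂ hz₃ hL₂ hL₃ n2 n3 (Ne.symm n32)
        (fun e => n21 (S.eq_of_perp hxL hz₂ hz₁ hL₂ hL₁ e e1))
        (fun e => n31 (S.eq_of_perp hxL hz₃ hz₁ hL₃ hL₁ e e1))
    · by_cases e2 : altForm4 z₂ x = 0
      · exact key z₁ z₃ hz₁ hz₃ hL₁ hL₃ n1 n3 (Ne.symm n31) e1
          (fun e => n32 (S.eq_of_perp hxL hz₃ hz₂ hL₃ hL₂ e e2))
      · exact key z₁ z₂ hz₁ hz₂ hL₁ hL₂ n1 n2 (Ne.symm n21) e1 e2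
  | zero => exact Symp.zero_right isSymp _
  | add a b _ _ ha hb => rw [Symp.add_right isSymp, ha, hb, add_zero]
  | smul c a _ ha => rw [Symp.smul_right isSymp, ha, mul_zero]

/-- An invariant quadratic functional which is one on the centres in the plane, unless there is only one. -/
theorem Plane2.exists_quad {p r : V4} (S : Plane2 G p r) {p' r' : V4} (hp : altForm4 p p' = 1) (hp2 : altForm4 r p' = 0)
    (hr : altForm4 r r' = 1) (hr2 : altForm4 p r' = 0)
    (hne : ∃ z₁ ∈ cent G, ∃ z₂ ∈ cent G, InL p r z₁ ∧ InL p r z₂ ∧ z₁ ≠ z₂) :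
    ∃ α β γ : F, (∀ z ∈ cent G, InL p r z → bq α β γ (altForm4 z p') (altForm4 z r') = 1) ∧
      ∀ g ∈ G, (∀ z, InL p r z → InL p r ((g : M4) *ᵥ z)) → ∀ z, InL p r z →
        bq α β γ (altForm4 ((g : M4) *ᵥ z) p') (altForm4 ((g : M4) *ᵥ z) r') =
          bq α β γ (altForm4 z p') (altForm4 z r') := by
  obtain ⟨z₁, hz₁, z₂, hz₂, hL₁, hL₂, h12⟩ := hne
  have hdet : ∀ z z', z ∈ cent G → z' ∈ cent G → InL p r z → InL p r z' → z ≠ z' →
      altForm4 z p' * altForm4 z' r' + altForm4 z' p' * altForm4 z r' ≠ 0 := by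
    intro z z' hz hz' hL hL' h e
    obtain ⟨s, t, e1⟩ := S.span_two hz hz' h hL hL' (⟨1, 0, by simp⟩ : InL p r p)
    obtain ⟨s', t', e2⟩ := S.span_two hz hz' h hL hL' (⟨0, 1, by simp⟩ : InL p r r)
    rw [e1] at hp hr2
    rw [e2] at hr hp2
    simp only [Symp.add_left isSymp, Symp.smul_left isSymp] at hp hr hr2 hp2
    apply one_ne_zero (α := F)
    calc (1 : F) = (s * altForm4 z p' + t * altForm4 z' p') * (s' * altForm4 z r' + t' * altForm4 z' r') +
          (s * altForm4 z r' + t * altForm4 z' r') * (s' * altForm4 z p' + t' * altForm4 z' p') := by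
            rw [hp, hr, hr2, hp2, one_mul, zero_mul, add_zero]
      _ = 0 := by
            linear_combination (s * t' + s' * t) * e +
              (s * s' * altForm4 z p' * altForm4 z r' + t * t' * altForm4 z' p' * altForm4 z' r') *
                (CharTwo.two_eq_zero (R := F))
  have coord : ∀ z, InL p r z → ∀ y, altForm4 z y = altForm4 z p' * altForm4 p y + altForm4 z r' * altForm4 r y := by
    rintro _ ⟨a, b, rfl⟩ y
    simp only [Symp.add_left isSymp, Symp.smul_left isSymp, hp, hp2, hr, hr2, mul_one, mul_zero, add_zero,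
      zero_add]
  rcases S.line_or_three with ⟨t, ht⟩ | ⟨w₁, w₂, w₃, hw⟩
  · refine ⟨altForm4 p t * altForm4 p t, 0, altForm4 r t * altForm4 r t, ?_, ?_⟩
    · intro z hz hzL
      have e := ht z hz hzL
      rw [coord z hzL t] at e
      simp only [bq]
      linear_combination (altForm4 z p' * altForm4 p t + altForm4 z r' * altForm4 r t + 1) * e -
        (altForm4 z p' * altForm4 p t * altForm4 z r' * altForm4 r t) * (CharTwo.two_eq_zero (R := F))
    · intro g hg hgL z hzL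
      have hv : altForm4 ((g : M4) *ᵥ z) t = altForm4 z t := by
        obtain ⟨s, s', rfl⟩ := S.span_two hz₁ hz₂ h12 hL₁ hL₂ hzL
        simp only [mulVec_add, mulVec_smul, Symp.add_left isSymp, Symp.smul_left isSymp,
          ht _ (cent_conj S.set.le hg hz₁) (hgL _ hL₁), ht _ (cent_conj S.set.le hg hz₂) (hgL _ hL₂),
          ht _ hz₁ hL₁, ht _ hz₂ hL₂]
      rw [coord _ (hgL z hzL) t, coord z hzL t] at hv
      simp only [bq]
      grind
  · by_cases hall : ∃ z₃ ∈ cent G, InL p r z₃ ∧ z₃ ≠ z₁ ∧ z₃ ≠ z₂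
    · obtain ⟨z₃, hz₃, hL₃, h31, h32⟩ := hall
      have d12 := hdet _ _ hz₁ hz₂ hL₁ hL₂ h12
      have d13 := hdet _ _ hz₁ hz₃ hL₁ hL₃ h31.symm
      have d23 := hdet _ _ hz₂ hz₃ hL₂ hL₃ h32.symm
      obtain ⟨α, β, γ, q1, q2, q3⟩ := bq_interp d12 d13 d23 1 1 1
      have hC : ∀ z ∈ cent G, InL p r z → bq α β γ (altForm4 z p') (altForm4 z r') = 1 := by
        intro z hz hzL
        have : z = z₁ ∨ z = z₂ ∨ z = z₃ := by
          have a1 := hw z₁ hz₁ hL₁
          have a2 := hw z₂ hz₂ hL₂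
          have a3 := hw z₃ hz₃ hL₃
          have a := hw z hz hzL
          grind
        rcases this with rfl | rfl | rfl <;> assumption
      refine ⟨α, β, γ, hC, fun g hg hgL z hzL => ?_⟩
      -- the composite form agrees on three directions
      obtain ⟨A00, hA00⟩ : ∃ A, A = altForm4 ((g : M4) *ᵥ p) p' := ⟨_, rfl⟩
      obtain ⟨A01, hA01⟩ : ∃ A, A = altForm4 ((g : M4) *ᵥ r) p' := ⟨_, rfl⟩
      obtain ⟨A10, hA10⟩ : ∃ A, A = altForm4 ((g : M4) *ᵥ p) r' := ⟨_, rfl⟩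
      obtain ⟨A11, hA11⟩ : ∃ A, A = altForm4 ((g : M4) *ᵥ r) r' := ⟨_, rfl⟩
      have hlin : ∀ z, InL p r z → altForm4 ((g : M4) *ᵥ z) p' = A00 * altForm4 z p' + A01 * altForm4 z r' ∧
          altForm4 ((g : M4) *ᵥ z) r' = A10 * altForm4 z p' + A11 * altForm4 z r' := by
        rintro _ ⟨a, b, rfl⟩
        simp only [mulVec_add, mulVec_smul, Symp.add_left isSymp, Symp.smul_left isSymp, hp, hp2, hr, hr2,
          ← hA00, ← hA01, ← hA10, ← hA11, mul_one, mul_zero, add_zero, zero_add]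
        exact ⟨by ring, by ring⟩
      have hz : ∀ a b, bq (bq α β γ A00 A10 + α) (α * (A00 * A01 + A00 * A01) + β * (A00 * A11 + A01 * A10) +
          γ * (A10 * A11 + A10 * A11) + β) (bq α β γ A01 A11 + γ) a b =
          bq α β γ (A00 * a + A01 * b) (A10 * a + A11 * b) + bq α β γ a b := by
        intro a b
        simp only [bq]
        ring
      have hzero : ∀ z' ∈ cent G, InL p r z' → bq (bq α β γ A00 A10 + α)
          (α * (A00 * A01 + A00 * A01) + β * (A00 * A11 + A01 * A10) + γ * (A10 * A11 + A10 * A11) + β)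
          (bq α β γ A01 A11 + γ) (altForm4 z' p') (altForm4 z' r') = 0 := by
        intro z' hz' hzL'
        rw [hz, ← (hlin z' hzL').1, ← (hlin z' hzL').2, hC _ hz' hzL', hC _ (cent_conj S.set.le hg hz') (hgL _ hzL')]
        exact CharTwo.add_self_eq_zero _
      obtain ⟨u1, u2, u3⟩ := bq_unique d12 d13 d23 (hzero _ hz₁ hL₁) (hzero _ hz₂ hL₂) (hzero _ hz₃ hL₃)
      have e := hz (altForm4 z p') (altForm4 z r')
      rw [u1, u2, u3, ← (hlin z hzL).1, ← (hlin z hzL).2] at e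
      simp only [bq, zero_mul, add_zero] at e ⊢
      exact CharTwo.add_eq_zero.1 e.symm
    · -- two centres only: the linear functional
      push Not at hall
      have d := hdet _ _ hz₁ hz₂ hL₁ hL₂ h12
      obtain ⟨lam, hlam⟩ : ∃ lam, lam = (altForm4 z₁ r' + altForm4 z₂ r') /
          (altForm4 z₁ p' * altForm4 z₂ r' + altForm4 z₂ p' * altForm4 z₁ r') := ⟨_, rfl⟩
      obtain ⟨mu, hmu⟩ : ∃ mu, mu = (altForm4 z₁ p' + altForm4 z₂ p') /
          (altForm4 z₁ p' * altForm4 z₂ r' + altForm4 z₂ p' * altForm4 z₁ r') := ⟨_, rfl⟩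
      have hline : ∀ z ∈ cent G, InL p r z → lam * altForm4 z p' + mu * altForm4 z r' = 1 := by
        intro z hz hzL
        rcases eq_or_ne z z₁ with rfl | n1
        · rw [hlam, hmu]; field_simp
          grind
        · rw [hall z hz hzL n1, hlam, hmu]; field_simp
          grind
      refine ⟨lam * lam, 0, mu * mu, ?_, ?_⟩
      · intro z hz hzL
        have e := hline z hz hzL
        simp only [bq]
        linear_combination (lam * altForm4 z p' + mu * altForm4 z r' + 1) * e -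
          (lam * altForm4 z p' * mu * altForm4 z r') * (CharTwo.two_eq_zero (R := F))
      · intro g hg hgL z hzL
        have hv : lam * altForm4 ((g : M4) *ᵥ z) p' + mu * altForm4 ((g : M4) *ᵥ z) r' =
            lam * altForm4 z p' + mu * altForm4 z r' := by
          obtain ⟨s, s', rfl⟩ := S.span_two hz₁ hz₂ h12 hL₁ hL₂ hzL
          have a1 := hline _ (cent_conj S.set.le hg hz₁) (hgL _ hL₁)
          have a2 := hline _ (cent_conj S.set.le hg hz₂) (hgL _ hL₂)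
          have b1 := hline _ hz₁ hL₁
          have b2 := hline _ hz₂ hL₂
          simp only [mulVec_add, mulVec_smul, Symp.add_left isSymp, Symp.smul_left isSymp]
          linear_combination s * a1 + s' * a2 - s * b1 - s' * b2
        simp only [bq]
        grind

/-- A group with transvections has two with the same centre. -/
theorem Setup.exists_same_centre (S : Setup G) : ∃ u ∈ cent G, ∃ c : F, c • u ∈ cent G ∧ c ≠ 1 := by
  by_contra hsing
  push Not at hsing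
  haveI := S.simple
  haveI := Fact.mk Nat.prime_two
  haveI : Finite ↥G := inferInstance
  obtain ⟨u, hu⟩ := S.nonempty
  have hu2 : orderOf (⟨Tv u, hu.2⟩ : ↥G) = 2 := by
    refine orderOf_eq_prime (Subtype.ext ?_) fun e => hu.1 (Tv_eq_one (congrArg Subtype.val e))
    rw [sq]; exact Tv_mul_self u
  have hcentral : ¬ ∀ g : ↥G, g * ⟨Tv u, hu.2⟩ * g⁻¹ = ⟨Tv u, hu.2⟩ := by
    intro h
    refine hu.1 (S.noIso.no_fixed fun g hg => (Tv_inj hu.1 ?_).symm)
    rw [← Tv_conj (S.le hg)]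
    exact (congrArg Subtype.val (h ⟨g, hg⟩)).symm
  obtain ⟨P, hP⟩ := (IsPGroup.of_card (n := 1) (by rw [Nat.card_zpowers, hu2, pow_one]) :
    IsPGroup 2 (Subgroup.zpowers (⟨Tv u, hu.2⟩ : ↥G))).exists_le_sylow
  have huP : (⟨Tv u, hu.2⟩ : ↥G) ∈ (P : Subgroup ↥G) := hP (Subgroup.mem_zpowers _)
  obtain ⟨p, hp0, hp⟩ := exists_fix S.le P
  obtain ⟨p', hp'⟩ : ∃ p', altForm4 p p' = 1 := by
    obtain ⟨y, hy⟩ := exists_pairing hp0
    exact ⟨y, by rw [f4_comm]; exact hy⟩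
  obtain ⟨r, hr0, hrp, hrp', hr⟩ := exists_fix_mod S.le P hp' hp
  obtain ⟨r', hr'1, hr'2, hr'3⟩ : ∃ r', altForm4 r r' = 1 ∧ altForm4 p r' = 0 ∧ altForm4 r' p' = 0 := by
    obtain ⟨y, hy⟩ := exists_pairing hr0
    refine ⟨y + altForm4 y p' • p + altForm4 p y • p', ?_, ?_, ?_⟩
    · simp only [Symp.add_right isSymp, Symp.smul_right isSymp, hrp, hrp', mul_zero, add_zero]
      rw [f4_comm]; exact hy
    · simp only [Symp.add_right isSymp, Symp.smul_right isSymp, (isSymp (F := F)).alternating, hp', mul_zero,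
        mul_one, add_zero]
      exact CharTwo.add_self_eq_zero _
    · simp only [Symp.add_left isSymp, Symp.smul_left isSymp, (isSymp (F := F)).alternating, hp', mul_zero,
        mul_one, add_zero]
      exact CharTwo.add_self_eq_zero _
  have hpr : altForm4 p r = 0 := (f4_comm _ _).trans hrp
  obtain ⟨B, hB, hBv⟩ := exists_frame hpr hr'2 hp' hr'1 hrp' hr'3
  have hdual : ∀ z, altForm4 z p = 0 → altForm4 z r = 0 → ∃ a b : F, z = a • p + b • r := by
    intro z hzp hzr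
    obtain ⟨x, rfl⟩ : ∃ x, z = (B : M4) *ᵥ x :=
      ⟨((B⁻¹ : GL (Fin 4) F) : M4) *ᵥ z, by rw [gl_mulVec_inv_mulVec]⟩
    rw [hBv] at hzp hzr ⊢
    simp only [Symp.add_left isSymp, Symp.smul_left isSymp, (isSymp (F := F)).alternating, hpr, hrp,
      (f4_comm r' p).trans hr'2, (f4_comm r' r).trans hr'1, (f4_comm p' p).trans hp',
      (f4_comm p' r).trans hrp', mul_zero, mul_one, add_zero, zero_add] at hzp hzr
    exact ⟨x 0, x 1, by rw [hzp, hzr, zero_smul, zero_smul, add_zero, add_zero]⟩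
  have S2 : Plane2 G p r := ⟨S, hsing, hpr, hdual⟩
  have hstab : ∀ g ∈ (P : Subgroup ↥G), ∀ z, InL p r z → InL p r (((g : GL (Fin 4) F) : M4) *ᵥ z) := by
    rintro g hg _ ⟨a, b, rfl⟩
    obtain ⟨c, hc⟩ := hr g hg
    exact ⟨a + b * c, b, by rw [mulVec_add, mulVec_smul, mulVec_smul, hp g hg, hc]; module⟩
  have hcentre : ∀ z ∈ cent G, ∀ h : Tv z ∈ G, (⟨Tv z, h⟩ : ↥G) ∈ (P : Subgroup ↥G) → InL p r z := by
    intro z hz h hzP
    have e1 : altForm4 p z • z = 0 := by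
      have := hp _ hzP
      rwa [Tv_mulVec, add_eq_left] at this
    have hzp : altForm4 z p = 0 := (f4_comm _ _).trans ((smul_eq_zero.1 e1).resolve_right hz.1)
    obtain ⟨c, hc⟩ := hr _ hzP
    rw [Tv_mulVec, add_right_inj] at hc
    rcases eq_or_ne (altForm4 r z) 0 with e | e
    · exact hdual z hzp ((f4_comm _ _).trans e)
    · refine ⟨(altForm4 r z)⁻¹ * c, 0, ?_⟩
      rw [zero_smul, add_zero, ← smul_smul, ← hc, smul_smul, inv_mul_cancel₀ e, one_smul]
  by_cases hne : ∃ z₁ ∈ cent G, ∃ z₂ ∈ cent G, InL p r z₁ ∧ InL p r z₂ ∧ z₁ ≠ z₂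
  swap
  · -- an isolated involution
    push Not at hne
    have hiso : ∀ g : ↥G, g * ⟨Tv u, hu.2⟩ * g⁻¹ ∈ (P : Subgroup ↥G) →
        g * ⟨Tv u, hu.2⟩ * g⁻¹ = ⟨Tv u, hu.2⟩ := by
      intro g hg
      have e : (g * ⟨Tv u, hu.2⟩ * g⁻¹ : ↥G) = ⟨Tv (((g : GL (Fin 4) F) : M4) *ᵥ u),
          (cent_conj S.le g.2 hu).2⟩ := Subtype.ext (Tv_conj (S.le g.2) u)
      rw [e] at hg ⊢
      have := hne _ (cent_conj S.le g.2 hu) u hu (hcentre _ (cent_conj S.le g.2 hu) _ hg)
        (hcentre u hu hu.2 huP)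
      exact Subtype.ext (congrArg Tv this)
    obtain ⟨N, hN, hodd, hcomm⟩ := Cfsg.Agent.S0215.result P _ hu2 huP hiso
    rcases hN.eq_bot_or_eq_top with h | h
    · refine hcentral fun g => ?_
      have := hcomm g
      rw [h, Subgroup.mem_bot] at this
      have e : ∀ x : ↥G, x * g * x⁻¹ * g⁻¹ = 1 → g * x * g⁻¹ = x := by
        intro x hx
        have h1 : x * g = g * x := by
          rw [mul_assoc (x * g)] at hx
          rw [mul_eq_one_iff_eq_inv, _root_.mul_inv_rev, inv_inv, inv_inv] at hx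
          exact hx
        rw [← h1, mul_inv_cancel_right]
      exact e _ this
    · rw [h, Subgroup.card_top] at hodd
      have h2 : 2 ∣ Nat.card ↥G := hu2 ▸ orderOf_dvd_natCard _
      rw [Nat.odd_iff] at hodd
      omega
  obtain ⟨α, β, γ, hval, hinv⟩ := S2.exists_quad hp' hrp' hr'1 hr'2 hne
  -- coordinates
  have hentry : ∀ g : GL (Fin 4) F, g ∈ Sp4 F → ∀ x : V4, InL p r ((B : M4) *ᵥ x) →
      InL p r ((g : M4) *ᵥ ((B : M4) *ᵥ x)) →
      ((B⁻¹ * g * B : GL (Fin 4) F) : M4) *ᵥ x =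
        ![altForm4 ((g : M4) *ᵥ ((B : M4) *ᵥ x)) p', altForm4 ((g : M4) *ᵥ ((B : M4) *ᵥ x)) r', 0, 0] := by
    rintro g - x - ⟨a, b, e⟩
    rw [gl_mul_mulVec, gl_mul_mulVec, e]
    have hab : (B : M4) *ᵥ ![a, b, 0, 0] = a • p + b • r := by rw [hBv]; simp
    rw [← hab, gl_inv_mulVec_mulVec, hab]
    simp only [Symp.add_left isSymp, Symp.smul_left isSymp, hp', hrp', hr'1, hr'2, mul_one, mul_zero, add_zero,
      zero_add]
  have hB01 : ∀ a b : F, InL p r ((B : M4) *ᵥ ![a, b, 0, 0]) := fun a b => ⟨a, b, by rw [hBv]; simp⟩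
  have hcol : ∀ g ∈ (P : Subgroup ↥G), ∀ a b : F,
      ((B⁻¹ * (g : GL (Fin 4) F) * B : GL (Fin 4) F) : M4) *ᵥ ![a, b, 0, 0] =
        ![altForm4 (((g : GL (Fin 4) F) : M4) *ᵥ ((B : M4) *ᵥ ![a, b, 0, 0])) p',
          altForm4 (((g : GL (Fin 4) F) : M4) *ᵥ ((B : M4) *ᵥ ![a, b, 0, 0])) r', 0, 0] := fun g hg a b =>
    hentry _ (S.le g.2) _ (hB01 a b) (hstab g hg _ (hB01 a b))
  have hzero : ∀ g ∈ (P : Subgroup ↥G), ∀ i j : Fin 4, (i = 2 ∨ i = 3) → (j = 0 ∨ j = 1) →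
      ((B⁻¹ * (g : GL (Fin 4) F) * B : GL (Fin 4) F) : M4) i j = 0 := by
    intro g hg i j hi hj
    rcases hj with rfl | rfl
    · have := congrFun (hcol g hg 1 0) i
      rcases hi with rfl | rfl <;> simpa [mulVec, dotProduct, Fin.sum_univ_four] using this
    · have := congrFun (hcol g hg 0 1) i
      rcases hi with rfl | rfl <;> simpa [mulVec, dotProduct, Fin.sum_univ_four] using this
  have hq : ∀ g ∈ (P : Subgroup ↥G), ∀ a b : F,
      bq α β γ (((B⁻¹ * (g : GL (Fin 4) F) * B : GL (Fin 4) F) : M4) 0 0 * a +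
          ((B⁻¹ * (g : GL (Fin 4) F) * B : GL (Fin 4) F) : M4) 0 1 * b)
        (((B⁻¹ * (g : GL (Fin 4) F) * B : GL (Fin 4) F) : M4) 1 0 * a +
          ((B⁻¹ * (g : GL (Fin 4) F) * B : GL (Fin 4) F) : M4) 1 1 * b) = bq α β γ a b := by
    intro g hg a b
    have h := hinv _ g.2 (hstab g hg) _ (hB01 a b)
    have comp : ∀ (X : M4) (i : Fin 4), X i 0 * a + X i 1 * b = (X *ᵥ ![a, b, 0, 0]) i := fun X i => by
      simp [mulVec, dotProduct, Fin.sum_univ_four]
    rw [comp, comp, hcol g hg a b]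
    show bq α β γ (altForm4 _ p') (altForm4 _ r') = _
    rw [h, show altForm4 ((B : M4) *ᵥ ![a, b, 0, 0]) p' = a by
        rw [hBv]; simp [Symp.add_left isSymp, Symp.smul_left isSymp, hp', hrp'],
      show altForm4 ((B : M4) *ᵥ ![a, b, 0, 0]) r' = b by
        rw [hBv]; simp [Symp.add_left isSymp, Symp.smul_left isSymp, hr'1, hr'2]]
  have hSp : ∀ g : ↥G, (B⁻¹ * (g : GL (Fin 4) F) * B : GL (Fin 4) F) ∈ Sp4 F := fun g =>
    (Sp4 F).mul_mem ((Sp4 F).mul_mem ((Sp4 F).inv_mem hB) (S.le g.2)) hB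
  let φ : (P : Subgroup ↥G) →* Multiplicative F :=
    MonoidHom.mk' (fun g => Multiplicative.ofAdd
      (chiM α β γ ((B⁻¹ * ((g : ↥G) : GL (Fin 4) F) * B : GL (Fin 4) F) : M4))) fun g h => by
      rw [← ofAdd_add, ← chiM_mul (hSp (h : ↥G)) (hzero _ g.2 2 0 (Or.inl rfl) (Or.inl rfl))
        (hzero _ g.2 2 1 (Or.inl rfl) (Or.inr rfl)) (hzero _ g.2 3 0 (Or.inr rfl) (Or.inl rfl))
        (hzero _ g.2 3 1 (Or.inr rfl) (Or.inr rfl)) (hzero _ h.2 2 0 (Or.inl rfl) (Or.inl rfl))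
        (hzero _ h.2 2 1 (Or.inl rfl) (Or.inr rfl)) (hzero _ h.2 3 0 (Or.inr rfl) (Or.inl rfl))
        (hzero _ h.2 3 1 (Or.inr rfl) (Or.inr rfl)) (hq _ g.2)]
      congr 3
      simp [mul_assoc]
  have hodd : Odd (P : Subgroup ↥G).index := by
    rw [← Nat.not_even_iff_odd, even_iff_two_dvd]; exact P.not_dvd_index
  have hone : φ.transfer (⟨Tv u, hu.2⟩ : ↥G) = Multiplicative.ofAdd 1 := by
    refine CfsgLib.Transfer.transfer_involution φ (by rw [← hu2]; exact pow_orderOf_eq_one _)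
      (by rw [sq, ← ofAdd_add, CharTwo.add_self_eq_zero]; rfl) hodd fun g hg => ?_
    have e : (g⁻¹ * ⟨Tv u, hu.2⟩ * g : ↥G) = ⟨Tv ((((g⁻¹ : ↥G) : GL (Fin 4) F) : M4) *ᵥ u),
        (cent_conj S.le (g⁻¹ : ↥G).2 hu).2⟩ := Subtype.ext (by
      refine Eq.trans ?_ (Tv_conj (S.le (g⁻¹ : ↥G).2) u)
      simp)
    have hc := cent_conj S.le (g⁻¹ : ↥G).2 hu
    have hzL := hcentre _ hc hc.2 (e ▸ hg)
    set z := (((g⁻¹ : ↥G) : GL (Fin 4) F) : M4) *ᵥ u
    obtain ⟨a, b, hab⟩ := hzL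
    have hzB : ((B⁻¹ : GL (Fin 4) F) : M4) *ᵥ z = ![a, b, 0, 0] := by
      have : (B : M4) *ᵥ ![a, b, 0, 0] = z := by rw [hBv, hab]; simp
      rw [← this, gl_inv_mulVec_mulVec]
    show Multiplicative.ofAdd (chiM α β γ ((B⁻¹ * ((g⁻¹ * ⟨Tv u, hu.2⟩ * g : ↥G) : GL (Fin 4) F) * B :
      GL (Fin 4) F) : M4)) = _
    congr 1
    rw [e]
    show chiM α β γ ((B⁻¹ * Tv z * B : GL (Fin 4) F) : M4) = 1
    rw [show B⁻¹ * Tv z * B = B⁻¹ * Tv z * B⁻¹⁻¹ by rw [inv_inv], Tv_conj ((Sp4 F).inv_mem hB), hzB,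
      chiM_Tv α β γ (by simp) (by simp)]
    have := hval z hc ⟨a, b, hab⟩
    rw [hab] at this
    simp only [Symp.add_left isSymp, Symp.smul_left isSymp, hp', hrp', hr'1, hr'2, mul_one, mul_zero, add_zero,
      zero_add] at this
    simpa using this
  rcases (MonoidHom.normal_ker φ.transfer).eq_bot_or_eq_top with h | h
  · refine hcentral fun g => ?_
    have hinj := (MonoidHom.ker_eq_bot_iff _).1 h
    apply hinj
    rw [map_mul, map_mul, map_inv, mul_inv_cancel_comm]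
  · have : (⟨Tv u, hu.2⟩ : ↥G) ∈ φ.transfer.ker := h ▸ Subgroup.mem_top _
    rw [MonoidHom.mem_ker, hone] at this
    exact one_ne_zero (Multiplicative.ofAdd.injective (this.trans ofAdd_zero.symm))

end CfsgLib.Sp4Resid
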