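import Cfsg.Agent.Lib.Sp4Resid.Multi
import Cfsg.Agent.Lib.Sp4Resid.Single

/-!
An irreducible simple proper subgroup of `Sp₄`, not defined over a subfield, has no transvection, neither
itself nor its image under the exceptional endomorphism.
-/

set_option autoImplicit false

open scoped MatrixGroups Matrix

namespace CfsgLib.Sp4Resid

open Matrix Cfsg.Lie CfsgLib.SuzukiGroup CfsgLib.Large.SzReal CfsgLib.GeomClasses CfsgLib.GeomClasses.Symp Module

variable {F : Type*} [Field F] [CharP F 2] [Fintype F]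

local notation "M4" => Matrix (Fin 4) (Fin 4) F
local notation "V4" => Fin 4 → F

/-- The standing hypotheses on the core. -/
structure Resid (G : Subgroup (GL (Fin 4) F)) : Prop where
  le : G ≤ Sp4 F
  simple : IsSimpleGroup ↥G
  irr : ∀ U : Submodule F V4, (∀ g ∈ G, ∀ u ∈ U, (g : M4) *ᵥ u ∈ U) → U = ⊥ ∨ U = ⊤
  noSub : ∀ K : Subfield F, K ≠ ⊤ → ∀ B : GL (Fin 4) F,
    ¬ ∀ g ∈ G, ∀ i j, ((B⁻¹ * g * B : GL (Fin 4) F) : M4) i j ∈ K
  ne_top : G ≠ Sp4 F

variable {G : Subgroup (GL (Fin 4) F)}

theorem Resid.noIso (R : Resid G) : NoIso G := by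
  intro U hiso hinv
  refine (R.irr U hinv).resolve_right fun e => ?_
  have h := hiso (Pi.single 0 1) (e ▸ Submodule.mem_top) (Pi.single 3 1) (e ▸ Submodule.mem_top)
  simp [altForm4] at h

theorem Resid.no_Tv (R : Resid G) (h4 : 4 ≤ Fintype.card F) {u : V4} (hu : u ≠ 0) : Tv u ∉ G := by
  intro hG
  have S : Setup G := ⟨R.le, R.simple, R.noIso, ⟨u, hu, hG⟩⟩
  obtain ⟨w, hw, c, hc, hc1⟩ := S.exists_same_centre
  have hc0 : c ≠ 0 := fun e => hc.1 (by rw [e, zero_smul])
  rcases S.multi_cases h4 hw hc0 hc1 hc.2 with h | ⟨K, hK, B, -, hBK⟩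
  · exact R.ne_top h
  · exact R.noSub K hK B hBK

/-- The image under the exceptional endomorphism. -/
noncomputable def starGroup (G : Subgroup (GL (Fin 4) F)) : Subgroup (GL (Fin 4) F) :=
  (G.subgroupOf (Sp4 F)).map ((Sp4 F).subtype.comp starHom)

omit [Fintype F] in
theorem starGroup_le (G : Subgroup (GL (Fin 4) F)) : starGroup G ≤ Sp4 F := by
  rintro _ ⟨g, -, rfl⟩
  exact (starHom g).2

omit [Fintype F] in
theorem mem_starGroup (hG : G ≤ Sp4 F) {g : GL (Fin 4) F} (hg : g ∈ G) :
    (starHom ⟨g, hG hg⟩ : GL (Fin 4) F) ∈ starGroup G :=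
  ⟨⟨g, hG hg⟩, hg, rfl⟩

/-- The isomorphism onto the image. -/
noncomputable def starEquiv (hG : G ≤ Sp4 F) : ↥G ≃* ↥(starGroup G) :=
  (Subgroup.subgroupOfEquivOfLe hG).symm.trans
    ((G.subgroupOf (Sp4 F)).equivMapOfInjective _
      (((Sp4 F).subtype_injective).comp starHom_injective))

omit [Fintype F] in
theorem wedge_smul_comb (u v : V4) (a b c d : F) :
    wedge (a • u + b • v) (c • u + d • v) = (a * d - b * c) • wedge u v := by
  funext r
  simp only [wedge, Pi.add_apply, Pi.smul_apply, smul_eq_mul]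
  ring

omit [Fintype F] in
theorem finrank_iso_le {U : Submodule F V4} (hiso : ∀ u ∈ U, ∀ v ∈ U, altForm4 u v = 0) : finrank F U ≤ 2 := by
  have hle : U ≤ (Symp.bil (isSymp (F := F))).orthogonal U := fun v hv => by
    rw [LinearMap.BilinForm.mem_orthogonal_iff]
    exact fun u hu => hiso u hu v hv
  have h := Submodule.finrank_mono hle
  rw [LinearMap.BilinForm.finrank_orthogonal (Symp.bil_nondegenerate isSymp), Module.finrank_pi,
    Fintype.card_fin] at h
  omega

omit [Fintype F] in
/-- An isotropic invariant subspace gives one for the image. -/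
theorem star_reducible {H : Subgroup (GL (Fin 4) F)} (hH : H ≤ Sp4 F) {U : Submodule F V4} (hU : U ≠ ⊥)
    (hiso : ∀ u ∈ U, ∀ v ∈ U, altForm4 u v = 0) (hinv : ∀ g ∈ H, ∀ u ∈ U, (g : M4) *ᵥ u ∈ U) :
    ∃ W : Submodule F V4, W ≠ ⊥ ∧ W ≠ ⊤ ∧ ∀ g ∈ starGroup H, ∀ w ∈ W, (g : M4) *ᵥ w ∈ W := by
  have hact : ∀ g : ↥(Sp4 F), ∀ u v : V4, altForm4 u v = 0 →
      ((starHom g : GL (Fin 4) F) : M4) *ᵥ wedge u v =
        wedge (((g : GL (Fin 4) F) : M4) *ᵥ u) (((g : GL (Fin 4) F) : M4) *ᵥ v) := fun g u v h => by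
    rw [starHom_coe, star4_mulVec_wedge ((SuzukiGroup.mem_sp4_iff _).1 g.2) h]
  obtain ⟨p, hpU, hp0⟩ := Submodule.exists_mem_ne_zero_of_ne_bot hU
  by_cases hone : ∀ v ∈ U, ∃ c : F, v = c • p
  · -- a point: the images of the vectors orthogonal to it
    set P := LinearMap.ker ((Symp.bil (isSymp (F := F))) p)
    have memP : ∀ {v}, v ∈ P ↔ altForm4 p v = 0 := fun {v} => LinearMap.mem_ker
    let L : V4 →ₗ[F] V4 :=
      { toFun := fun v => wedge p v
        map_add' := fun v w => by funext r; simp only [wedge, Pi.add_apply]; ring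
        map_smul' := fun c v => by funext r; simp [wedge]; ring }
    have hP : finrank F P ≤ 3 ∧ 2 ≤ finrank F P := by
      have h := LinearMap.finrank_range_add_finrank_ker ((Symp.bil (isSymp (F := F))) p)
      rw [Module.finrank_pi, Fintype.card_fin] at h
      have h1 : finrank F (LinearMap.range ((Symp.bil (isSymp (F := F))) p)) ≤ 1 :=
        (Submodule.finrank_le _).trans (by rw [Module.finrank_self])
      have h2 : 1 ≤ finrank F (LinearMap.range ((Symp.bil (isSymp (F := F))) p)) := by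
        rw [Submodule.one_le_finrank_iff]
        intro e
        refine hp0 (eq_zero_of_pair fun y => ?_)
        have : (Symp.bil (isSymp (F := F))) p y ∈ LinearMap.range ((Symp.bil (isSymp (F := F))) p) :=
          LinearMap.mem_range_self _ y
        rw [e, Submodule.mem_bot] at this
        exact this
      simp only [P]
      constructor <;> omega
    refine ⟨P.map L, ?_, ?_, ?_⟩
    · intro e
      have hle : P ≤ Submodule.span F {p} := by
        intro v hv
        have hz : L v = 0 := by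
          have : L v ∈ P.map L := ⟨v, hv, rfl⟩
          rwa [e, Submodule.mem_bot] at this
        have h4 := wedge_eq_zero (memP.1 hv) hz
        obtain ⟨i, hi⟩ := Function.ne_iff.1 hp0
        rw [Pi.zero_apply] at hi
        refine Submodule.mem_span_singleton.2 ⟨v i / p i, funext fun j => ?_⟩
        have := h4 i j
        simp only [Pi.smul_apply, smul_eq_mul]
        field_simp
        grind
      have h := (Submodule.finrank_mono hle).trans (finrank_span_singleton hp0).le
      omega
    · intro e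
      have h := Submodule.finrank_map_le L P
      rw [e, finrank_top, Module.finrank_pi, Fintype.card_fin] at h
      omega
    · rintro _ ⟨g, hg, rfl⟩ _ ⟨v, hv, rfl⟩
      obtain ⟨c, hc'⟩ := hone _ (hinv _ hg p hpU)
      have hc : ((g : GL (Fin 4) F) : M4) *ᵥ p = c • p := hc'
      refine ⟨c • (((g : GL (Fin 4) F) : M4) *ᵥ v), ?_, ?_⟩
      · refine Submodule.smul_mem _ c (memP.2 ?_)
        have h1 : altForm4 (((g : GL (Fin 4) F) : M4) *ᵥ p) (((g : GL (Fin 4) F) : M4) *ᵥ v) = 0 := by
          rw [isometry_iff _ _ _ g.2]; exact memP.1 hv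
        have hc0 : c ≠ 0 := fun e => hp0 (by
          have h0 := congrArg (fun x => (((g : GL (Fin 4) F)⁻¹ : GL (Fin 4) F) : M4) *ᵥ x) hc
          simpa [gl_inv_mulVec_mulVec, e] using h0)
        rw [hc, Symp.smul_left isSymp] at h1
        exact (mul_eq_zero.1 h1).resolve_left hc0
      · show wedge p (c • _) = ((starHom g : GL (Fin 4) F) : M4) *ᵥ wedge p v
        rw [hact g p v (memP.1 hv), hc]
        funext r
        simp [wedge]
        ring
  · push Not at hone
    obtain ⟨v, hvU, hv⟩ := hone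
    have hli : LinearIndependent F ![p, v] :=
      (LinearIndependent.pair_iff' hp0).2 fun a e => hv a e.symm
    have hspan : Submodule.span F (Set.range ![p, v]) = U := by
      refine Submodule.eq_of_le_of_finrank_le (Submodule.span_le.2 ?_) ?_
      · rintro x ⟨i, rfl⟩
        fin_cases i <;> simpa
      · rw [finrank_span_eq_card hli, Fintype.card_fin]; exact finrank_iso_le hiso
    have hw0 : wedge p v ≠ 0 := by
      intro e
      have h4 := wedge_eq_zero (hiso p hpU v hvU) e
      obtain ⟨i, hi⟩ := Function.ne_iff.1 hp0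
      rw [Pi.zero_apply] at hi
      refine hv (v i / p i) (funext fun j => ?_)
      have := h4 i j
      simp only [Pi.smul_apply, smul_eq_mul]
      field_simp
      grind
    refine ⟨Submodule.span F {wedge p v}, fun e => hw0 (Submodule.span_singleton_eq_bot.1 e), fun e => ?_, ?_⟩
    · have h := finrank_span_singleton (K := F) hw0
      rw [e, finrank_top, Module.finrank_pi, Fintype.card_fin] at h
      omega
    · rintro _ ⟨g, hg, rfl⟩ w hw
      obtain ⟨k, rfl⟩ := Submodule.mem_span_singleton.1 hw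
      have e1 : ((g : GL (Fin 4) F) : M4) *ᵥ p ∈ Submodule.span F (Set.range ![p, v]) :=
        hspan.symm ▸ hinv _ hg p hpU
      have e2 : ((g : GL (Fin 4) F) : M4) *ᵥ v ∈ Submodule.span F (Set.range ![p, v]) :=
        hspan.symm ▸ hinv _ hg v hvU
      obtain ⟨c1, hc1⟩ := (Submodule.mem_span_range_iff_exists_fun F).1 e1
      obtain ⟨c2, hc2⟩ := (Submodule.mem_span_range_iff_exists_fun F).1 e2
      simp [Fin.sum_univ_two] at hc1 hc2
      show ((starHom g : GL (Fin 4) F) : M4) *ᵥ (k • wedge p v) ∈ _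
      rw [mulVec_smul, hact g p v (hiso p hpU v hvU), ← hc1, ← hc2, wedge_smul_comb, smul_smul]
      exact Submodule.smul_mem _ _ (Submodule.mem_span_singleton_self _)

theorem Resid.noIso_star (R : Resid G) : NoIso (starGroup G) := by
  intro U hiso hinv
  by_contra hU
  obtain ⟨W, hW0, hWt, hW⟩ := star_reducible (starGroup_le G) hU hiso hinv
  let W' : Submodule F V4 :=
    { carrier := {x | (fun i => x i ^ 2) ∈ W}
      zero_mem' := by
        show (fun i => (0 : V4) i ^ 2) ∈ W
        simp [show (fun _ : Fin 4 => (0 : F)) = 0 from rfl]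
      add_mem' := fun {x y} hx hy => by
        show (fun i => (x + y) i ^ 2) ∈ W
        rw [show (fun i => (x + y) i ^ 2) = (fun i => x i ^ 2) + (fun i => y i ^ 2) from
          funext fun i => CharTwo.add_sq (x i) (y i)]
        exact W.add_mem hx hy
      smul_mem' := fun c x hx => by
        show (fun i => (c • x) i ^ 2) ∈ W
        rw [show (fun i => (c • x) i ^ 2) = (c ^ 2) • (fun i => x i ^ 2) from
          funext fun i => mul_pow c (x i) 2]
        exact W.smul_mem _ hx }
  have hsq : ∀ y : V4, ∃ x : V4, (fun i => x i ^ 2) = y := fun y => by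
    choose x hx using fun i => sqrt_exists (y i)
    exact ⟨x, funext fun i => by rw [sq]; exact hx i⟩
  rcases R.irr W' (fun g hg x hx => by
    have h2 := hW _ (mem_starGroup (starGroup_le G) (mem_starGroup R.le hg)) _ hx
    rw [starHom_starHom] at h2
    show (fun i => ((g : M4) *ᵥ x) i ^ 2) ∈ W
    convert h2 using 1
    funext i
    simp only [mulVec, dotProduct, Matrix.map_apply]
    rw [sum_pow_char]
    simp [mul_pow]) with h | h
  · apply hW0
    rw [Submodule.eq_bot_iff]
    intro y hy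
    obtain ⟨x, rfl⟩ := hsq y
    have hx : x ∈ W' := hy
    rw [h, Submodule.mem_bot] at hx
    funext i
    simp [hx]
  · refine hWt (eq_top_iff.2 fun y _ => ?_)
    obtain ⟨x, rfl⟩ := hsq y
    exact (h ▸ Submodule.mem_top : x ∈ W')

theorem Resid.no_star_Tv (R : Resid G) (h4 : 4 ≤ Fintype.card F) {g : GL (Fin 4) F} (hg : g ∈ G) {u : V4}
    (hu : u ≠ 0) : star4 (g : M4) ≠ (Tv u : M4) := by
  intro e
  haveI := R.simple
  have hs : IsSimpleGroup ↥(starGroup G) := (starEquiv R.le).symm.isSimpleGroup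
  have hTv : Tv u ∈ starGroup G := by
    have h := mem_starGroup R.le hg
    rwa [show (starHom ⟨g, R.le hg⟩ : GL (Fin 4) F) = Tv u from Units.ext e] at h
  have S : Setup (starGroup G) := ⟨starGroup_le G, hs, R.noIso_star, ⟨u, hu, hTv⟩⟩
  obtain ⟨w, hw, c, hc, hc1⟩ := S.exists_same_centre
  have hc0 : c ≠ 0 := fun e => hc.1 (by rw [e, zero_smul])
  rcases S.multi_cases h4 hw hc0 hc1 hc.2 with h | ⟨K, hK, B, hB, hBK⟩
  · refine R.ne_top (Subgroup.eq_of_le_of_card_ge R.le (le_of_eq ?_))
    rw [Nat.card_congr (starEquiv R.le).toEquiv, h]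
  · -- apply the endomorphism once more and take square roots
    set φ : F →+* F := (frobeniusEquiv F 2).symm.toRingHom
    set B' : GL (Fin 4) F := Matrix.GeneralLinearGroup.map φ (starHom ⟨B, hB⟩ : GL (Fin 4) F)
    refine R.noSub K hK B' fun h hh i j => ?_
    set x : ↥(Sp4 F) := starHom ⟨h, R.le hh⟩
    have hx : (x : GL (Fin 4) F) ∈ starGroup G := mem_starGroup R.le hh
    have hy : ((⟨B, hB⟩ : ↥(Sp4 F))⁻¹ * x * ⟨B, hB⟩ : ↥(Sp4 F)).1 = B⁻¹ * (x : GL (Fin 4) F) * B := rfl
    have hmem : ∀ i j, ((starHom ((⟨B, hB⟩ : ↥(Sp4 F))⁻¹ * x * ⟨B, hB⟩) : GL (Fin 4) F) : M4) i j ∈ K := by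
      intro i j
      rw [starHom_coe, hy]
      simp only [star4, Matrix.of_apply]
      exact K.sub_mem (K.mul_mem (hBK _ hx _ _) (hBK _ hx _ _)) (K.mul_mem (hBK _ hx _ _) (hBK _ hx _ _))
    have hmap : Matrix.GeneralLinearGroup.map φ (starHom x : GL (Fin 4) F) = h := by
      refine Units.ext (Matrix.ext fun a b => ?_)
      show φ (((starHom x : GL (Fin 4) F) : M4) a b) = _
      rw [starHom_starHom]
      exact (frobeniusEquiv F 2).symm_apply_apply _
    have e2 : (B'⁻¹ * h * B' : GL (Fin 4) F) =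
        Matrix.GeneralLinearGroup.map φ
          (starHom ((⟨B, hB⟩ : ↥(Sp4 F))⁻¹ * x * ⟨B, hB⟩) : GL (Fin 4) F) := by
      rw [map_mul starHom, map_mul starHom, map_inv starHom, Subgroup.coe_mul, Subgroup.coe_mul,
        Subgroup.coe_inv, map_mul, map_mul, map_inv, hmap]
    rw [e2]
    refine sqrt_mem K ?_
    show φ _ * φ _ ∈ K
    rw [← sq, show ∀ a : F, φ a ^ 2 = a from fun a => (frobeniusEquiv F 2).apply_symm_apply a]
    exact hmem i j

/-- All involutions are in the class with unipotent centralisers. -/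
theorem Resid.isC (R : Resid G) (h4 : 4 ≤ Fintype.card F) {g : GL (Fin 4) F} (hg : g ∈ G)
    (h2 : (g : M4) * g = 1) (h1 : g ≠ 1) : IsC g :=
  isC_of_noRoot (R.le hg) h2 h1
    ⟨fun u hu e => R.no_Tv h4 hu (show formTv altForm4 u 1 ∈ G from e ▸ hg),
      fun _ hu => R.no_star_Tv h4 hg hu⟩

end CfsgLib.Sp4Resid
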