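import Cfsg.Agent.Lib.Sp4Resid.SuzukiConj
import Cfsg.Agent.Lib.Sp4Resid.Model

/-!
A Suzuki core is defined over the field of the Suzuki group.
-/

set_option autoImplicit false

open scoped MatrixGroups Matrix

namespace CfsgLib.Sp4Resid

open Cfsg.Lie CfsgLib.SuzukiGroup

variable {F : Type*} [Field F] [CharP F 2] [Fintype F] {G : Subgroup (GL (Fin 4) F)}

theorem Core.card_of_suzuki (C : Core G) {L : Type} [Field L] [Fintype L] {m : ℕ} (hm : 1 ≤ m)
    (hL : Fintype.card L = 2 ^ (2 * m + 1)) (ψ : ↥G ≃* ↥(Sz L (2 ^ (m + 1)))) :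
    Fintype.card F = 2 ^ (2 * m + 1) := by
  haveI : Fact (Nat.Prime 2) := ⟨Nat.prime_two⟩
  obtain ⟨hL2, ⟨P⟩⟩ := exists_params hL
  haveI := hL2
  have htr : ∀ g ∈ G, (g : Matrix (Fin 4) (Fin 4) F).trace ^ 2 ^ (2 * m + 1) =
      (g : Matrix (Fin 4) (Fin 4) F).trace := by
    intro g hg
    rcases sz_two_or_pow_card P hL hm (ψ ⟨g, hg⟩) with h | ⟨k, hk⟩
    · rw [← map_pow, MulEquiv.map_eq_one_iff] at h
      rw [trace_of_pow_two_pow (k := 2) (show g ^ 4 = 1 from congrArg Subtype.val h),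
        zero_pow (by positivity)]
    · rw [hL] at hk
      have h := congrArg (fun z => ((ψ.symm z : ↥G) : GL (Fin 4) F)) hk
      simp only [map_mul, map_inv, map_pow, MulEquiv.symm_apply_apply, Subgroup.coe_mul, Subgroup.coe_inv,
        Subgroup.coe_pow] at h
      rw [← trace_pow_two_pow, ← Units.val_pow_eq_pow_val, ← h, Units.val_mul, Units.val_mul,
        Matrix.trace_units_conj]
  -- the degree of the field divides `2m+1`
  obtain ⟨⟨n, hn0⟩, -, hn⟩ := FiniteField.card F 2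
  have hn' : Fintype.card F = 2 ^ n := hn
  set N := 2 * m + 1 with hN
  have hnN : n ∣ N := by
    rw [Nat.dvd_iff_mod_eq_zero]
    by_contra hr
    have hle : Fintype.card F ≤ 2 ^ (N % n) := by
      refine card_le_of_frob (Nat.pos_of_ne_zero hr) fun x => ?_
      have hx : x ^ 2 ^ N = x := by
        refine mem_fixField.1 ?_
        rw [C.traces_top (fixField F N) fun g hg => mem_fixField.2 (htr g hg)]
        exact Subfield.mem_top x
      conv_lhs at hx => rw [← Nat.div_add_mod N n, pow_add, pow_mul, pow_mul, ← hn', FiniteField.pow_card_pow]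
      exact hx
    rw [hn'] at hle
    have := (Nat.pow_le_pow_iff_right (by norm_num : 1 < 2)).1 hle
    have := Nat.mod_lt N hn0
    omega
  -- the order divides that of the symplectic group
  have hdvd : (2 ^ N) ^ 2 + 1 ∣ Fintype.card F ^ 4 * ((Fintype.card F ^ 2 - 1) * (Fintype.card F ^ 4 - 1)) := by
    rw [← card_sp4, ← hL]
    refine dvd_trans ?_ (Subgroup.card_dvd_of_le C.le)
    rw [Nat.card_congr ψ.toEquiv, card_sz P]
    exact dvd_mul_left _ _
  have hq2 : Fintype.card F ^ 2 - 1 ∣ (2 ^ N) ^ 2 - 1 := by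
    obtain ⟨c, hc⟩ := hnN
    rw [hn', hc, show ((2 : ℕ) ^ (n * c)) ^ 2 = ((2 ^ n) ^ 2) ^ c by ring]
    exact Nat.sub_one_dvd_pow_sub_one _ _
  have hodd : Odd ((2 ^ N) ^ 2 + 1) :=
    (Nat.even_pow.2 ⟨Nat.even_pow.2 ⟨even_two, by omega⟩, two_ne_zero⟩).add_one
  have hcop : ((2 ^ N) ^ 2 + 1).Coprime (Fintype.card F ^ 2 - 1) := by
    refine Nat.Coprime.coprime_dvd_right hq2 (Nat.coprime_of_dvd fun p hp h1 h2 => ?_)
    have h3 := Nat.dvd_sub h1 h2
    have h1' : 1 ≤ (2 ^ N) ^ 2 := Nat.one_le_pow _ _ (by positivity)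
    rw [show (2 ^ N) ^ 2 + 1 - ((2 ^ N) ^ 2 - 1) = 2 by omega, Nat.prime_dvd_prime_iff_eq hp Nat.prime_two] at h3
    subst h3
    exact (Nat.not_even_iff_odd.2 hodd) (even_iff_two_dvd.2 h1)
  have hcop2 : ((2 ^ N) ^ 2 + 1).Coprime (Fintype.card F ^ 4) := by
    rw [hn', ← pow_mul 2 n]
    exact (Nat.coprime_two_right.2 hodd).pow_right _
  have h4 : Fintype.card F ^ 4 - 1 = (Fintype.card F ^ 2 + 1) * (Fintype.card F ^ 2 - 1) := by
    rw [← Nat.sq_sub_sq, ← pow_mul, one_pow]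
  have h := hcop2.dvd_of_dvd_mul_left hdvd
  rw [h4] at h
  have h' := hcop.dvd_of_dvd_mul_right (hcop.dvd_of_dvd_mul_left h)
  have hle := Nat.le_of_dvd (Nat.succ_pos _) h'
  rw [hn', ← pow_mul, ← pow_mul] at hle
  have hN' : N * 2 ≤ n * 2 := (Nat.pow_le_pow_iff_right (by norm_num : 1 < 2)).1 (by omega)
  have := Nat.le_of_dvd (by omega) hnN
  rw [hn', show n = N by omega]

end CfsgLib.Sp4Resid
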