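import Cfsg.Agent.Lib.Sp4Resid.Core
import Cfsg.Agent.Lib.Geo.AschTrace
import Cfsg.Agent.Lib.NineSymp.Linear
import Cfsg.Agent.Lib.SuzukiGroup.Eigenvalue

/-!
Traces on the core: they generate the field.
-/

set_option autoImplicit false

open scoped MatrixGroups Matrix

namespace CfsgLib.Sp4Resid

open Matrix Cfsg.Lie CfsgLib.SuzukiGroup CfsgLib.Large.SzReal CfsgLib.GeomClasses CfsgLib.GeomClasses.Symp Module

variable {F : Type*} [Field F] [CharP F 2] [Fintype F]

local notation "M4" => Matrix (Fin 4) (Fin 4) F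

omit [Fintype F] in
theorem coe_inv_sp {g : GL (Fin 4) F} (hg : g ∈ Sp4 F) :
    ((g⁻¹ : GL (Fin 4) F) : M4) = jMat * (g : M4)ᵀ * jMat := by
  calc ((g⁻¹ : GL (Fin 4) F) : M4) = (jMat * (g : M4)ᵀ * jMat * (g : M4)) * ((g⁻¹ : GL (Fin 4) F) : M4) := by
        rw [colSymp_inverse ((SuzukiGroup.mem_sp4_iff _).1 hg), one_mul]
    _ = _ := by rw [Matrix.mul_assoc, Units.mul_inv, mul_one]

omit [Fintype F] in
theorem trace_inv_sp {g : GL (Fin 4) F} (hg : g ∈ Sp4 F) :
    ((g⁻¹ : GL (Fin 4) F) : M4).trace = (g : M4).trace := by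
  rw [coe_inv_sp hg, Matrix.trace_mul_cycle, jMat_mul_jMat, one_mul, Matrix.trace_transpose]

omit [Fintype F] in
theorem trace_sq (M : M4) : (M * M).trace = M.trace ^ 2 := by
  simp only [Matrix.trace, Matrix.diag, Matrix.mul_apply, Fin.sum_univ_four]
  linear_combination (M 0 1 * M 1 0 + M 0 2 * M 2 0 + M 0 3 * M 3 0 + M 1 2 * M 2 1 + M 1 3 * M 3 1 +
    M 2 3 * M 3 2 - M 0 0 * M 1 1 - M 0 0 * M 2 2 - M 0 0 * M 3 3 - M 1 1 * M 2 2 - M 1 1 * M 3 3 -
    M 2 2 * M 3 3) * (CharTwo.two_eq_zero (R := F))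

omit [Fintype F] in
theorem trace_pow_two_pow (M : M4) (k : ℕ) : (M ^ 2 ^ k).trace = M.trace ^ 2 ^ k := by
  induction k with
  | zero => simp
  | succ k ih => rw [pow_succ, pow_mul, pow_mul, sq, trace_sq, ih]

omit [Fintype F] in
theorem trace_one_four : (1 : M4).trace = 0 := by
  rw [Matrix.trace_one, Fintype.card_fin]
  linear_combination (2 : F) * CharTwo.two_eq_zero (R := F)

omit [Fintype F] in
/-- Two-elements have trace zero. -/
theorem trace_of_pow_two_pow {g : GL (Fin 4) F} {k : ℕ} (h : g ^ 2 ^ k = 1) : (g : M4).trace = 0 := by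
  have h' := trace_pow_two_pow (g : M4) k
  rw [← Units.val_pow_eq_pow_val, h, Units.val_one, trace_one_four] at h'
  exact eq_zero_of_pow_eq_zero h'.symm

omit [Fintype F] in
/-- Elements of order three have trace in the prime field. -/
theorem trace_of_pow_three {g : GL (Fin 4) F} (hg : g ∈ Sp4 F) (h : g ^ 3 = 1) :
    (g : M4).trace ^ 2 = (g : M4).trace := by
  rw [← trace_sq, ← Units.val_mul, show g * g = g⁻¹ from eq_inv_of_mul_eq_one_left (by rw [← h, pow_succ, sq]),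
    trace_inv_sp hg]

/-- The field with at most `2 ^ k` elements. -/
def fixField (F : Type*) [Field F] [CharP F 2] (k : ℕ) : Subfield F :=
  RingHom.eqLocusField (iterateFrobenius F 2 k) (RingHom.id F)

omit [Fintype F] in
theorem mem_fixField {k : ℕ} {x : F} : x ∈ fixField F k ↔ x ^ 2 ^ k = x := by
  show iterateFrobenius F 2 k x = x ↔ _
  rw [iterateFrobenius_def]

theorem card_le_of_frob {k : ℕ} (hk : 0 < k) (h : ∀ x : F, x ^ 2 ^ k = x) : Fintype.card F ≤ 2 ^ k := by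
  classical
  have h2 : 1 < 2 ^ k := Nat.one_lt_pow hk.ne' (by norm_num)
  have hd := FiniteField.X_pow_card_sub_X_natDegree_eq F h2
  have h0 := FiniteField.X_pow_card_sub_X_ne_zero F h2
  rw [← hd]
  refine le_trans ?_ ((Multiset.toFinset_card_le _).trans (Polynomial.card_roots' _))
  rw [← Finset.card_univ]
  refine Finset.card_le_card fun x _ => ?_
  rw [Multiset.mem_toFinset, Polynomial.mem_roots h0]
  simp [h x]

variable {G : Subgroup (GL (Fin 4) F)}

theorem Core.traces_top (C : Core G) (K : Subfield F) (h : ∀ g ∈ G, (g : M4).trace ∈ K) : K = ⊤ := by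
  by_contra hK
  have hirr : Cfsg.Geo.ActsAbsolutelyIrreducibly (Cfsg.Geo.matrixSet G) :=
    ⟨fun W hW => C.irr W fun g hg u hu => hW _ ⟨g, hg, rfl⟩ ⟨u, hu, by rw [Matrix.toLin'_apply]⟩,
      fun M hM => C.scalar M fun g hg => hM _ ⟨g, hg, rfl⟩⟩
  obtain ⟨B, hB⟩ := CfsgLib.Geo.Asch.realisable_of_traces (CfsgLib.NineSymp.algOf_top_of_absIrred hirr) K h
  refine C.noSub K hK B⁻¹ fun g hg i j => ?_
  rw [inv_inv]
  exact hB _ ⟨g, hg, rfl⟩ i j

theorem Core.card_le_of_traces (C : Core G) {k : ℕ} (hk : 0 < k)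
    (h : ∀ g ∈ G, (g : M4).trace ^ 2 ^ k = (g : M4).trace) : Fintype.card F ≤ 2 ^ k := by
  refine card_le_of_frob hk fun x => mem_fixField.1 ?_
  rw [C.traces_top (fixField F k) fun g hg => mem_fixField.2 (h g hg)]
  exact Subfield.mem_top x

end CfsgLib.Sp4Resid
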