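import Cfsg.Agent.Lib.SuzukiGroup.TraceOrder
import Cfsg.Agent.Lib.Sp4Resid.Traces

/-!
In `Sz(q)` every element is a `2`-element or conjugate to its `q`-th power.
-/

set_option autoImplicit false

open scoped MatrixGroups Matrix

namespace CfsgLib.Sp4Resid

open Cfsg.Lie CfsgLib.SuzukiGroup

variable {F : Type*} [Field F] [Fintype F] [CharP F 2] {m : ℕ}
  (P : Params F (2 ^ (m + 1))) (hF : Fintype.card F = 2 ^ (2 * m + 1)) (hm : 1 ≤ m)

local notation "K" => AlgebraicClosure F

include P hF hm in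
theorem sz_fpf_pow_card {g : ↥(Sz F (2 ^ (m + 1)))} (hg : FPF g) :
    ∃ k, k * g * k⁻¹ = g ^ Fintype.card F := by
  classical
  set C := Subgroup.centralizer {g}
  set N := Subgroup.normalizer (C : Set ↥(Sz F (2 ^ (m + 1))))
  obtain ⟨χ, hχ, hroot⟩ := exists_char P hF hm hg
  have hgC : g ∈ C := Subgroup.mem_centralizer_singleton_iff.2 rfl
  have hmem : ∀ x : N, (x : ↥(Sz F (2 ^ (m + 1)))) * g * (x : ↥(Sz F (2 ^ (m + 1))))⁻¹ ∈ C := fun x =>
    (Subgroup.mem_normalizer_iff.1 x.2 g).1 hgC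
  let φ : N → K := fun x => χ ⟨_, hmem x⟩
  let p : Polynomial K := Polynomial.X ^ 4 + Polynomial.C (algebraMap F K (mat g).trace) * Polynomial.X ^ 3 +
    Polynomial.C (algebraMap F K (P.θ (mat g).trace)) * Polynomial.X ^ 2 +
    Polynomial.C (algebraMap F K (mat g).trace) * Polynomial.X + 1
  have hdeg : p.natDegree = 4 := by
    simp only [p]; compute_degree!
  have hp0 : p ≠ 0 := fun h => by rw [h, Polynomial.natDegree_zero] at hdeg; omega
  -- a value of the character at an element with the trace of `g` is a root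
  have hmemp : ∀ y : C, (mat (y : ↥(Sz F (2 ^ (m + 1))))).trace = (mat g).trace → χ y ∈ p.roots.toFinset := by
    intro y hy
    rw [Multiset.mem_toFinset, Polynomial.mem_roots hp0, Polynomial.IsRoot]
    have h := hroot y
    rw [det_smul_add P hF hm, hy] at h
    simpa [p] using h
  have htrconj : ∀ x h : ↥(Sz F (2 ^ (m + 1))), (mat (x * h * x⁻¹)).trace = (mat h).trace := fun x h => by
    simp only [mat, Subgroup.coe_mul, Subgroup.coe_inv, Units.val_mul]
    exact Matrix.trace_units_conj _ _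
  have hφ : ∀ x, φ x ∈ p.roots.toFinset := fun x => hmemp _ (htrconj _ g)
  have hfib : ∀ c ∈ Finset.univ.image φ,
      (Finset.univ.filter fun x : N => φ x = c).card ≤ Nat.card ↥C := by
    intro c _
    rcases (Finset.univ.filter fun x : N => φ x = c).eq_empty_or_nonempty with h | ⟨x₀, hx₀⟩
    · simp [h]
    rw [Nat.card_eq_fintype_card, ← Finset.card_univ]
    have hmap : ∀ x ∈ Finset.univ.filter (fun x : N => φ x = c),
        (x₀ : ↥(Sz F (2 ^ (m + 1))))⁻¹ * (x : ↥(Sz F (2 ^ (m + 1)))) ∈ C := by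
      intro x hx
      have he : φ x = φ x₀ := ((Finset.mem_filter.1 hx).2).trans (Finset.mem_filter.1 hx₀).2.symm
      have he' := congrArg Subtype.val (hχ (show χ ⟨_, hmem x⟩ = χ ⟨_, hmem x₀⟩ from he))
      simp only at he'
      rw [Subgroup.mem_centralizer_singleton_iff]
      calc (x₀ : ↥(Sz F (2 ^ (m + 1))))⁻¹ * x * g =
          (x₀ : ↥(Sz F (2 ^ (m + 1))))⁻¹ * ((x : ↥(Sz F (2 ^ (m + 1)))) * g * (x : ↥(Sz F (2 ^ (m + 1))))⁻¹) * x := by group
        _ = g * ((x₀ : ↥(Sz F (2 ^ (m + 1))))⁻¹ * x) := by rw [he']; group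
    refine Finset.card_le_card_of_injOn (fun x => if h : _ then ⟨_, hmap x h⟩ else ⟨1, one_mem C⟩)
      (fun x _ => Finset.mem_coe.2 (Finset.mem_univ _)) ?_
    intro x hx y hy hxy
    simp only [Finset.coe_filter, Set.mem_ofPred_eq] at hx hy
    have hx' : x ∈ Finset.univ.filter (fun x : N => φ x = c) := Finset.mem_filter.2 hx
    have hy' : y ∈ Finset.univ.filter (fun x : N => φ x = c) := Finset.mem_filter.2 hy
    simp only [dif_pos hx', dif_pos hy'] at hxy
    exact Subtype.ext (mul_left_cancel (congrArg Subtype.val hxy))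
  have h4 : 4 * Nat.card ↥C ≤ Nat.card ↥C * (Finset.univ.image φ).card := by
    rw [← fpf_card_normalizer P hF hm hg]
    calc Nat.card ↥N = (Finset.univ : Finset N).card := by rw [Nat.card_eq_fintype_card, Finset.card_univ]
      _ ≤ _ := Finset.card_le_mul_card_image _ _ hfib
  rw [mul_comm 4] at h4
  have h4' : 4 ≤ (Finset.univ.image φ).card := Nat.le_of_mul_le_mul_left h4 Nat.card_pos
  have heq : Finset.univ.image φ = p.roots.toFinset :=
    Finset.eq_of_subset_of_card_le (Finset.image_subset_iff.2 fun x _ => hφ x)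
      (((Multiset.toFinset_card_le _).trans (hdeg ▸ p.card_roots')).trans h4')
  let gq : C := ⟨g ^ Fintype.card F, pow_mem hgC _⟩
  have hgq : χ gq ∈ Finset.univ.image φ := by
    rw [heq]
    refine hmemp _ ?_
    show (mat (g ^ Fintype.card F)).trace = _
    simp only [mat, Subgroup.coe_pow, Units.val_pow_eq_pow_val]
    rw [hF, trace_pow_two_pow, ← hF, FiniteField.pow_card]
  obtain ⟨x, -, hx⟩ := Finset.mem_image.1 hgq
  exact ⟨x, congrArg Subtype.val (hχ (show χ ⟨_, hmem x⟩ = χ gq from hx))⟩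

include P hF hm in
theorem sz_two_or_pow_card (g : ↥(Sz F (2 ^ (m + 1)))) :
    g ^ 4 = 1 ∨ ∃ k, k * g * k⁻¹ = g ^ Fintype.card F := by
  rcases eq_or_ne g 1 with rfl | h1
  · exact Or.inl (one_pow 4)
  rcases trichotomy P h1 with ⟨k, hk⟩ | ⟨k, x, hx, hk⟩ | hf
  · exact Or.inl (orderOf_dvd_iff_pow_eq_one.1 (orderOf_dvd_four P hk))
  · refine Or.inr ⟨1, ?_⟩
    rw [one_mul, inv_one, mul_one]
    have hd : orderOf g ∣ Fintype.card F - 1 := by
      rw [← orderOf_injective (MulAut.conj k).toMonoidHom (MulAut.conj k).injective g]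
      change orderOf (k * g * k⁻¹) ∣ _
      rw [← card_torus P]
      exact Subgroup.orderOf_dvd_natCard _ (by rw [hk]; exact ⟨x, rfl⟩)
    conv_lhs => rw [← pow_one g]
    rw [pow_eq_pow_iff_modEq]
    exact ((Nat.modEq_iff_dvd' Fintype.card_pos).2 hd).symm.symm
  · exact Or.inr (sz_fpf_pow_card P hF hm hf)

end CfsgLib.Sp4Resid
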